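import Cfsg.Agent.SM.Ex.FDefs
import Cfsg.Agent.H190.Cov.K128
import Cfsg.Agent.H190.Cov.K98
import Cfsg.Agent.H190.Cov.Two.K19
import Cfsg.Agent.H563.KG.CycFix
import Cfsg.Agent.OrdDiv.Table

/-!
# S3570: `E₆(2)` has no factorisation (helper70)

* `K7331` : a subgroup of order divisible by `73 * 31` is the whole group;
* `K131731` : a subgroup of order divisible by `13 * 17 * 31` is the whole group;
* `noFac_e62`.
-/

set_option autoImplicit false
set_option linter.unusedVariables false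
set_option linter.unnecessarySeqFocus false

namespace Cfsg.Agent.SM.Ex.E62

open Cfsg Cfsg.Agent.OrdDiv Cfsg.Agent.H436 Cfsg.Agent.H902 Cfsg.Agent.H902.Names Cfsg.Agent.H915.GN
  Cfsg.Agent.H290.ElReg Cfsg.Agent.H290.ElTab Cfsg.Agent.H290.ElCross Cfsg.Agent.H264.FKS Cfsg.Agent.H56.Exc
  Cfsg.Agent.H325.Loc Cfsg.Agent.H325.Same Cfsg.Agent.H325.IsoExc Cfsg.Agent.H325.IsoFree Cfsg.Agent.H563.KG
  Cfsg.Agent.H190.Odd Cfsg.Agent.H190.Cov Cfsg.Agent.H190.Cov.Two

/-- the order of `E₆(2)` -/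
def G1 : ℕ := 2 ^ 36 * 3 ^ 6 * 5 ^ 2 * 7 ^ 3 * 13 * 17 * 31 * 73

theorem prim73 : Prim 2 9 73 := by
  refine prim_of_order (by norm_num) (by norm_num) (by norm_num) ?_
  rw [orderOf_eq_iff (by norm_num)]
  refine ⟨by decide, fun m hm hm0 => ?_⟩
  interval_cases m <;> decide

theorem prim17 : Prim 2 8 17 := by
  refine prim_of_order (by norm_num) (by norm_num) (by norm_num) ?_
  rw [orderOf_eq_iff (by norm_num)]
  refine ⟨by decide, fun m hm hm0 => ?_⟩
  interval_cases m <;> decide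

theorem eq73 {r : ℕ} (h : Prim 2 9 r) : r = 73 := by
  have h1 := prim_mem (by norm_num) h (l := [7, 73]) (by norm_num) (by norm_num)
  simp only [List.mem_cons, List.not_mem_nil, or_false] at h1
  rcases h1 with rfl | rfl
  · exact absurd ((h.dvd_iff 3).1 (by norm_num)) (by norm_num)
  · rfl

theorem eq17 {r : ℕ} (h : Prim 2 8 r) : r = 17 := by
  have h1 := prim_mem (by norm_num) h (l := [3, 5, 17]) (by norm_num) (by norm_num)
  simp only [List.mem_cons, List.not_mem_nil, or_false] at h1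
  rcases h1 with rfl | rfl | rfl
  · exact absurd ((h.dvd_iff 2).1 (by norm_num)) (by norm_num)
  · exact absurd ((h.dvd_iff 4).1 (by norm_num)) (by norm_num)
  · rfl

theorem eq31 {r : ℕ} (h : Prim 2 5 r) : r = 31 := by
  have h1 := prim_mem (by norm_num) h (l := [31]) (by norm_num) (by norm_num)
  simpa using h1

theorem prime_mem1 {t : ℕ} (ht : t.Prime) (h : t ∣ G1) :
    t = 2 ∨ t = 3 ∨ t = 5 ∨ t = 7 ∨ t = 13 ∨ t = 17 ∨ t = 31 ∨ t = 73 := by
  unfold G1 at h
  simp only [ht.dvd_mul] at h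
  rcases h with ((((((h | h) | h) | h) | h) | h) | h) | h
  · exact Or.inl ((Nat.prime_dvd_prime_iff_eq ht (by norm_num)).1 (ht.dvd_of_dvd_pow h))
  · have := (Nat.prime_dvd_prime_iff_eq ht (by norm_num)).1 (ht.dvd_of_dvd_pow h); omega
  · have := (Nat.prime_dvd_prime_iff_eq ht (by norm_num)).1 (ht.dvd_of_dvd_pow h); omega
  · have := (Nat.prime_dvd_prime_iff_eq ht (by norm_num)).1 (ht.dvd_of_dvd_pow h); omega
  · have := (Nat.prime_dvd_prime_iff_eq ht (by norm_num)).1 h; omega
  · have := (Nat.prime_dvd_prime_iff_eq ht (by norm_num)).1 h; omega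
  · have := (Nat.prime_dvd_prime_iff_eq ht (by norm_num)).1 h; omega
  · have := (Nat.prime_dvd_prime_iff_eq ht (by norm_num)).1 h; omega

/-- the test of the orders in the other characteristics -/
def tab1 (m : ℕ) : Bool := (reg 78).all fun x =>
  x.2.1 == 2 || !((OL x.1 (x.2.1 ^ x.2.2)) % m == 0 &&
    ((Art.dd x.1 (x.2.1 ^ x.2.2)) * G1) % (OL x.1 (x.2.1 ^ x.2.2)) == 0)

theorem tab1_2263 : tab1 2263 = true := by decide +kernel

theorem spor_73 : ∀ x ∈ Cfsg.Agent.OrdDiv.spor, x.2 % 73 ≠ 0 := by decide +kernel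

/-- **The name.** -/
theorem name_one (tb : OrderTable.{0}) {F : Type} [Field F] [CharP F 2] {S : Type} [Group S] [Finite S]
    [IsSimpleGroup S] (hna : ¬ IsMulCommutative S) (hK : IsKnownSimple' S) (hrep : Fth 78 F S)
    (hm : 2263 ∣ Nat.card S) (hd : Nat.card S ∣ G1) : ∃ g, IsNamed g S ∧ HasChar 2 g := by
  have hna' : ¬ ∀ a b : S, a * b = b * a := fun h => hna ⟨⟨h⟩⟩
  have h73 : 73 ∣ Nat.card S := Dvd.dvd.trans (by norm_num) hm
  obtain ⟨g, hgS⟩ := exists_named tb hK hna'
  rcases Cfsg.Agent.H192.Singer.cases_name hgS.cond with ⟨k, rfl⟩ | hsp | ⟨l, hl, hch⟩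
  · exfalso
    have hk : 5 ≤ k := hgS.cond
    obtain ⟨Φ⟩ : Nonempty (S ≃* alternatingGroup (Fin k)) := hgS.real
    have h2 := Cfsg.Agent.H290.ElRich.le_of_dvd_alt (show Nat.Prime 73 by norm_num) (by omega) Φ h73
    have h1 : 5 ^ 3 ∣ k.factorial :=
      Dvd.dvd.trans (by decide +kernel) (Nat.factorial_dvd_factorial (by omega : 15 ≤ k))
    exact absurd ((dvd_fact hk Φ h1 (by norm_num)).trans hd) (by decide +kernel)
  · exfalso
    have h1 := Cfsg.Agent.H192.Singer.spor_mem hsp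
    have h2 : Nat.card S = ordN g := hgS.ord
    exact spor_73 _ h1 (Nat.mod_eq_zero_of_dvd (h2 ▸ h73))
  · by_cases hpl : 2 = l
    · subst hpl
      exact ⟨g, hgS, hch⟩
    · exfalso
      obtain ⟨X, f₁, h1, h2, -⟩ := exists_lie hl hgS hch
      have hlF : (l : F) ≠ 0 := by
        intro h
        exact hpl ((Nat.prime_dvd_prime_iff_eq Nat.prime_two hl).1 ((CharP.cast_eq_zero_iff F 2 l).1 h))
      have h3 := lb_le hna' (by norm_num) hrep h1 hgS.real h2 hlF
      obtain ⟨hl', ha, hokX, heq⟩ := h2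
      have hreg := mem_reg (by norm_num) hl' ha hokX h3
      have hM : OL X (l ^ f₁) = Art.dd X (l ^ f₁) * Nat.card S := by unfold OL; rw [numL_eq]; exact heq.symm
      have h4 := List.all_eq_true.1 tab1_2263 (X, (l, f₁)) hreg
      simp only [Bool.or_eq_true, beq_iff_eq, Bool.not_eq_true', Bool.and_eq_false_imp, beq_eq_false_iff_ne] at h4
      rcases h4 with h4 | h4
      · exact hpl h4.symm
      · exact h4 (Nat.mod_eq_zero_of_dvd (hM ▸ hm.mul_left _))
          (Nat.mod_eq_zero_of_dvd (hM ▸ Nat.mul_dvd_mul_left _ hd))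

variable {F : Type} [Field F] [Fintype F]

theorem card_e62 (tb : OrderTable.{0}) (hq : Fintype.card F = 2) : Nat.card ↥(Lie.chevE6.group F) = G1 := by
  have hT := named_e6 (F := F) tb
  rw [hq] at hT
  have h : Nat.gcd 3 (2 - 1) * Nat.card ↥(Lie.chevE6.group F) = num (.e6 2) := hT.eq
  have h1 : num (.e6 2) = G1 := by decide +kernel
  rw [h1] at h
  simpa using h

/-- **`E₆(2)`, the primes 73, 31.** -/
theorem K7331 (tb : OrderTable.{0}) (hcyc : CycFixSolv.{0}) (hcf : CF) (hq : Fintype.card F = 2)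
    (B : Subgroup ↥(Lie.chevE6.group F)) (h73 : 73 ∣ Nat.card B) (h31 : 31 ∣ Nat.card B) : B = ⊤ := by
  have hfin : Finite ↥(Lie.chevE6.group F) := inferInstance
  have hch2 : CharP F 2 := charP_of_card_eq_prime hq
  have := Fact.mk Nat.prime_two
  have hT := named_e6 (F := F) tb
  rw [hq] at hT
  have hdB : Nat.card ↥B ∣ G1 := card_e62 tb hq ▸ Subgroup.card_subgroup_dvd_card B
  have hb : Big ↥(Lie.chevE6.group F) 73 73 9 := big_E6_9 hq (by norm_num) prim73
  have hpiso : PIso 2 73 ↥(Lie.chevE6.group F) := piso_E6 (F := F) (by rw [hq]; exact prim73)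
  obtain ⟨S, hSn, hSs, hSna, hbS, hrS, hri, hidx⟩ := one_section (n := 78) hcyc Nat.prime_two (F := F) fth_E6
    hb hpiso h73 (fun h => by
      have := h31.trans h
      norm_num at this) (fun t ht ht2 ht73 htB => by
      left
      refine good_of_big (hb.subgroup B) ht ht73 h73 fun k hk hkB => ?_
      have hkG := hkB.trans hdB
      rcases prime_mem1 ht (htB.trans hdB) with rfl | rfl | rfl | rfl | rfl | rfl | rfl | rfl
      · exact absurd rfl ht2
      · have : k ≤ 6 := pow_bound (M := G1) (by decide +kernel) hkG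
        interval_cases k <;> norm_num
      · have : k ≤ 2 := pow_bound (M := G1) (by decide +kernel) hkG
        interval_cases k <;> norm_num
      · have : k ≤ 3 := pow_bound (M := G1) (by decide +kernel) hkG
        interval_cases k <;> norm_num
      · have : k ≤ 1 := pow_bound (M := G1) (by decide +kernel) hkG
        interval_cases k <;> norm_num
      · have : k ≤ 1 := pow_bound (M := G1) (by decide +kernel) hkG
        interval_cases k <;> norm_num
      · have : k ≤ 1 := pow_bound (M := G1) (by decide +kernel) hkG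
        interval_cases k <;> norm_num
      · exact absurd rfl ht73)
  have hdS : Nat.card S ∣ G1 := (Subgroup.card_subgroup_dvd_card S).trans hdB
  have h31S : 31 ∣ Nat.card S := by
    rw [← S.index_mul_card] at h31
    rcases (Nat.Prime.dvd_mul (by norm_num)).1 h31 with h | h
    · have := h.trans hidx
      norm_num at this
    · exact h
  obtain ⟨g, hg, hch⟩ := name_one tb (F := F) hSna (hcf S)
    ((fth_E6.sub B.subtype B.subtype_injective).sub S.subtype S.subtype_injective)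
    (Nat.Coprime.mul_dvd_of_dvd_of_dvd (m := 31) (n := 73) (by norm_num) h31S hrS) hdS
  have hdT : Nat.card S ∣ num (.e6 2) := hdS.trans (by decide +kernel)
  obtain rfl := charp_e6_59 (p := 2) (f := 1) Nat.prime_two le_rfl hg.cond hch hg.eq hdT
    (fun s hs _ => by rw [eq31 hs]; exact h31S) (fun s hs _ => by rw [eq73 hs]; exact hrS)
  exact eq_top_of_name hT hg

theorem off_two (tb : OrderTable.{0}) (hq : Fintype.card F = 2) {B : Subgroup ↥(Lie.chevE6.group F)} {r : ℕ}
    (hr : r.Prime) (h2 : ¬ r * r ∣ G1) (h : r ∣ Nat.card B) : ¬ r ∣ B.index := fun h1 => h2 (by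
  rw [← card_e62 tb hq, ← B.card_mul_index]
  exact Nat.mul_dvd_mul h h1)

/-- **`E₆(2)`, the primes 13, 17, 31.** -/
theorem K131731 (tb : OrderTable.{0}) (hcyc : CycFixSolv.{0}) (hcf : CF) (hq : Fintype.card F = 2)
    (B : Subgroup ↥(Lie.chevE6.group F)) (h13 : 13 ∣ Nat.card B) (h17 : 17 ∣ Nat.card B) (h31 : 31 ∣ Nat.card B) :
    B = ⊤ := by
  have hp := Nat.prime_two
  have := Fact.mk hp
  have hch2 : CharP F 2 := charP_of_card_eq_prime hq
  have hfin : Finite ↥(Lie.chevE6.group F) := inferInstance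
  have hq' : Fintype.card F = 2 ^ 1 := hq
  have hT := named_e6 (F := F) tb
  rw [hq'] at hT
  have hoff : Off (2 ^ 1) [12, 8] B := by
    intro e he r hr
    have he' : e = 12 ∨ e = 8 := by simpa using he
    rcases he' with rfl | rfl
    · rw [eq13 hr]
      exact off_two tb hq (by norm_num) (by decide +kernel) h13
    · rw [eq17 hr]
      exact off_two tb hq (by norm_num) (by decide +kernel) h17
  have hq2 : 2 ≤ 2 ^ 1 := by norm_num
  have hq1 : 1 ≤ 2 ^ 1 := by norm_num
  have hdT : Nat.card ↥(Lie.chevE6.group F) ∣ OL .E6 (2 ^ 1) := by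
    rw [card_e62 tb hq]
    decide +kernel
  have hmem : ∀ c ∈ [12, 8], c = 12 ∨ c = 8 := by decide
  have hcl : ∀ c ∈ [12, 8], Cls c := by
    intro c hc
    have := hmem c hc
    unfold Cls
    omega
  have h7 : ∀ c ∈ [12, 8], 7 ≤ c := by decide
  have hnT : ∀ c ∈ [12, 8], ncl c (2 ^ 1) ∣ Nat.card ↥(Lie.chevE6.group F) := by
    rw [card_e62 tb hq]
    decide +kernel
  have hm12 : ((Ph 12 (2 ^ 1) * ((2 ^ 1) ^ 2 + 2 ^ 1 + 1) : ℕ) : ℤ) =
      (1 - ((2 ^ 1 : ℕ) : ℤ) ^ 2 + ((2 ^ 1 : ℕ) : ℤ) ^ 4) * (1 + ((2 ^ 1 : ℕ) : ℤ) + ((2 ^ 1 : ℕ) : ℤ) ^ 2) := by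
    decide +kernel
  have hm8 : ((Ph 8 (2 ^ 1) * ((2 ^ 1) ^ 2 - 1) : ℕ) : ℤ) =
      (1 + ((2 ^ 1 : ℕ) : ℤ) ^ 4) * (((2 ^ 1 : ℕ) : ℤ) ^ 2 - 1) := by
    decide +kernel
  have hbig : ∀ c ∈ [12, 8], ∀ r, Prim (2 ^ 1) c r → Big ↥(Lie.chevE6.group F) r (M8E (2 ^ 1) c) c := by
    intro c hc r hr
    rcases hmem c hc with rfl | rfl
    · exact big_E6_12 hq' hm12 hr
    · exact big_E6_8 hq' hm8 hr
  have hM : ∀ c ∈ [12, 8], M8E (2 ^ 1) c ∣ (2 ^ 1) ^ c - 1 := by decide +kernel
  have hpiso : PIso 2 13 ↥(Lie.chevE6.group F) := piso_E6_12 (F := F) (by rw [hq]; exact prim13)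
  have ho12 : Ord ↥(Lie.chevE6.group F) (2 ^ 1) 12 (Ph 12 (2 ^ 1) * ((2 ^ 1) ^ 2 + 2 ^ 1 + 1)) :=
    fun r hr x hx => (big_E6_12 hq' hm12 hr).card x hx
  have ho8 : Ord ↥(Lie.chevE6.group F) (2 ^ 1) 8 (Ph 8 (2 ^ 1) * ((2 ^ 1) ^ 2 - 1)) :=
    fun r hr x hx => (big_E6_8 hq' hm8 hr).card x hx
  have hdB : Nat.card ↥B ∣ OL .E6 (2 ^ 1) := (Subgroup.card_subgroup_dvd_card B).trans hdT
  obtain ⟨S, hSn, hSs, hSna, hnS, hidx, hbS, g, hg, hch⟩ := core_kill tb hcyc hcf tbl_E6_8 (fam := [12, 8])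
    (fun c hc => hc) (M := M8E (2 ^ 1)) (E := fun c => c)
    (e := 12) (e' := 8) (by decide) (by decide) (dist_12_8 hq2) hcl h7 hp le_rfl (F := F) fth_E6 hdT
    hbig hM
    (fun c hc s hs hd => le_seven' hs (n := c) (by have := hmem c hc; omega) hd)
    (by decide) hnT (c₀ := 12) (by decide) prim13 hpiso hoff (fun t ht htp htn htB => by
      refine good_e6c (by norm_num) hq2 (ho12.sub B) ?_ (ho8.sub B) ?_ hdB ?_ ?_ ht ?_
        (htn 12 (by decide)) (htn 8 (by decide)) htB
      · intro h3 r hr x hx h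
        exact (exact_e6_12 hq' h3 hr (x := (x : ↥(Lie.chevE6.group F))) (by rw [Subgroup.orderOf_coe]; exact hx)).2
          (h.trans (card_centralizer_sub B x))
      · intro r hr x hx
        exact ((hbig 8 (by decide) r hr).subgroup B).cyc x hx
      · exact hoff.ncl_dvd (by decide) c12 hq1 (hnT 12 (by decide))
      · exact hoff.ncl_dvd (by decide) c8 hq1 (hnT 8 (by decide))
      · intro h
        exact htp ((Nat.prime_dvd_prime_iff_eq ht hp).1 (ht.dvd_of_dvd_pow h)))
  have hdS : Nat.card S ∣ num (.e6 (2 ^ 1)) := IsNamed.card_dvd hT S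
  rcases charp_e6_812 hp le_rfl hg.cond hch hg.eq hdS (fun s hs _ => (hbS 8 (by decide) s hs).2.2)
    (fun s hs _ => (hbS 12 (by decide) s hs).2.2) with rfl | rfl | rfl
  · exact eq_top_of_name hT hg
  · exfalso
    rw [← S.index_mul_card] at h31
    rcases (Nat.Prime.dvd_mul (by norm_num)).1 h31 with h | h
    · exact absurd (h.trans (hidx 8 (by decide))) (by decide +kernel)
    · have h1 : Nat.card S ∣ num (.f4 (2 ^ 1)) := Dvd.intro_left _ hg.eq
      exact absurd (h.trans h1) (by decide +kernel)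
  · exfalso
    exact kill_psl3_big hp le_rfl hg prim17 fun x hx => (hbS 8 (by decide) 17 prim17).1.card x hx

/-- **`E₆(2)` has no factorisation.** -/
theorem noFac_e62 (hcf : SM.Ex.Cf) {F : Type} [Field F] [Fintype F] (hq : Fintype.card F = 2) :
    Ex78.NoFac ↥(Lie.chevE6.group F) := by
  have tb := Cfsg.Agent.OrdDiv.table.{0}
  have hfin : Finite ↥(Lie.chevE6.group F) := inferInstance
  have hG := card_e62 tb hq
  have key : ∀ X Y : Subgroup ↥(Lie.chevE6.group F), X ≠ ⊤ → Y ≠ ⊤ → Ex78.Pd X Y → ¬ 73 ∣ Nat.card X := by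
    intro X Y hX hY h h73
    have o73 := off_two tb hq (by norm_num) (by decide +kernel) h73
    have h13 : 13 ∣ Nat.card Y := (h.prime_dvd (by norm_num) (by rw [hG]; decide +kernel)).resolve_left fun h1 =>
      hX (K_E6 tb cycFixSolv hcf X (by
        intro e he r hr
        rw [hq] at hr
        have he' : e = 9 ∨ e = 12 := by simpa using he
        rcases he' with rfl | rfl
        · rwa [eq73 hr]
        · rw [eq13 hr]
          exact off_two tb hq (by norm_num) (by decide +kernel) h1))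
    have h17 : 17 ∣ Nat.card Y := (h.prime_dvd (by norm_num) (by rw [hG]; decide +kernel)).resolve_left fun h1 =>
      hX (K98_E6 tb cycFixSolv hcf X (by
        intro e he r hr
        rw [hq] at hr
        have he' : e = 9 ∨ e = 8 := by simpa using he
        rcases he' with rfl | rfl
        · rwa [eq73 hr]
        · rw [eq17 hr]
          exact off_two tb hq (by norm_num) (by decide +kernel) h1))
    rcases h.prime_dvd (r := 31) (by norm_num) (by rw [hG]; decide +kernel) with h1 | h1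
    · exact hX (K7331 tb cycFixSolv hcf hq X h73 h1)
    · exact hY (K131731 tb cycFixSolv hcf hq Y h13 h17 h1)
  intro X Y hX hY h
  rcases h.prime_dvd (r := 73) (by norm_num) (by rw [hG]; decide +kernel) with h1 | h1
  · exact key X Y hX hY h h1
  · exact key Y X hY hX h.symm h1

end Cfsg.Agent.SM.Ex.E62
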