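import Cfsg.Agent.H851.Rg.RowE6
import Cfsg.Agent.SM.Ex.HMain

/-!
# S3570, exceptional `S`: half classes without exactness (helper93)

The proofs of `H290/Rg/KH6`, `H851/Rg/RowE6`, with the hypothesis `HAt` reduced to the field `half`.
-/

set_option autoImplicit false

set_option exponentiation.threshold 7000

set_option linter.unusedSectionVars false

namespace Cfsg.Agent.SM.Ex.Rg.KH6

open Cfsg.Agent.H290.Rg Cfsg.Agent.H290.Rg.KH6

open Cfsg Cfsg.Agent.OrdDiv Cfsg.Agent.H436 Cfsg.Agent.H902 Cfsg.Agent.H902.Names Cfsg.Agent.H915.GN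
  Cfsg.Agent.H290.ElReg Cfsg.Agent.H290.ElTab Cfsg.Agent.H290.ElCross Cfsg.Agent.H264.FKS Cfsg.Agent.H56.Exc
  Cfsg.Agent.H325.Loc Cfsg.Agent.H563.KG Cfsg.Agent.H73.Rg Cfsg.Agent.H190.Odd Cfsg.Agent.H325.IsoExc
  Cfsg.Agent.H325.IsoFree Cfsg.Agent.H563.KG.Kill Cfsg.Agent.H72.Same

section num

variable {q : ℕ}

end num

section

variable {F : Type} [Field F] [Fintype F] {p f : ℕ} [CharP F p]

variable (tb : OrderTable.{0}) (hcyc : CycFixSolv.{0}) (hcf : CF)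

include tb hcyc hcf in
/-- **The simple normal subgroup.** -/
theorem half6 {D : TD} {c c' : ℕ} (ht : TblH 78 D [] c c') (hY : D.Y = .E6) (he : D.e = c) (he' : D.e' = c')
    (hex : D.exs = []) (hc : Cl6 c) (hc' : Cl6 c') (hne : c ≠ c') (hp : p.Prime) (hf : 1 ≤ f)
    (hq : Fintype.card F = p ^ f) (hq0 : D.q₀ ≤ p ^ f) (B : Subgroup ↥(Lie.chevE6.group F)) (hB : HOff p f [c, c'] B)
    (hgood : ∀ t : ℕ, t.Prime → t ≠ p → ¬ Prim p (f * c) t → ¬ Prim p (f * c') t → t ∣ Nat.card B →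
      Good B 78 t ∨ KillB B t) :
    ∃ (S : Subgroup B) (_ : S.Normal) (_ : IsSimpleGroup S), S.index ∣ c * M6 (p ^ f) c ∧ S.index ∣ c' * M6 (p ^ f) c' ∧
      (∀ d, (d = c ∨ d = c') → ∀ r, Prim p (f * d) r → r ∣ Nat.card B →
        Big S r (M6 (p ^ f) d) d ∧ r ∣ Nat.card S ∧ ¬ r ∣ S.index) ∧
      ∃ g, IsNamed g S ∧ HasChar p g := by
  have hp2 := hp.two_le
  have hq1 : 1 ≤ p ^ f := Nat.one_le_pow _ _ hp.pos
  have hT := named_e6 (F := F) tb
  rw [hq] at hT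
  have hdT : Nat.card ↥(Lie.chevE6.group F) ∣ OL .E6 (p ^ f) := by
    rw [← show num (.e6 (p ^ f)) = OL .E6 (p ^ f) from rfl, ← hT.eq]
    exact Dvd.intro_left _ rfl
  have hall : ∀ d ∈ [c, c'], Cl6 d := by
    intro d hd
    have hd' : d = c ∨ d = c' := by simpa using hd
    rcases hd' with rfl | rfl
    · exact hc
    · exact hc'
  have h8 : ∀ d, Cl6 d → 8 ≤ d := by rintro d (rfl | rfl | rfl) <;> norm_num
  have hex1 : ∀ d ∈ [c, c'], ∃ r, Prim p (f * d) r ∧ r ∣ Nat.card B := fun d hd =>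
    (hB d hd).exists_prim hp2 hf (by have := h8 d (hall d hd); omega) (by have := h8 d (hall d hd); omega)
  -- a class for the parabolic subgroups
  obtain ⟨c₀, hc₀, hc₀'⟩ : ∃ c₀ ∈ [c, c'], c₀ = 9 ∨ c₀ = 12 := by
    rcases hc with rfl | rfl | rfl
    · exact ⟨c', by simp, hc'.resolve_left (fun h => hne h.symm)⟩
    · exact ⟨9, by simp, Or.inl rfl⟩
    · exact ⟨12, by simp, Or.inr rfl⟩
  obtain ⟨r₀, hr₀, hr₀B⟩ := hex1 c₀ hc₀
  obtain ⟨S, hSn, hSs, hSna, hidx, hbS⟩ := coreK (n := 78) hcyc hp hf (F := F) (fam := [c, c']) (M := M6 (p ^ f))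
    (E := fun d => d) fth_E6 (fun d hd r hr => big6 hp hq (hall d hd) hr) hc₀ hr₀
    (piso6 hp hq hc₀' (prim_q hf hr₀)) hr₀B (fun d hd => by
      -- separation
      obtain ⟨d', hd', hdd⟩ : ∃ d' ∈ [c, c'], d ≠ d' := by
        have hd' : d = c ∨ d = c' := by simpa using hd
        rcases hd' with rfl | rfl
        · exact ⟨c', by simp, hne⟩
        · exact ⟨c, by simp, hne.symm⟩
      obtain ⟨r, hr, hrB⟩ := hex1 d' hd'
      exact sep_of hf hr hrB (not_dvd_pair (hall d hd) (hall d' hd') hdd) (M6_dvd hq1 (hall d hd))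
        (not_dvd_cl hp2 hf (hall d hd) (hall d' hd') hr)) hex1
    (fun t ht htp htn htB => hgood t ht htp (htn c (by simp)) (htn c' (by simp)) htB)
  have hS2 : ∀ d ∈ [c, c'], PP p (f * d) ≤ (Nat.gcd (Nat.card S) (PP p (f * d))) ^ 2 := fun d hd =>
    half_S hp2 (by have h1 := h8 d (hall d hd)
                   have h2 : 1 * d ≤ f * d := Nat.mul_le_mul_right _ hf
                   omega) S (hB d hd).half fun r hr hrB => (hbS d hd r hr hrB).2.2
  have hdS : Nat.card S ∣ OL .E6 (p ^ f) :=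
    ((Subgroup.card_subgroup_dvd_card S).trans (Subgroup.card_subgroup_dvd_card B)).trans hdT
  refine ⟨S, hSn, hSs, hidx c (by simp), hidx c' (by simp), fun d hd => hbS d (by simpa using hd), ?_⟩
  refine nameH (EE := c) (EE' := c') (N := M6 (p ^ f) c) (N' := M6 (p ^ f) c') tb
    (fun {_} _ _ {_ _ _ _} h Φ h5 hd => Cfsg.Agent.H427.Rg.alt_aut h Φ h5 hd) ht hp hf hq0 (F := F) (S := S) hSna (hcf S)
    ((fth_E6.sub B.subtype B.subtype_injective).sub S.subtype S.subtype_injective)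
    (by rw [hY]; exact hdS) (by rw [he]; exact hS2 c (by simp)) (by rw [he']; exact hS2 c' (by simp))
    (by rw [hex]; intro d hd; cases hd)
    (fun r hr hrS => (hbS c (by simp) r (he ▸ hr) (hrS.trans (Subgroup.card_subgroup_dvd_card S))).1)
    (fun r hr hrS => (hbS c' (by simp) r (he' ▸ hr) (hrS.trans (Subgroup.card_subgroup_dvd_card S))).1)
    (fun g l X a _ _ _ h => by cases h)

end

section

variable {F : Type} [Field F] [Fintype F] {p f : ℕ} [CharP F p]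

variable (tb : OrderTable.{0}) (hcyc : CycFixSolv.{0}) (hcf : CF)

theorem h1_of {c : ℕ} (hp : p.Prime) (hf : 1 ≤ f) {B : Subgroup ↥(Lie.chevE6.group F)} (hB : HAt p f c B) (hc : 8 ≤ c)
    {S : Subgroup B} (h : ∀ r, Prim p (f * c) r → r ∣ Nat.card B →
      Big S r (M6 (p ^ f) c) c ∧ r ∣ Nat.card S ∧ ¬ r ∣ S.index) : H1 p f c (Nat.card S) := by
  obtain ⟨r, hr, hrB⟩ := hB.exists_prim hp.two_le hf (by omega) (by omega)
  exact ⟨r, hr, (h r hr hrB).2.1⟩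

include tb hcyc hcf in
/-- **The classes 9, 8.** -/
theorem k98 (hp : p.Prime) (hf : 1 ≤ f) (hq : Fintype.card F = p ^ f) (hq3 : 3 ≤ p ^ f)
    (B : Subgroup ↥(Lie.chevE6.group F)) (hB : HOff p f [9, 8] B) (hg : GoodB p f 9 8 B) : B = ⊤ := by
  have hT := named_e6 (F := F) tb
  rw [hq] at hT
  obtain ⟨S, _, _, -, -, hbS, g, hgS, hch⟩ := half6 tb hcyc hcf tbl98 rfl rfl rfl rfl (Or.inr (Or.inl rfl)) (Or.inl rfl)
    (by norm_num) hp hf hq hq3 B hB hg
  obtain rfl := charp_e6_89 hp hf hgS.cond hch hgS.eq (card_le6 hT S)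
    (h1_of hp hf (hB 8 (by simp)) (by norm_num) (hbS 8 (Or.inr rfl)))
    (h1_of hp hf (hB 9 (by simp)) (by norm_num) (hbS 9 (Or.inl rfl)))
  exact eq_top_of_name hT hgS

include tb hcyc hcf in
/-- **The classes 9, 12.** -/
theorem k912 (hp : p.Prime) (hf : 1 ≤ f) (hq : Fintype.card F = p ^ f) (hq3 : 3 ≤ p ^ f)
    (B : Subgroup ↥(Lie.chevE6.group F)) (hB : HOff p f [9, 12] B) (hg : GoodB p f 9 12 B) : B = ⊤ := by
  have := Fact.mk hp
  have hT := named_e6 (F := F) tb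
  rw [hq] at hT
  obtain ⟨S, _, _, -, -, hbS, g, hgS, hch⟩ := half6 tb hcyc hcf tbl912 rfl rfl rfl rfl (Or.inr (Or.inl rfl))
    (Or.inr (Or.inr rfl)) (by norm_num) hp hf hq hq3 B hB hg
  obtain ⟨r, hr, hrB⟩ := (hB 9 (by simp)).exists_prim hp.two_le hf (by norm_num) (by norm_num)
  have hr' := prim_q hf hr
  rcases charp_e6_reg hp hf hgS.cond hch hgS.eq (card_le6 hT S)
    (h1_of hp hf (hB 12 (by simp)) (by norm_num) (hbS 12 (Or.inr rfl)))
    (h1_of hp hf (hB 9 (by simp)) (by norm_num) (hbS 9 (Or.inl rfl))) with rfl | rfl | ⟨f₁, hf₁, rfl⟩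
  · exact eq_top_of_name hT hgS
  · exfalso
    exact kill_psl4 hp hf hgS hr' fun x hx => (hbS 9 (Or.inl rfl) r hr hrB).1.card x hx
  · exfalso
    exact Cfsg.Agent.H325.Same.kill_ominus4 hp hf hf₁ hgS (by rw [mul_comm]; exact hr) (hbS 9 (Or.inl rfl) r hr hrB).2.1
      (((piso_E6 (F := F) (by rw [hq]; exact hr')).sub B).sub S)

include tb hcyc hcf in
/-- **The classes 8, 12.** -/
theorem k812 (hp : p.Prime) (hf : 1 ≤ f) (hq : Fintype.card F = p ^ f) (hq3 : 3 ≤ p ^ f)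
    (B : Subgroup ↥(Lie.chevE6.group F)) (hB : HOff p f [8, 12] B) (hg : GoodB p f 8 12 B) (hBt : B ≠ ⊤) :
    (∀ r, Prim (p ^ f) 9 r → ¬ r ∣ Nat.card B) ∧ ∀ r, Prim (p ^ f) 5 r → ¬ r ∣ Nat.card B := by
  have hq1 : 1 ≤ p ^ f := Nat.one_le_pow _ _ hp.pos
  have hT := named_e6 (F := F) tb
  rw [hq] at hT
  obtain ⟨S, hSn, hSs, hidx, -, hbS, g, hgS, hch⟩ := half6 tb hcyc hcf tbl812 rfl rfl rfl rfl (Or.inl rfl)
    (Or.inr (Or.inr rfl)) (by norm_num) hp hf hq (le_trans (by decide) hq3) B hB hg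
  have hcs := charp_e6_812 hp hf hgS.cond hch hgS.eq (card_le6 hT S)
    (h1_of hp hf (hB 8 (by simp)) (by norm_num) (hbS 8 (Or.inl rfl)))
    (h1_of hp hf (hB 12 (by simp)) (by norm_num) (hbS 12 (Or.inr rfl)))
  have hg' : g = .f4 (p ^ f) ∨ g = .psl 3 ((p ^ f) ^ 4) := by
    rcases hcs with rfl | rfl | rfl
    · exact absurd (eq_top_of_name hT hgS) hBt
    · exact Or.inl rfl
    · right
      rw [mul_comm 4 f, pow_mul]
  exact ⟨fun r hr => not_dvd_B hq1 (Or.inl rfl) hr hgS hg' hidx, fun r hr => not_dvd_B hq1 (Or.inr rfl) hr hgS hg' hidx⟩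

end

end Cfsg.Agent.SM.Ex.Rg.KH6

namespace Cfsg.Agent.SM.Ex.Rg

open Cfsg.Agent.H851.Rg

open Cfsg Cfsg.Lie Cfsg.Agent.H454.Reg Cfsg.Agent.H73.Rg Cfsg.Agent.H436 Cfsg.Agent.H563.KG

open Cfsg.Agent.OrdDiv (OrderTable)

open Cfsg.Agent.H290.Rg.KH6 (GoodB big6 ord6)

universe u

section

variable {F : Type} [Field F] [Fintype F] {p f : ℕ}

theorem good912 (tb : OrderTable.{0}) (hp : p.Prime) (hf : 1 ≤ f) (hq : Fintype.card F = p ^ f) (hq3 : 3 ≤ p ^ f)
    {B : Subgroup ↥(Lie.chevE6.group F)} (h : HOff p f [9, 12] B) : GoodB p f 9 12 B := by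
  intro t ht htp hn hn' htB
  have := charP_e6 hp hq
  have hfin : Finite ↥(Lie.chevE6.group F) := inferInstance
  exact Cfsg.Agent.H70.Rg.good_e6_9_12 hp hf hq3 ((ordE9 hp hq).sub B) ((ord6 (c := 12) hp hq (Or.inr (Or.inr rfl))).sub B)
    ((Subgroup.card_subgroup_dvd_card B).trans (card_e6_dvd tb hq)) (h 9 (by simp)).half (h 12 (by simp)).half ht hn hn'

theorem good98 (tb : OrderTable.{0}) (hp : p.Prime) (hf : 1 ≤ f) (hq : Fintype.card F = p ^ f) (hq3 : 3 ≤ p ^ f)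
    {B : Subgroup ↥(Lie.chevE6.group F)} (h : HOff p f [9, 8] B) : GoodB p f 9 8 B := by
  intro t ht htp hn hn' htB
  have := charP_e6 hp hq
  have hfin : Finite ↥(Lie.chevE6.group F) := inferInstance
  exact Cfsg.Agent.H70.Rg.good_e6_9_8 hp hf hq3 ((ordE9 hp hq).sub B) ((ord6 (c := 8) hp hq (Or.inl rfl)).sub B)
    ((Subgroup.card_subgroup_dvd_card B).trans (card_e6_dvd tb hq)) (h 9 (by simp)).half (h 8 (by simp)).half ht hn hn'

theorem good812 (tb : OrderTable.{0}) (hp : p.Prime) (hf : 1 ≤ f) (hq : Fintype.card F = p ^ f) (hq3 : 3 ≤ p ^ f)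
    {B : Subgroup ↥(Lie.chevE6.group F)} (h : HOff p f [8, 12] B) : GoodB p f 8 12 B := by
  intro t ht htp hn hn' htB
  have := charP_e6 hp hq
  have hfin : Finite ↥(Lie.chevE6.group F) := inferInstance
  refine Cfsg.Agent.H70.Rg.good_e6_8_12 hp hf hq3 ((ord6 (c := 8) hp hq (Or.inl rfl)).sub B) ?_
    ((ord6 (c := 12) hp hq (Or.inr (Or.inr rfl))).sub B) ?_ ((Subgroup.card_subgroup_dvd_card B).trans (card_e6_dvd tb hq))
    (h 8 (by simp)).half (h 12 (by simp)).half ht htp hn hn' htB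
  · intro r hr x hx
    exact ((big6 (c := 8) hp hq (Or.inl rfl) hr).subgroup B).cyc x hx
  · intro h3 r hr x hx h
    exact (Cfsg.Agent.H190.Odd.exact_e6_12 hq h3 hr (x := (x : ↥(Lie.chevE6.group F)))
      (by rw [Subgroup.orderOf_coe]; exact hx)).2 (h.trans (Cfsg.Agent.H190.Odd.card_centralizer_sub B x))

end

end Cfsg.Agent.SM.Ex.Rg
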