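import Cfsg.Agent.H95.Rg.KH7
import Cfsg.Agent.SM.Ex.HMain

/-!
# S3570, exceptional `S`: half classes without exactness (helper93)

The proofs of `H95/Rg/RedH7`, `H95/Rg/KH7`, with the hypothesis `HAt` reduced to the field `half`.
-/

set_option autoImplicit false

namespace Cfsg.Agent.SM.Ex.Rg

open Cfsg.Agent.H95.Rg

open Cfsg Cfsg.Agent.OrdDiv Cfsg.Agent.H436 Cfsg.Agent.H902 Cfsg.Agent.H290.ElReg Cfsg.Agent.H290.ElTab
  Cfsg.Agent.H56.Exc Cfsg.Agent.H325.Loc Cfsg.Agent.H563.KG Cfsg.Agent.H325.Cov Cfsg.Agent.H73.Rg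
  Cfsg.Agent.H325.IsoExc Cfsg.Agent.H325.IsoFree

section

variable {F : Type} [Field F] [Fintype F] {p f : ℕ}

theorem z_or (hp : p.Prime) (hf : 1 ≤ f) [CharP F p] (hq : Fintype.card F = p ^ f)
    (hdT : Nat.card ↥(Lie.chevE7.group F) ∣ OL .E7 (p ^ f)) {c : ℕ} (hc : c = 7 ∨ c = 9 ∨ c = 14 ∨ c = 18)
    {B : Subgroup ↥(Lie.chevE7.group F)} (h : HAt p f c B) {t : ℕ} (ht : t.Prime) (htp : t ≠ p)
    (htc : ¬ Prim p (f * c) t) {A : Subgroup B} (hAn : A.Normal) (hA : ∀ a ∈ A, ∀ b ∈ A, a * b = b * a)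
    (hAt : ∀ a ∈ A, a ^ t = 1) :
    Zc (p ^ f) c A ∨ ((∃ r, (f * c, p, r) ∈ exl) ∧ ∀ r, (f * c, p, r) ∈ exl → ¬ Bdk r t (p ^ f) = true) := by
  by_cases hZ : Zc (p ^ f) c A
  · exact Or.inl hZ
  right
  have hfin : Finite ↥(Lie.chevE7.group F) := inferInstance
  have hfc : 1 * c ≤ f * c := Nat.mul_le_mul_right _ hf
  have key : ∀ r, Prim p (f * c) r → r ∣ Nat.card B →
      ¬ (133 < r ^ (Nat.card B).factorization r ∨ ∀ k, 0 < k → t ^ k ∣ Nat.card B → ¬ r ∣ t ^ k - 1) := by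
    intro r hr hrB hcon
    exact hZ ⟨r, prim_q hf hr, cent_syl hp (fth_E7 (F := F)) ht htp (fun h => htc (h ▸ hr))
      (big7 hc hq (prim_q hf hr)) hrB hAn hA hAt hcon⟩
  have hdB : Nat.card ↥B ∣ OL .E7 (p ^ f) := (Subgroup.card_subgroup_dvd_card B).trans hdT
  have hpr : ∀ r, r.Prime → r ∣ Nat.gcd (Nat.card B) (PP p (f * c)) → Prim p (f * c) r ∧ r ∣ Nat.card B :=
    fun r hr hrd => ⟨prim_of_dvd_PP hp.two_le (by omega) hr (hrd.trans (Nat.gcd_dvd_right _ _)),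
      hrd.trans (Nat.gcd_dvd_left _ _)⟩
  obtain ⟨h1, h2⟩ := exc_of (k := f * c) hp (by
      rcases hc with rfl | rfl | rfl | rfl
      · exact Or.inl (Dvd.intro_left _ rfl)
      · exact Or.inr (Dvd.intro_left _ rfl)
      · exact Or.inl ⟨f * 2, by ring⟩
      · exact Or.inr ⟨f * 2, by ring⟩) (by omega) (Nat.gcd_dvd_right (Nat.card B) _) h.half (fun r hr hrd => by
      obtain ⟨h1, h2⟩ := hpr r hr hrd
      have h3 : r ^ (Nat.card B).factorization r ≤ 133 := by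
        by_contra hcon
        exact key r h1 h2 (Or.inl (by omega))
      have h4 : 1 ≤ (Nat.card B).factorization r := (hr.dvd_iff_one_le_factorization Nat.card_pos.ne').1 h2
      refine ⟨?_, fun h5 => ?_⟩
      · calc r = r ^ 1 := (pow_one r).symm
          _ ≤ r ^ (Nat.card B).factorization r := Nat.pow_le_pow_right hr.pos h4
          _ ≤ 133 := h3
      · have h6 : 2 ≤ (Nat.card B).factorization r :=
          (hr.pow_dvd_iff_le_factorization Nat.card_pos.ne').1 (h5.trans (Nat.gcd_dvd_left _ _))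
        have h7 : r ^ 2 ≤ 133 := (Nat.pow_le_pow_right hr.pos h6).trans h3
        have h8 := Nat.le_of_dvd (by have := hr.two_le; omega) (mod_of_prim' hp.two_le h1)
        have h9 : r ≤ 11 := by
          by_contra hcon
          have : 12 * 12 ≤ r * r := Nat.mul_le_mul (by omega) (by omega)
          rw [sq] at h7
          omega
        have h10 : c ∣ r - 1 := (Dvd.intro_left _ rfl).trans (mod_of_prim' hp.two_le h1)
        have h11 : r = 8 ∨ r = 9 ∨ r = 10 ∨ r = 11 := by omega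
        rcases h11 with rfl | rfl | rfl | rfl
        · exact absurd hr (by norm_num)
        · exact absurd hr (by norm_num)
        · exact absurd hr (by norm_num)
        · rcases hc with rfl | rfl | rfl | rfl <;> omega)
  refine ⟨h1, fun r hr hbd => ?_⟩
  have hrp : r.Prime := by
    have := List.all_eq_true.1 exl_prime _ hr
    simpa using this
  obtain ⟨h3, h4⟩ := hpr r hrp (h2 r hr)
  exact key r h3 h4 (Or.inr fun k hk hkd => bdk_spec hbd hk (hkd.trans hdB))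

/-- a normal elementary abelian subgroup is centralised by both classes -/
theorem z_both (hp : p.Prime) (hf : 1 ≤ f) [CharP F p] (hq : Fintype.card F = p ^ f)
    (hdT : Nat.card ↥(Lie.chevE7.group F) ∣ OL .E7 (p ^ f)) {c c' : ℕ} (hcc : (c, c') ∈ prs5)
    {B : Subgroup ↥(Lie.chevE7.group F)} (h : HAt p f c B) (h' : HAt p f c' B) {t : ℕ} (ht : t.Prime) (htp : t ≠ p)
    (htc : ¬ Prim p (f * c) t) (htc' : ¬ Prim p (f * c') t) {A : Subgroup B} (hAn : A.Normal)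
    (hA : ∀ a ∈ A, ∀ b ∈ A, a * b = b * a) (hAt : ∀ a ∈ A, a ^ t = 1) {a : B} (haA : a ∈ A) (hat : orderOf a = t) :
    Zc (p ^ f) c A ∧ Zc (p ^ f) c' A := by
  have hfin : Finite ↥(Lie.chevE7.group F) := inferInstance
  have hcm : (c = 7 ∨ c = 9 ∨ c = 14 ∨ c = 18) ∧ (c' = 7 ∨ c' = 9 ∨ c' = 14 ∨ c' = 18) := by
    have h1 : ∀ x ∈ prs5, (x.1 = 7 ∨ x.1 = 9 ∨ x.1 = 14 ∨ x.1 = 18) ∧ (x.2 = 7 ∨ x.2 = 9 ∨ x.2 = 14 ∨ x.2 = 18) := by
      decide
    exact h1 _ hcc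
  obtain ⟨hc, hc'⟩ := hcm
  have htB : t ∣ Nat.card B := hat ▸ orderOf_dvd_natCard a
  have htO : t ∣ OL .E7 (p ^ f) := (htB.trans (Subgroup.card_subgroup_dvd_card B)).trans hdT
  have hck := List.all_eq_true.1 ck_all _ hcc
  simp only [Bool.and_eq_true] at hck
  obtain ⟨⟨k1, k2⟩, k3⟩ := hck
  -- one class centralises, the other not
  have key : ∀ {e e' : ℕ}, (e = 7 ∨ e = 9 ∨ e = 14 ∨ e = 18) → (e' = 7 ∨ e' = 9 ∨ e' = 14 ∨ e' = 18) →
      ck1 e e' = true → ¬ Prim p (f * e') t → Zc (p ^ f) e' A →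
      ((∃ r, (f * e, p, r) ∈ exl) ∧ ∀ r, (f * e, p, r) ∈ exl → ¬ Bdk r t (p ^ f) = true) → False := by
    rintro e e' he he' hk hte hZ ⟨⟨r, hr⟩, hbd⟩
    have he0 : 0 < e := by omega
    have h1 := List.all_eq_true.1 hk _ hr
    have h2 : f * e % e = 0 := Nat.mul_mod_left f e
    have h3 : f * e / e = f := Nat.mul_div_cancel f he0
    simp only [h2, h3, beq_self_eq_true, Bool.not_true, Bool.false_or, Bool.and_eq_true, beq_iff_eq,
      List.all_eq_true, Bool.or_eq_true, Bool.not_eq_true', beq_eq_false_iff_ne] at h1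
    obtain ⟨⟨⟨a1, a2⟩, a3⟩, a4⟩ := h1
    have h4 := zc_dvd he' hq haA hat hZ
    rw [a2] at h4
    have hfe : 1 * e' ≤ f * e' := Nat.mul_le_mul_right _ hf
    have hP : ¬ t ∣ pc p (f * e') := by
      rw [← PP_eq (by simpa [okk] using a1) hp.two_le]
      exact fun h => hte (prim_of_dvd_PP hp.two_le (by omega) ht h)
    have h5 := (ht.dvd_mul.1 h4).resolve_right hP
    have h6 := mem_of_dvd_psp ht a3 h5
    rcases a4 t h6 with h7 | h7
    · exact h7 (Nat.mod_eq_zero_of_dvd h5)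
    · unfold Bde at h7
      rw [List.any_eq_true] at h7
      obtain ⟨⟨k, p', r'⟩, hy, h8⟩ := h7
      simp only [Bool.and_eq_true, beq_iff_eq] at h8
      obtain ⟨⟨rfl, rfl⟩, h9⟩ := h8
      exact hbd _ hy h9
  rcases z_or hp hf hq hdT hc h ht htp htc hAn hA hAt with z | z
  · refine ⟨z, ?_⟩
    rcases z_or hp hf hq hdT hc' h' ht htp htc' hAn hA hAt with z' | z'
    · exact z'
    · exact (key hc' hc k2 htc z z').elim
  · exfalso
    rcases z_or hp hf hq hdT hc' h' ht htp htc' hAn hA hAt with z' | z'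
    · exact key hc hc' k1 htc' z' z
    · obtain ⟨⟨r, hr⟩, hbd⟩ := z
      obtain ⟨⟨r', hr'⟩, hbd'⟩ := z'
      have h1 := List.all_eq_true.1 (List.all_eq_true.1 k3 _ hr) _ hr'
      have hc0 : 0 < c := by omega
      have hc0' : 0 < c' := by omega
      have b1 : f * c % c = 0 := Nat.mul_mod_left f c
      have b2 : f * c' % c' = 0 := Nat.mul_mod_left f c'
      have b3 : f * c / c = f := Nat.mul_div_cancel f hc0
      have b4 : f * c' / c' = f := Nat.mul_div_cancel f hc0'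
      simp only [b1, b2, b3, b4, beq_self_eq_true, Bool.and_self, Bool.not_true, Bool.false_or, Bool.and_eq_true,
        beq_iff_eq, List.all_eq_true, Bool.or_eq_true, Bool.not_eq_true', beq_eq_false_iff_ne] at h1
      obtain ⟨⟨⟨a1, a1'⟩, a2⟩, a3⟩ := h1
      have hfe : 1 * c ≤ f * c := Nat.mul_le_mul_right _ hf
      have hfe' : 1 * c' ≤ f * c' := Nat.mul_le_mul_right _ hf
      have hmem := mem_of_dvd_psp ht a2 htO
      rcases a3 t hmem with ((((h2 | h2) | h2) | h2) | h2) | h2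
      · exact h2 (Nat.mod_eq_zero_of_dvd htO)
      · exact htp h2
      · refine htc (prim_of_dvd_PP hp.two_le (by omega) ht ?_)
        rw [PP_eq (by simpa [okk] using a1) hp.two_le]
        exact Nat.dvd_of_mod_eq_zero h2
      · refine htc' (prim_of_dvd_PP hp.two_le (by omega) ht ?_)
        rw [PP_eq (by simpa [okk] using a1') hp.two_le]
        exact Nat.dvd_of_mod_eq_zero h2
      · unfold Bde at h2
        rw [List.any_eq_true] at h2
        obtain ⟨⟨k, p', r'⟩, hy, h8⟩ := h2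
        simp only [Bool.and_eq_true, beq_iff_eq] at h8
        obtain ⟨⟨rfl, rfl⟩, h9⟩ := h8
        exact hbd _ hy h9
      · unfold Bde at h2
        rw [List.any_eq_true] at h2
        obtain ⟨⟨k, p', r'⟩, hy, h8⟩ := h2
        simp only [Bool.and_eq_true, beq_iff_eq] at h8
        obtain ⟨⟨rfl, rfl⟩, h9⟩ := h8
        exact hbd' _ hy h9

/-- **Reducedness.** -/
theorem red7 (hcyc : CycFixSolv.{0}) (hp : p.Prime) (hf : 1 ≤ f) [CharP F p] (hq : Fintype.card F = p ^ f)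
    (hdT : Nat.card ↥(Lie.chevE7.group F) ∣ OL .E7 (p ^ f)) {c c' : ℕ} (hcc : (c, c') ∈ prs5)
    {B : Subgroup ↥(Lie.chevE7.group F)} (h : HAt p f c B) (h' : HAt p f c' B)
    {c₀ r₀ : ℕ} (hc₀ : c₀ ∈ [c, c']) (hr₀ : Prim p (f * c₀) r₀) (hpiso : PIso p r₀ ↥(Lie.chevE7.group F))
    (hr₀B : r₀ ∣ Nat.card B) :
    Red ↥B (Pr (FmH p f [c, c'] (M7 (p ^ f)) E7 (Nat.card B))) := by
  intro N hN hNr
  by_contra hne
  have hfin : Finite ↥(Lie.chevE7.group F) := inferInstance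
  have := Fact.mk hr₀.prime
  have := Fact.mk hp
  have hcm : (c = 7 ∨ c = 9 ∨ c = 14 ∨ c = 18) ∧ (c' = 7 ∨ c' = 9 ∨ c' = 14 ∨ c' = 18) := by
    have h1 : ∀ x ∈ prs5, (x.1 = 7 ∨ x.1 = 9 ∨ x.1 = 14 ∨ x.1 = 18) ∧ (x.2 = 7 ∨ x.2 = 9 ∨ x.2 = 14 ∨ x.2 = 18) := by
      decide
    exact h1 _ hcc
  have hc₀m : c₀ = 7 ∨ c₀ = 9 ∨ c₀ = 14 ∨ c₀ = 18 := by
    simp only [List.mem_cons, List.not_mem_nil, or_false] at hc₀
    rcases hc₀ with rfl | rfl
    · exact hcm.1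
    · exact hcm.2
  have hPr : Pr (FmH p f [c, c'] (M7 (p ^ f)) E7 (Nat.card B)) r₀ := pr_fmH.2 ⟨c₀, hc₀, hr₀, hr₀B⟩
  -- `N` is solvable
  have hsolv : Group.IsSolvable N := by
    obtain ⟨x, hx⟩ := exists_prime_orderOf_dvd_card' r₀ hr₀B
    apply hcyc N (MulAut.conjNormal (H := N) x) r₀ hr₀.prime _ (hNr r₀ hPr)
    · refine ⟨(Subgroup.centralizer {x}).comap N.subtype, ?_, fun a ha => ?_⟩
      · have := ((big7 (F := F) hc₀m hq (prim_q hf hr₀)).subgroup B).cyc x hx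
        let g : ↥((Subgroup.centralizer {x}).comap N.subtype) →* ↥(Subgroup.centralizer {x}) :=
          (N.subtype.comp ((Subgroup.centralizer {x}).comap N.subtype).subtype).codRestrict _ fun y => y.2
        exact isCyclic_of_injective g fun a b hab => by
          have h3 : ((a : N) : B) = ((b : N) : B) :=
            congrArg (fun z : ↥(Subgroup.centralizer {x}) => (z : B)) hab
          exact Subtype.ext (Subtype.ext h3)
      · rw [Subgroup.mem_comap, Subgroup.mem_centralizer_singleton_iff]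
        have h2 := congrArg Subtype.val ha
        rw [MulAut.conjNormal_apply, mul_inv_eq_iff_eq_mul] at h2
        exact h2.symm
    · rw [← map_pow, ← hx, pow_orderOf_eq_one, map_one]
  obtain ⟨t, ht, A, hAn, hAN, hA0, hAc, hAt⟩ := exists_elem' hN hsolv hne
  have hPt : IsPGroup t A := fun a => ⟨1, by rw [pow_one]; exact Subtype.ext (hAt a a.2)⟩
  have := Fact.mk ht
  obtain ⟨k, hk⟩ := IsPGroup.iff_card.1 hPt
  have hk0 : k ≠ 0 := by
    rintro rfl
    rw [pow_zero, Subgroup.card_eq_one] at hk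
    exact hA0 hk
  have htN : t ∣ Nat.card N := (hk ▸ dvd_pow_self t hk0 : t ∣ Nat.card A).trans (Subgroup.card_dvd_of_le hAN)
  have htp : t ≠ p := by
    rintro rfl
    exact hA0 (pcore_of_piso (hpiso.sub B) hr₀B A hAn hPt)
  have hnp : ∀ e ∈ [c, c'], ¬ Prim p (f * e) t := fun e he hpe =>
    hNr t (pr_fmH.2 ⟨e, he, hpe, htN.trans (Subgroup.card_subgroup_dvd_card N)⟩) htN
  obtain ⟨a, haA, ha1⟩ : ∃ a ∈ A, a ≠ 1 := by
    by_contra hcon
    push Not at hcon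
    exact hA0 ((Subgroup.eq_bot_iff_forall A).2 hcon)
  have hat : orderOf a = t := orderOf_eq_prime (hAt a haA) ha1
  obtain ⟨z, z'⟩ := z_both hp hf hq hdT hcc h h' ht htp (hnp c (by simp)) (hnp c' (by simp)) hAn hAc hAt haA hat
  exact no_z_both hp hq hcc ht htp haA hat z z'

end

end Cfsg.Agent.SM.Ex.Rg

namespace Cfsg.Agent.SM.Ex.Rg

open Cfsg.Agent.H95.Rg

open Cfsg Cfsg.Agent.OrdDiv Cfsg.Agent.H436 Cfsg.Agent.H902 Cfsg.Agent.H902.Names Cfsg.Agent.H290.ElReg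
  Cfsg.Agent.H290.ElTab Cfsg.Agent.H56.Exc Cfsg.Agent.H325.Loc Cfsg.Agent.H915.GN Cfsg.Agent.H264.FKS
  Cfsg.Agent.H563.KG Cfsg.Agent.H325.Cov Cfsg.Agent.H325.Same Cfsg.Agent.H73.Rg Cfsg.Agent.H325.IsoExc
  Cfsg.Agent.H325.IsoFree

section

variable {F : Type} [Field F] [Fintype F] {p f : ℕ}

/-- the simple normal subgroup -/
theorem nameK7 (tb : OrderTable.{0}) (hcyc : CycFixSolv.{0}) (hcf : CF) (hp : p.Prime) (hf : 1 ≤ f)
    (hq : Fintype.card F = p ^ f) {D : TD} {exc : List (Art.Sh × ℕ × ℕ)} (ht : TblH 133 D exc (E7 D.e) (E7 D.e'))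
    (hDY : D.Y = .E7) (hq₀ : D.q₀ ≤ 2) (hcc : (D.e, D.e') ∈ prs5)
    {B : Subgroup ↥(Lie.chevE7.group F)} (h1 : HAt p f D.e B) (h2 : HAt p f D.e' B)
    (hsep : ∀ c ∈ [D.e, D.e'], ¬ Nat.card B ∣ E7 c * M7 (p ^ f) c)
    (hex : ∀ c ∈ D.exs, ∃ s, Prim p (f * c) s ∧ s ∣ Nat.card B ∧ ¬ s ∣ E7 D.e * M7 (p ^ f) D.e)
    (hexc : ∀ (S : Subgroup B), ConH p f (M7 (p ^ f)) E7 D.e D.e' S → ∀ g l X a, l.Prime → IsNamed g S →
      IsLie g X l a → (X, (l, a)) ∈ exc → False) :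
    ∃ S : Subgroup B, ConH p f (M7 (p ^ f)) E7 D.e D.e' S ∧ ∃ g, IsNamed g S ∧ HasChar p g ∧
      Nat.card S ∣ num (.e7 (p ^ f)) := by
  have := Fact.mk hp
  have hchar : CharP F p := charP_of hp hf hq
  have hfin : Finite ↥(Lie.chevE7.group F) := inferInstance
  have hT := named_e7 (F := F) tb
  rw [hq] at hT
  have hq2 : 2 ≤ p ^ f := hp.two_le.trans (Nat.le_self_pow (by omega) p)
  have hOL : num (.e7 (p ^ f)) = OL .E7 (p ^ f) := rfl
  have hdT : Nat.card ↥(Lie.chevE7.group F) ∣ OL .E7 (p ^ f) := by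
    rw [← hOL, ← hT.eq]
    exact Dvd.intro_left _ rfl
  have hcm : ((D.e = 7 ∨ D.e = 9 ∨ D.e = 14 ∨ D.e = 18) ∧ (D.e' = 7 ∨ D.e' = 9 ∨ D.e' = 14 ∨ D.e' = 18)) ∧
      (D.e = 18 ∨ D.e' = 14 ∨ D.e' = 18) := by
    have h1 : ∀ x ∈ prs5, ((x.1 = 7 ∨ x.1 = 9 ∨ x.1 = 14 ∨ x.1 = 18) ∧ (x.2 = 7 ∨ x.2 = 9 ∨ x.2 = 14 ∨ x.2 = 18)) ∧
      (x.1 = 18 ∨ x.2 = 14 ∨ x.2 = 18) := by
      decide
    exact h1 _ hcc
  have hmem : ∀ c ∈ [D.e, D.e'], c = 7 ∨ c = 9 ∨ c = 14 ∨ c = 18 := by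
    intro c hc
    simp only [List.mem_cons, List.not_mem_nil, or_false] at hc
    rcases hc with rfl | rfl
    · exact hcm.1.1
    · exact hcm.1.2
  have hbig : ∀ c ∈ [D.e, D.e'], ∀ r, Prim (p ^ f) c r → Big ↥(Lie.chevE7.group F) r (M7 (p ^ f) c) (E7 c) :=
    fun c hc r hr => big7 (hmem c hc) hq hr
  have hred : Red ↥B (Pr (FmH p f [D.e, D.e'] (M7 (p ^ f)) E7 (Nat.card B))) := by
    have key : ∀ c₀ ∈ [D.e, D.e'], HAt p f c₀ B → (c₀ = 14 ∨ c₀ = 18) →
        Red ↥B (Pr (FmH p f [D.e, D.e'] (M7 (p ^ f)) E7 (Nat.card B))) := by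
      intro c₀ hc₀ hH h3
      obtain ⟨r₀, hr₀, hr₀B⟩ := hH.exists_prim hp.two_le hf (by omega) (by omega)
      have hpiso : PIso p r₀ ↥(Lie.chevE7.group F) := by
        rcases h3 with rfl | rfl
        · exact piso_E7 (F := F) (by rw [hq]; exact prim_q hf hr₀)
        · exact piso_E7_18 (F := F) (by rw [hq]; exact prim_q hf hr₀)
      exact red7 hcyc hp hf hq hdT hcc h1 h2 hc₀ hr₀ hpiso hr₀B
    rcases hcm.2 with h3 | h3 | h3
    · exact key D.e (by simp) h1 (Or.inr h3)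
    · exact key D.e' (by simp) h2 (Or.inl h3)
    · exact key D.e' (by simp) h2 (Or.inr h3)
  obtain ⟨S, hS, g, hg, hch⟩ := mainR tb hcyc hcf (fun {S} _ _ {m r N e} h Φ h5 hd => Cfsg.Agent.H427.Rg.alt_aut h Φ h5 hd)
    ht hp hf (hq₀.trans hq2) (F := F) fth_E7 (by rw [hDY]; exact hdT) hbig h1 h2 hsep hex hred hexc
  exact ⟨S, hS, g, hg, hch, IsNamed.card_dvd hT S⟩

variable (tb : OrderTable.{0}) (hcyc : CycFixSolv.{0}) (hcf : CF)

include tb hcyc hcf

/-- **`E₇(q)`, half of the classes 9, 14.** -/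
theorem KH_9_14 (hp : p.Prime) (hf : 1 ≤ f) (hq : Fintype.card F = p ^ f)
    (B : Subgroup ↥(Lie.chevE7.group F)) (h : HOff p f [9, 14] B) : B = ⊤ := by
  have hq1 : 1 ≤ p ^ f := Nat.one_le_pow _ _ hp.pos
  have hT := named_e7 (F := F) tb
  rw [hq] at hT
  have h1 := h 9 (by simp)
  have h2 := h 14 (by simp)
  have hsep : ∀ c ∈ [9, 14], ¬ Nat.card B ∣ E7 c * M7 (p ^ f) c :=
    sepH (e := 9) (e' := 14) hp hf (M := M7 (p ^ f)) (E := E7) (by norm_num) (by norm_num) h1 h2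
      (fun c hc => m7_dvd (mem4 (by omega) (by omega) c hc) hq1) (fun c _ s hs hd => e7_le_seven hs hd)
      (by norm_num) (by norm_num)
  obtain ⟨S, hS, g, hg, hch, hdS⟩ := nameK7 tb hcyc hcf hp hf hq (D := D9_14) tblH_914 rfl (by decide) (by decide)
    (B := B) h1 h2 hsep
    (fun c hc => absurd hc (by simp [D9_14]))
    (fun S hS g l X a _ hg hX hex => kill_113 hp hS hg hX hex)
  obtain rfl := Cfsg.Agent.H72.Same.charp_e7_914 hp hf hg.cond hch hg.eq hdS (hS.h1 9 (by simp [D9_14])) (hS.h1 14 (by simp [D9_14]))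
  exact eq_top_of_name hT hg

/-- **`E₇(q)`, half of the classes 18, 7.** -/
theorem KH_18_7 (hp : p.Prime) (hf : 1 ≤ f) (hq : Fintype.card F = p ^ f)
    (B : Subgroup ↥(Lie.chevE7.group F)) (h : HOff p f [18, 7] B) : B = ⊤ := by
  have hq1 : 1 ≤ p ^ f := Nat.one_le_pow _ _ hp.pos
  have hT := named_e7 (F := F) tb
  rw [hq] at hT
  have h1 := h 18 (by simp)
  have h2 := h 7 (by simp)
  have hsep : ∀ c ∈ [18, 7], ¬ Nat.card B ∣ E7 c * M7 (p ^ f) c :=
    sepH (e := 18) (e' := 7) hp hf (M := M7 (p ^ f)) (E := E7) (by norm_num) (by norm_num) h1 h2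
      (fun c hc => m7_dvd (mem4 (by omega) (by omega) c hc) hq1) (fun c _ s hs hd => e7_le_seven hs hd)
      (by norm_num) (by norm_num)
  obtain ⟨S, hS, g, hg, hch, hdS⟩ := nameK7 tb hcyc hcf hp hf hq (D := D18_7) tblH_187 rfl (by decide) (by decide)
    (B := B) h1 h2 hsep
    (fun c hc => absurd hc (by simp [D18_7]))
    (fun S hS g l X a _ hg hX hex => absurd hex (by simp))
  obtain rfl := Cfsg.Agent.H72.Same.charp_e7_718 hp hf hg.cond hch hg.eq hdS (hS.h1 7 (by simp [D18_7])) (hS.h1 18 (by simp [D18_7]))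
  exact eq_top_of_name hT hg

/-- **`E₇(q)`, half of the classes 18, 14.** -/
theorem KH_18_14 (hp : p.Prime) (hf : 1 ≤ f) (hq : Fintype.card F = p ^ f)
    (B : Subgroup ↥(Lie.chevE7.group F)) (h : HOff p f [18, 14] B) : B = ⊤ := by
  have hq1 : 1 ≤ p ^ f := Nat.one_le_pow _ _ hp.pos
  have hT := named_e7 (F := F) tb
  rw [hq] at hT
  have h1 := h 18 (by simp)
  have h2 := h 14 (by simp)
  have hsep : ∀ c ∈ [18, 14], ¬ Nat.card B ∣ E7 c * M7 (p ^ f) c :=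
    sepH (e := 18) (e' := 14) hp hf (M := M7 (p ^ f)) (E := E7) (by norm_num) (by norm_num) h1 h2
      (fun c hc => m7_dvd (mem4 (by omega) (by omega) c hc) hq1) (fun c _ s hs hd => e7_le_seven hs hd)
      (by norm_num) (by norm_num)
  obtain ⟨S, hS, g, hg, hch, hdS⟩ := nameK7 tb hcyc hcf hp hf hq (D := D18_14) tblH_1814 rfl (by decide) (by decide)
    (B := B) h1 h2 hsep
    (fun c hc => absurd hc (by simp [D18_14]))
    (fun S hS g l X a _ hg hX hex => absurd hex (by simp))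
  have hMp : ¬ p ∣ M7 (p ^ f) 14 := by
    intro h
    have h1 := h.trans (m7_dvd (c := 14) (by omega) hq1)
    have h2 : p ∣ (p ^ f) ^ 14 := dvd_pow (dvd_pow_self p (by omega)) (by norm_num)
    have h3 : p ∣ (p ^ f) ^ 14 - ((p ^ f) ^ 14 - 1) := Nat.dvd_sub h2 h1
    have h4 : 1 ≤ (p ^ f) ^ 14 := Nat.one_le_pow _ _ (by omega)
    rw [Nat.sub_sub_self h4] at h3
    exact hp.one_lt.ne' (Nat.dvd_one.1 h3)
  have a14 := hS.h1 14 (by simp [D18_14])
  obtain ⟨r, hr, hrS⟩ := id a14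
  have hb := (hS.prs 14 (by simp [D18_14]) r hr (hrS.trans (Subgroup.card_subgroup_dvd_card S))).1
  rcases Cfsg.Agent.H72.Same.charp_e7_1418 hp hf hg.cond hch hg.eq hdS a14 (hS.h1 18 (by simp [D18_14])) with
    rfl | rfl | rfl
  · exact (kill_psu9 hp hf (Or.inl rfl) hg (prim_q hf hr) hb hMp).elim
  · exact (kill_psu9 hp hf (Or.inr rfl) hg (prim_q hf hr) hb hMp).elim
  · exact eq_top_of_name hT hg

/-- **`E₇(q)`, half of the classes 9, 18 and a prime of class 5.** -/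
theorem KH_9_18 {s : ℕ} (hp : p.Prime) (hf : 1 ≤ f) (hq : Fintype.card F = p ^ f)
    (B : Subgroup ↥(Lie.chevE7.group F)) (h : HOff p f [9, 18] B) (hs : Prim p (f * 5) s) (hsB : s ∣ Nat.card B) :
    B = ⊤ := by
  have hq2 : 2 ≤ p ^ f := hp.two_le.trans (Nat.le_self_pow (by omega) p)
  have hT := named_e7 (F := F) tb
  rw [hq] at hT
  have hs5 : Prim (p ^ f) 5 s := prim_q hf hs
  obtain ⟨S, hS, g, hg, hch, hdS⟩ := nameK7 tb hcyc hcf hp hf hq (D := D9_18) tblH_918 rfl (by decide) (by decide)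
    (B := B) (h 9 (by simp)) (h 18 (by simp))
    (fun c hc hd => five_not_dvd hq2 hs5 (mem4 (c := 9) (c' := 18) (by omega) (by omega) c hc) (hsB.trans hd))
    (fun c hc => by
      obtain rfl : c = 5 := by simpa [D9_18] using hc
      exact ⟨s, hs, hsB, five_not_dvd hq2 hs5 (c := 9) (by omega)⟩)
    (fun S hS g l X a _ hg hX hex => absurd hex (by simp))
  have hsS : s ∣ Nat.card S := five_dvd hq2 hs5 (c := 9) (by omega) (hS.idx 9 (by simp [D9_18]))
    (S.card_mul_index).symm hsB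
  obtain rfl := Cfsg.Agent.H72.Same.charp_e7_918 hp hf hg.cond hch hg.eq hdS ⟨s, hs, hsS⟩ (hS.h1 9 (by simp [D9_18]))
    (hS.h1 18 (by simp [D9_18]))
  exact eq_top_of_name hT hg

/-- **`E₇(q)`, half of the classes 7, 14 and a prime of class 5.** -/
theorem KH_7_14 {s : ℕ} (hp : p.Prime) (hf : 1 ≤ f) (hq : Fintype.card F = p ^ f)
    (B : Subgroup ↥(Lie.chevE7.group F)) (h : HOff p f [7, 14] B) (hs : Prim p (f * 5) s) (hsB : s ∣ Nat.card B) :
    B = ⊤ := by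
  have hq2 : 2 ≤ p ^ f := hp.two_le.trans (Nat.le_self_pow (by omega) p)
  have hT := named_e7 (F := F) tb
  rw [hq] at hT
  have hs5 : Prim (p ^ f) 5 s := prim_q hf hs
  obtain ⟨S, hS, g, hg, hch, hdS⟩ := nameK7 tb hcyc hcf hp hf hq (D := D7_14) tblH_714 rfl (by decide) (by decide)
    (B := B) (h 7 (by simp)) (h 14 (by simp))
    (fun c hc hd => five_not_dvd hq2 hs5 (mem4 (c := 7) (c' := 14) (by omega) (by omega) c hc) (hsB.trans hd))
    (fun c hc => by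
      obtain rfl : c = 5 := by simpa [D7_14] using hc
      exact ⟨s, hs, hsB, five_not_dvd hq2 hs5 (c := 7) (by omega)⟩)
    (fun S hS g l X a _ hg hX hex => absurd hex (by simp))
  have hsS : s ∣ Nat.card S := five_dvd hq2 hs5 (c := 7) (by omega) (hS.idx 7 (by simp [D7_14]))
    (S.card_mul_index).symm hsB
  obtain rfl := Cfsg.Agent.H72.Same.charp_e7_714 hp hf hg.cond hch hg.eq hdS ⟨s, hs, hsS⟩ (hS.h1 7 (by simp [D7_14]))
    (hS.h1 14 (by simp [D7_14]))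
  exact eq_top_of_name hT hg

end

end Cfsg.Agent.SM.Ex.Rg
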