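import Cfsg.Agent.H70.Rg.RedT6
import Cfsg.Agent.SM.Ex.HMain

/-!
# S3570, exceptional `S`: half classes without exactness (helper93)

The proofs of `H70/Rg/GoodH6`, `H851/Rg/KTE6`, `H70/Rg/RedT6`, with the hypothesis `HAt` reduced to the field `half`.
-/

set_option autoImplicit false

namespace Cfsg.Agent.SM.Ex.Rg

open Cfsg.Agent.H70.Rg

open Cfsg Cfsg.Agent.OrdDiv Cfsg.Agent.H436 Cfsg.Agent.H902 Cfsg.Agent.H902.Names Cfsg.Agent.H915.GN
  Cfsg.Agent.H290.ElReg Cfsg.Agent.H290.ElTab Cfsg.Agent.H290.ElCross Cfsg.Agent.H264.FKS Cfsg.Agent.H56.Exc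
  Cfsg.Agent.H325.Loc Cfsg.Agent.H563.KG Cfsg.Agent.H190.Odd Cfsg.Agent.H73.Rg

section main

variable {n p f : ℕ} {fam : List ℕ} {M E : ℕ → ℕ}

/-- **Two half classes, reducedness by `Good` or `KillB`.** -/
theorem mainK (tb : OrderTable.{0}) (hcyc : CycFixSolv.{0})
    (hcfsg : ∀ (S : Type) [Group S] [Finite S] [IsSimpleGroup S], IsKnownSimple' S) (haut : AltAut)
    {D : TD} {exc : List (Art.Sh × ℕ × ℕ)} (ht : TblH n D exc (E D.e) (E D.e'))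
    (hp : p.Prime) (hf : 1 ≤ f) (hq : D.q₀ ≤ p ^ f) {F : Type} [Field F] [CharP F p]
    {T : Type} [Group T] [Finite T] (hrep : Fth n F T) (hdT : Nat.card T ∣ OL D.Y (p ^ f))
    (hbig : ∀ c ∈ [D.e, D.e'], ∀ r, Prim (p ^ f) c r → Big T r (M c) (E c))
    {B : Subgroup T} (h1 : HAt p f D.e B) (h2 : HAt p f D.e' B)
    (hsep : ∀ c ∈ [D.e, D.e'], ¬ Nat.card B ∣ E c * M c)
    (hex : ∀ c ∈ D.exs, ∃ s, Prim p (f * c) s ∧ s ∣ Nat.card B ∧ ¬ s ∣ E D.e * M D.e)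
    {c₀ : ℕ} (hc₀ : c₀ ∈ [D.e, D.e']) (hpiso : ∀ r, Prim (p ^ f) c₀ r → PIso p r T)
    (hgood : ∀ t : ℕ, t.Prime → t ≠ p → ¬ Prim p (f * D.e) t → ¬ Prim p (f * D.e') t → t ∣ Nat.card B →
      Good B n t ∨ KillB B t)
    (hexc : ∀ (S : Subgroup B), ConH p f M E D.e D.e' S → ∀ g l X a, l.Prime → IsNamed g S → IsLie g X l a →
      (X, (l, a)) ∈ exc → False) :
    ∃ S : Subgroup B, ConH p f M E D.e D.e' S ∧ ∃ g, IsNamed g S ∧ HasChar p g := by
  have hH : HAt p f c₀ B ∧ 5 ≤ c₀ ∧ c₀ ≠ 6 := by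
    simp only [List.mem_cons, List.not_mem_nil, or_false] at hc₀
    rcases hc₀ with rfl | rfl
    · exact ⟨h1, by have := ht.ok.e7; omega, ht.ok.ne6⟩
    · exact ⟨h2, by have := ht.ok.e7'; omega, ht.ok.ne6'⟩
  obtain ⟨r₀, hr₀, hr₀B⟩ := hH.1.exists_prim hp.two_le hf hH.2.1 hH.2.2
  exact mainR tb hcyc hcfsg haut ht hp hf hq hrep hdT hbig h1 h2 hsep hex
    (redK hcyc hp hf hrep hbig hc₀ hr₀ (hpiso r₀ (prim_q hf hr₀)) hr₀B fun t ht1 htp htc htB =>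
      hgood t ht1 htp (htc _ (by simp)) (htc _ (by simp)) htB) hexc

end main

section tools

variable {p f : ℕ}

end tools

section good

variable {p f : ℕ} {G : Type*} [Group G] [Finite G] {t : ℕ}

end good

end Cfsg.Agent.SM.Ex.Rg

namespace Cfsg.Agent.SM.Ex.Rg

open Cfsg.Agent.H851.Rg

open Cfsg Cfsg.Agent.OrdDiv Cfsg.Agent.H436 Cfsg.Agent.H902 Cfsg.Agent.H902.Names Cfsg.Agent.H915.GN
  Cfsg.Agent.H290.ElReg Cfsg.Agent.H290.ElTab Cfsg.Agent.H290.ElCross Cfsg.Agent.H264.FKS Cfsg.Agent.H56.Exc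
  Cfsg.Agent.H325.Loc Cfsg.Agent.H325.IsoExc Cfsg.Agent.H325.IsoFree Cfsg.Agent.H563.KG Cfsg.Agent.H73.Rg
  Cfsg.Agent.H190.Cov

section

variable {F : Type} [Field F] [Fintype F] {p f : ℕ}

/-- reducedness -/
def RedT (F : Type) [Field F] [Fintype F] (p f c c' : ℕ) : Prop :=
  ∀ B : Subgroup ↥(Lie.twistedE6 F (p ^ f)), HAt p f c B → HAt p f c' B →
    Red ↥B (Pr (FmH p f [c, c'] (MtE (p ^ f)) EtE (Nat.card B)))

/-- **the classes 18, 12** -/
theorem k1T (tb : OrderTable.{0}) (hcyc : CycFixSolv.{0}) (hcf : CF) (hp : p.Prime) (hf : 1 ≤ f)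
    (hK : Fintype.card F = (p ^ f) ^ 2) (hq3 : 3 ≤ p ^ f) (hred : RedT F p f 18 12)
    (B : Subgroup ↥(Lie.twistedE6 F (p ^ f))) (h : HOff p f [18, 12] B) : B = ⊤ := by
  have := charP_te6 hp hf hK
  have hfin : Finite ↥(Lie.twistedE6 F (p ^ f)) := inferInstance
  have hq : IsPrimePow (p ^ f) := hp.isPrimePow.pow (by omega)
  have hT := named_te6 (F := F) tb hq hK
  have hq1 : 1 ≤ p ^ f := by omega
  have h18 : HAt p f 18 B := h 18 (by simp)
  have h12 : HAt p f 12 B := h 12 (by simp)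
  have hmem : ∀ c ∈ [18, 12], c = 18 ∨ c = 12 ∨ c = 8 := by decide
  have hsep : ∀ c ∈ [18, 12], ¬ Nat.card B ∣ EtE c * MtE (p ^ f) c :=
    sepH hp hf (by norm_num) (by norm_num) h18 h12 (fun c hc => mtE_dvd hq1 (hmem c hc))
      (fun c hc s hs hd => etE_le (hmem c hc) hs hd) (by norm_num) (by norm_num)
  obtain ⟨S, hcon, g, hg, hch⟩ := mainR (E := EtE) (M := MtE (p ^ f)) tb hcyc hcf altAut (D := Dt6b) tblH_t6b hp hf hq3
    (F := F) (fth_TE6 _) (card_te6_dvd tb hp hf hK) (fun c hc r hr => bigTE (hmem c hc) hp hf hK hr) h18 h12 hsep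
    (by intro c hc; exact absurd hc List.not_mem_nil) (hred B h18 h12)
    (fun S hcon g l X a hl hg hgl hx => exc73 hcon hp hf hl hg hgl hx)
  have hdS : Nat.card S ∣ num (.te6 (p ^ f)) := IsNamed.card_dvd hT S
  have hh1 : Cfsg.Agent.H72.Same.H1 p f 18 (Nat.card S) := hcon.h1 18 (by simp [Dt6b])
  have hh2 : Cfsg.Agent.H72.Same.H1 p f 12 (Nat.card S) := hcon.h1 12 (by simp [Dt6b])
  rcases Cfsg.Agent.H72.Same.charp_te6_reg hp hf hg.cond hch hg.eq hdS hh1 hh2 with rfl | rfl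
  · exact eq_top_of_name hT hg
  · exfalso
    obtain ⟨r, hr, hrS⟩ := hh1
    exact kill_psu4 hp hf hg (prim_q hf hr)
      (hcon.prs 18 (by simp [Dt6b]) r hr (hrS.trans (Subgroup.card_subgroup_dvd_card S))).1.card

/-- **the classes 18, 8** -/
theorem k2T (tb : OrderTable.{0}) (hcyc : CycFixSolv.{0}) (hcf : CF) (hp : p.Prime) (hf : 1 ≤ f)
    (hK : Fintype.card F = (p ^ f) ^ 2) (hq3 : 3 ≤ p ^ f) (hred : RedT F p f 18 8)
    (B : Subgroup ↥(Lie.twistedE6 F (p ^ f))) (h : HOff p f [18, 8] B) : B = ⊤ := by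
  have := charP_te6 hp hf hK
  have hfin : Finite ↥(Lie.twistedE6 F (p ^ f)) := inferInstance
  have hq : IsPrimePow (p ^ f) := hp.isPrimePow.pow (by omega)
  have hT := named_te6 (F := F) tb hq hK
  have hq1 : 1 ≤ p ^ f := by omega
  have h18 : HAt p f 18 B := h 18 (by simp)
  have h8 : HAt p f 8 B := h 8 (by simp)
  have hmem : ∀ c ∈ [18, 8], c = 18 ∨ c = 12 ∨ c = 8 := by decide
  have hsep : ∀ c ∈ [18, 8], ¬ Nat.card B ∣ EtE c * MtE (p ^ f) c :=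
    sepH hp hf (by norm_num) (by norm_num) h18 h8 (fun c hc => mtE_dvd hq1 (hmem c hc))
      (fun c hc s hs hd => etE_le (hmem c hc) hs hd) (by norm_num) (by norm_num)
  obtain ⟨S, hcon, g, hg, hch⟩ := mainR (E := EtE) (M := MtE (p ^ f)) tb hcyc hcf altAut (D := Dt6a) tblH_t6a hp hf hq3
    (F := F) (fth_TE6 _) (card_te6_dvd tb hp hf hK) (fun c hc r hr => bigTE (hmem c hc) hp hf hK hr) h18 h8 hsep
    (by intro c hc; exact absurd hc List.not_mem_nil) (hred B h18 h8)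
    (fun S hcon g l X a hl hg hgl hx => absurd hx (by simp))
  have hdS : Nat.card S ∣ num (.te6 (p ^ f)) := IsNamed.card_dvd hT S
  have hh1 : Cfsg.Agent.H72.Same.H1 p f 18 (Nat.card S) := hcon.h1 18 (by simp [Dt6a])
  have hh2 : Cfsg.Agent.H72.Same.H1 p f 8 (Nat.card S) := hcon.h1 8 (by simp [Dt6a])
  obtain rfl := Cfsg.Agent.H72.Same.charp_te6_818 hp hf hg.cond hch hg.eq hdS hh2 hh1
  exact eq_top_of_name hT hg

/-- **the classes 8, 12** -/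
theorem k3T (tb : OrderTable.{0}) (hcyc : CycFixSolv.{0}) (hcf : CF) (hp : p.Prime) (hf : 1 ≤ f)
    (hK : Fintype.card F = (p ^ f) ^ 2) (hq3 : 3 ≤ p ^ f) (hred : RedT F p f 8 12)
    (B : Subgroup ↥(Lie.twistedE6 F (p ^ f))) (hne : B ≠ ⊤) (h : HOff p f [8, 12] B) :
    (∀ r, Prim (p ^ f) 18 r → ¬ r ∣ Nat.card B) ∧ ∀ r, Prim (p ^ f) 10 r → ¬ r ∣ Nat.card B := by
  have := charP_te6 hp hf hK
  have hfin : Finite ↥(Lie.twistedE6 F (p ^ f)) := inferInstance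
  have hq : IsPrimePow (p ^ f) := hp.isPrimePow.pow (by omega)
  have hT := named_te6 (F := F) tb hq hK
  have hq1 : 1 ≤ p ^ f := by omega
  have h8 : HAt p f 8 B := h 8 (by simp)
  have h12 : HAt p f 12 B := h 12 (by simp)
  have hmem : ∀ c ∈ [8, 12], c = 18 ∨ c = 12 ∨ c = 8 := by decide
  have hsep : ∀ c ∈ [8, 12], ¬ Nat.card B ∣ EtE c * MtE (p ^ f) c :=
    sepH hp hf (by norm_num) (by norm_num) h8 h12 (fun c hc => mtE_dvd hq1 (hmem c hc))
      (fun c hc s hs hd => etE_le (hmem c hc) hs hd) (by norm_num) (by norm_num)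
  obtain ⟨S, hcon, g, hg, hch⟩ := mainR (E := EtE) (M := MtE (p ^ f)) tb hcyc hcf altAut (D := Dt6c) tblH_t6c hp hf hq3
    (F := F) (fth_TE6 _) (card_te6_dvd tb hp hf hK) (fun c hc r hr => bigTE (hmem c hc) hp hf hK hr) h8 h12 hsep
    (by intro c hc; exact absurd hc List.not_mem_nil) (hred B h8 h12)
    (fun S hcon g l X a hl hg hgl hx => absurd hx (by simp))
  have hdS : Nat.card S ∣ num (.te6 (p ^ f)) := IsNamed.card_dvd hT S
  have hh1 : Cfsg.Agent.H72.Same.H1 p f 8 (Nat.card S) := hcon.h1 8 (by simp [Dt6c])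
  have hh2 : Cfsg.Agent.H72.Same.H1 p f 12 (Nat.card S) := hcon.h1 12 (by simp [Dt6c])
  rcases Cfsg.Agent.H72.Same.charp_te6_812 hp hf hg.cond hch hg.eq hdS hh1 hh2 with rfl | rfl | rfl
  · exact absurd (eq_top_of_name hT hg) hne
  · have key : ∀ r d, (d = 18 ∨ d = 10) → Prim (p ^ f) d r → ¬ r ∣ Nat.card B := by
      intro r d hd hr hrB
      rw [← S.card_mul_index] at hrB
      have hd8 : ¬ d ∣ 8 := by rcases hd with rfl | rfl <;> norm_num
      rcases hr.prime.dvd_mul.1 hrB with h1 | h1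
      · exact not_dvd_f4 hr hd (hg.eq ▸ h1.mul_left _)
      · have h2 := h1.trans (hcon.idx 8 (by simp [Dt6c]))
        rcases hr.prime.dvd_mul.1 h2 with h3 | h3
        · have h4 : r ∣ 2 ^ 3 := h3
          have h5 := Nat.le_of_dvd (by norm_num) (hr.prime.dvd_of_dvd_pow h4)
          have h6 := lt_of_prim (by omega) (by omega) hr
          omega
        · exact hd8 ((hr.dvd_iff 8).1 (h3.trans (mtE_dvd hq1 (by omega))))
    exact ⟨fun r hr => key r 18 (Or.inl rfl) hr, fun r hr => key r 10 (Or.inr rfl) hr⟩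
  · exfalso
    obtain ⟨r, hr, hrS⟩ := hh1
    exact kill_psl3_big hp hf hg (prim_q hf hr)
      (hcon.prs 8 (by simp [Dt6c]) r hr (hrS.trans (Subgroup.card_subgroup_dvd_card S))).1.card

end

end Cfsg.Agent.SM.Ex.Rg

namespace Cfsg.Agent.SM.Ex.Rg

open Cfsg.Agent.H70.Rg

open Cfsg Cfsg.Agent.OrdDiv Cfsg.Agent.H436 Cfsg.Agent.H902 Cfsg.Agent.H902.Names Cfsg.Agent.H915.GN
  Cfsg.Agent.H290.ElReg Cfsg.Agent.H290.ElTab Cfsg.Agent.H290.ElCross Cfsg.Agent.H264.FKS Cfsg.Agent.H56.Exc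
  Cfsg.Agent.H325.Loc Cfsg.Agent.H325.IsoExc Cfsg.Agent.H325.IsoFree Cfsg.Agent.H563.KG Cfsg.Agent.H73.Rg
  Cfsg.Agent.H190.Cov Cfsg.Agent.H190.Odd Cfsg.Agent.H851.Rg

section

variable {F : Type} [Field F] [Fintype F] {p f : ℕ}

/-- the frame -/
theorem redT_of (hcyc : CycFixSolv.{0}) (hp : p.Prime) (hf : 1 ≤ f) (hK : Fintype.card F = (p ^ f) ^ 2) {c c' : ℕ}
    (hm : ∀ e ∈ [c, c'], e = 18 ∨ e = 12 ∨ e = 8) {c₀ : ℕ} (hc₀ : c₀ ∈ [c, c']) (h₀ : c₀ = 12 ∨ c₀ = 18)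
    (hg : ∀ B : Subgroup ↥(Lie.twistedE6 F (p ^ f)), HAt p f c B → HAt p f c' B → ∀ t : ℕ, t.Prime → t ≠ p →
      ¬ Prim p (f * c) t → ¬ Prim p (f * c') t → t ∣ Nat.card B → Good B 78 t ∨ KillB B t) : RedT F p f c c' := by
  intro B h1 h2
  have := Fact.mk hp
  have := charP_te6 hp hf hK
  have hfin : Finite ↥(Lie.twistedE6 F (p ^ f)) := inferInstance
  have hH : HAt p f c₀ B := by
    simp only [List.mem_cons, List.not_mem_nil, or_false] at hc₀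
    rcases hc₀ with rfl | rfl
    · exact h1
    · exact h2
  obtain ⟨r₀, hr₀, hr₀B⟩ := hH.exists_prim hp.two_le hf (by omega) (by omega)
  exact redK (n := 78) hcyc hp hf (F := F) (fth_TE6 _) (fun e he r hr => bigTE (hm e he) hp hf hK hr) hc₀ hr₀
    (piso_twE6 (hp.isPrimePow.pow (by omega)) hK h₀ (prim_q hf hr₀)) hr₀B
    fun t ht htp htn htB => hg B h1 h2 t ht htp (htn c (by simp)) (htn c' (by simp)) htB

theorem redT_18_12 (tb : OrderTable.{0}) (hcyc : CycFixSolv.{0}) (hp : p.Prime) (hf : 1 ≤ f)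
    (hK : Fintype.card F = (p ^ f) ^ 2) (hq3 : 3 ≤ p ^ f) : RedT F p f 18 12 :=
  redT_of hcyc hp hf hK (by decide) (c₀ := 18) (by simp) (Or.inr rfl) fun B h1 h2 t ht htp hn hn' htB => by
    have hfin : Finite ↥(Lie.twistedE6 F (p ^ f)) := inferInstance
    exact good_te6_18_12 hp hf hq3 ((ordT18 hp hf hK).sub B) ((ordT12 hp hf hK).sub B)
      ((Subgroup.card_subgroup_dvd_card B).trans (card_te6_dvd tb hp hf hK)) h1.half h2.half ht hn hn'

theorem redT_18_8 (tb : OrderTable.{0}) (hcyc : CycFixSolv.{0}) (hp : p.Prime) (hf : 1 ≤ f)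
    (hK : Fintype.card F = (p ^ f) ^ 2) (hq3 : 3 ≤ p ^ f) : RedT F p f 18 8 :=
  redT_of hcyc hp hf hK (by decide) (c₀ := 18) (by simp) (Or.inr rfl) fun B h1 h2 t ht htp hn hn' htB => by
    have hfin : Finite ↥(Lie.twistedE6 F (p ^ f)) := inferInstance
    exact good_te6_18_8 hp hf hq3 ((ordT18 hp hf hK).sub B) ((ordT8 hp hf hK).sub B)
      ((Subgroup.card_subgroup_dvd_card B).trans (card_te6_dvd tb hp hf hK)) h1.half h2.half ht hn hn'

theorem redT_8_12 (tb : OrderTable.{0}) (hcyc : CycFixSolv.{0}) (hp : p.Prime) (hf : 1 ≤ f)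
    (hK : Fintype.card F = (p ^ f) ^ 2) (hq3 : 3 ≤ p ^ f) : RedT F p f 8 12 :=
  redT_of hcyc hp hf hK (by decide) (c₀ := 12) (by simp) (Or.inl rfl) fun B h1 h2 t ht htp hn hn' htB => by
    have hfin : Finite ↥(Lie.twistedE6 F (p ^ f)) := inferInstance
    refine good_te6_8_12 hp hf hq3 ((ordT8 hp hf hK).sub B) ?_ ((ordT12 hp hf hK).sub B) ?_
      ((Subgroup.card_subgroup_dvd_card B).trans (card_te6_dvd tb hp hf hK)) h1.half h2.half ht htp hn hn' htB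
    · intro r hr x hx
      exact ((bigTE (c := 8) (by omega) hp hf hK hr).subgroup B).cyc x hx
    · intro h3 r hr x hx h
      exact (exact_te6_12 (hp.isPrimePow.pow (by omega)) hK h3 hr (x := (x : ↥(Lie.twistedE6 F (p ^ f))))
        (by rw [Subgroup.orderOf_coe]; exact hx)).2 (h.trans (card_centralizer_sub B x))

/-- **the classes 18, 12** -/
theorem te6_18_12 (tb : OrderTable.{0}) (hcyc : CycFixSolv.{0}) (hcf : CF) (hp : p.Prime) (hf : 1 ≤ f)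
    (hK : Fintype.card F = (p ^ f) ^ 2) (hq3 : 3 ≤ p ^ f)
    (B : Subgroup ↥(Lie.twistedE6 F (p ^ f))) (h : HOff p f [18, 12] B) : B = ⊤ :=
  k1T tb hcyc hcf hp hf hK hq3 (redT_18_12 tb hcyc hp hf hK hq3) B h

/-- **the classes 18, 8** -/
theorem te6_18_8 (tb : OrderTable.{0}) (hcyc : CycFixSolv.{0}) (hcf : CF) (hp : p.Prime) (hf : 1 ≤ f)
    (hK : Fintype.card F = (p ^ f) ^ 2) (hq3 : 3 ≤ p ^ f)
    (B : Subgroup ↥(Lie.twistedE6 F (p ^ f))) (h : HOff p f [18, 8] B) : B = ⊤ :=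
  k2T tb hcyc hcf hp hf hK hq3 (redT_18_8 tb hcyc hp hf hK hq3) B h

/-- **the classes 8, 12** -/
theorem te6_8_12 (tb : OrderTable.{0}) (hcyc : CycFixSolv.{0}) (hcf : CF) (hp : p.Prime) (hf : 1 ≤ f)
    (hK : Fintype.card F = (p ^ f) ^ 2) (hq3 : 3 ≤ p ^ f)
    (B : Subgroup ↥(Lie.twistedE6 F (p ^ f))) (hne : B ≠ ⊤) (h : HOff p f [8, 12] B) :
    (∀ r, Prim (p ^ f) 18 r → ¬ r ∣ Nat.card B) ∧ ∀ r, Prim (p ^ f) 10 r → ¬ r ∣ Nat.card B :=
  k3T tb hcyc hcf hp hf hK hq3 (redT_8_12 tb hcyc hp hf hK hq3) B hne h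

end

end Cfsg.Agent.SM.Ex.Rg
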