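import Cfsg.Agent.SM.Ex.KH8
import Cfsg.Agent.SM.Ex.KH7
import Cfsg.Agent.SM.Ex.KH6
import Cfsg.Agent.SM.Ex.KT6
import Cfsg.Agent.H813.Rg.EFac

/-!
# S3570, exceptional `S`: `E₈(q)`, `E₇(q)`, `E₆(q)`, `²E₆(q)` (`q ≥ 3` for the last two) have no factorization (helper93)

`Dv X Y` : the order of the group divides `|X| |Y|`.
-/

set_option autoImplicit false

namespace Cfsg.Agent.SM.Ex

open Cfsg Subgroup Cfsg.Lie Cfsg.Agent.H436 Cfsg.Agent.H56.Exc Cfsg.Agent.H563.KG Cfsg.Agent.SM.Ex.Rg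
open Cfsg.Agent.H73.Rg (PP PP_pos)
open Cfsg.Agent.H813.Rg (Cl cl_E8 cl_E7 cl_E6 cl_TE6 five_E7 five_E6 ten_TE6 exists_prim_class prim_of_prim)

universe v

/-- the order of the group divides `|X| |Y|` -/
def Dv {K : Type v} [Group K] (X Y : Subgroup K) : Prop := Nat.card K ∣ Nat.card X * Nat.card Y

section

variable {K : Type v} [Group K] {X Y : Subgroup K} {p f : ℕ}

theorem Dv.symm (h : Dv X Y) : Dv Y X := by
  unfold Dv at *
  rwa [mul_comm]

/-- one factor contains half of a divisor -/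
theorem Dv.half' (h : Dv X Y) {N : ℕ} (hN : 0 < N) (hd : N ∣ Nat.card K) :
    N ≤ (Nat.gcd (Nat.card X) N) ^ 2 ∨ N ≤ (Nat.gcd (Nat.card Y) N) ^ 2 := by
  have h3 : N ∣ Nat.card X * Nat.card Y := hd.trans h
  have h4 := Nat.gcd_mul_right_dvd_mul_gcd N (Nat.card X) (Nat.card Y)
  rw [Nat.gcd_eq_left h3] at h4
  have h1 := Nat.le_of_dvd (Nat.mul_pos (Nat.gcd_pos_of_pos_left _ hN) (Nat.gcd_pos_of_pos_left _ hN)) h4
  rw [Nat.gcd_comm N, Nat.gcd_comm N] at h1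
  rcases le_total (Nat.gcd (Nat.card Y) N) (Nat.gcd (Nat.card X) N) with h2 | h2
  · left
    rw [sq]
    exact h1.trans (Nat.mul_le_mul_left _ h2)
  · right
    rw [sq]
    exact h1.trans (Nat.mul_le_mul_right _ h2)

theorem Dv.half (h : Dv X Y) {c : ℕ} (hp : p.Prime) (hf : 1 ≤ f) (hc : 5 ≤ c) (hd : PP p (f * c) ∣ Nat.card K) :
    HAt p f c X ∨ HAt p f c Y := by
  have hfc : 3 ≤ f * c := by nlinarith
  exact (h.half' (PP_pos hp.two_le (by omega)) hd).imp (fun h => ⟨h⟩) fun h => ⟨h⟩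

theorem Dv.prime (h : Dv X Y) {s : ℕ} (hs : s.Prime) (hd : s ∣ Nat.card K) : s ∣ Nat.card X ∨ s ∣ Nat.card Y :=
  hs.dvd_mul.1 (hd.trans h)

/-- the index of one factor divides the order of the other -/
theorem Dv.index_dvd [Finite K] (h : Dv X Y) : X.index ∣ Nat.card Y := by
  unfold Dv at h
  rw [← X.card_mul_index] at h
  exact Nat.dvd_of_mul_dvd_mul_left Nat.card_pos h

theorem hoff2 {B : Subgroup K} {a b : ℕ} (ha : HAt p f a B) (hb : HAt p f b B) : HOff p f [a, b] B := by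
  intro c hc
  rcases List.mem_cons.1 hc with rfl | hc
  · exact ha
  · rw [List.mem_singleton] at hc
    subst hc
    exact hb

end

/-- **`E₈(q)`** -/
theorem noFac_e8 (hcf : CF) {F : Type} [Field F] [Fintype F] {X Y : Subgroup ↥(chevE8.group F)} (h : Dv X Y) :
    X = ⊤ ∨ Y = ⊤ := by
  obtain ⟨p, f, _, hp, hf, hF⟩ := exists_pf F
  have tb := Cfsg.Agent.OrdDiv.table.{0}
  have k1 := fun B hB => KH8a (F := F) tb cycFixSolv hcf hp hf hF B hB
  have k2 := fun B hB => KH8b (F := F) tb cycFixSolv hcf hp hf hF B hB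
  have k3 := fun B hB => KH8c (F := F) tb cycFixSolv hcf hp hf hF B hB
  rcases h.half hp hf (by norm_num) (cl_E8 hp hf hF (Or.inl rfl)).dvd with h20 | h20 <;>
  rcases h.half hp hf (by norm_num) (cl_E8 hp hf hF (Or.inr (Or.inl rfl))).dvd with h24 | h24
  · exact Or.inl (k3 _ (hoff2 h20 h24))
  · rcases h.half hp hf (by norm_num) (cl_E8 hp hf hF (Or.inr (Or.inr rfl))).dvd with h30 | h30
    · exact Or.inl (k2 _ (hoff2 h20 h30))
    · exact Or.inr (k1 _ (hoff2 h24 h30))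
  · rcases h.half hp hf (by norm_num) (cl_E8 hp hf hF (Or.inr (Or.inr rfl))).dvd with h30 | h30
    · exact Or.inl (k1 _ (hoff2 h24 h30))
    · exact Or.inr (k2 _ (hoff2 h20 h30))
  · exact Or.inr (k3 _ (hoff2 h20 h24))

theorem noFac_e7_aux (hcf : CF) {F : Type} [Field F] [Fintype F] {p f : ℕ} [CharP F p] (hp : p.Prime) (hf : 1 ≤ f)
    (hF : Fintype.card F = p ^ f) {X Y : Subgroup ↥(chevE7.group F)} (h : Dv X Y) (h18 : HAt p f 18 X) :
    X = ⊤ ∨ Y = ⊤ := by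
  have tb := Cfsg.Agent.OrdDiv.table.{0}
  by_contra hcon
  push Not at hcon
  obtain ⟨hX, hY⟩ := hcon
  have h14 := (h.half hp hf (by norm_num) (cl_E7 hp hf hF (Or.inr (Or.inr (Or.inl rfl)))).dvd).resolve_left
    fun h14 => hX (KH_18_14 tb cycFixSolv hcf hp hf hF _ (hoff2 h18 h14))
  have h7 := (h.half hp hf (by norm_num) (cl_E7 hp hf hF (Or.inl rfl)).dvd).resolve_left
    fun h7 => hX (KH_18_7 tb cycFixSolv hcf hp hf hF _ (hoff2 h18 h7))
  have h9 := (h.half hp hf (by norm_num) (cl_E7 hp hf hF (Or.inr (Or.inl rfl))).dvd).resolve_right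
    fun h9 => hY (KH_9_14 tb cycFixSolv hcf hp hf hF _ (hoff2 h9 h14))
  obtain ⟨s, hs⟩ := exists_prim_class hp hf (c := 5) le_rfl (by norm_num)
  rcases h.prime hs.prime (five_E7 hp hf hF hs).1 with h3 | h3
  · exact hX (KH_9_18 tb cycFixSolv hcf hp hf hF _ (hoff2 h9 h18) hs h3)
  · exact hY (KH_7_14 tb cycFixSolv hcf hp hf hF _ (hoff2 h7 h14) hs h3)

/-- **`E₇(q)`** -/
theorem noFac_e7 (hcf : CF) {F : Type} [Field F] [Fintype F] {X Y : Subgroup ↥(chevE7.group F)} (h : Dv X Y) :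
    X = ⊤ ∨ Y = ⊤ := by
  obtain ⟨p, f, _, hp, hf, hF⟩ := exists_pf F
  rcases h.half hp hf (by norm_num) (cl_E7 hp hf hF (Or.inr (Or.inr (Or.inr rfl)))).dvd with h18 | h18
  · exact noFac_e7_aux hcf hp hf hF h h18
  · exact (noFac_e7_aux hcf hp hf hF h.symm h18).symm

/-- the abstract argument: the classes `a`, `b`, `c` and a prime `s` -/
theorem noFac_aux {K : Type v} [Group K] [Finite K] {X Y : Subgroup K} {p f a b c d s : ℕ}
    (k1 : ∀ B : Subgroup K, HOff p f [a, b] B → B = ⊤)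
    (k2 : ∀ B : Subgroup K, HOff p f [a, c] B → B = ⊤)
    (k3 : ∀ B : Subgroup K, B ≠ ⊤ → HOff p f [c, b] B → (∀ r, Prim (p ^ f) a r → ¬ r ∣ Nat.card B) ∧
      ∀ r, Prim (p ^ f) d r → ¬ r ∣ Nat.card B)
    (k4 : ∀ B : Subgroup K, (∀ r, Prim (p ^ f) a r → ¬ r ∣ Nat.card (Cfsg.Out K) → ¬ r ∣ B.index) →
      (∃ s, Prim p (f * d) s ∧ s ∣ Nat.card B) → B = ⊤)
    (hp : p.Prime) (hf : 1 ≤ f) (hb : 5 ≤ b) (hc : 5 ≤ c) (clb : Cl p f K b) (clc : Cl p f K c)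
    (hs : Prim p (f * d) s) (hsK : s ∣ Nat.card K) (h : Dv X Y) (hX : HAt p f a X) : X = ⊤ ∨ Y = ⊤ := by
  by_contra hcon
  push Not at hcon
  obtain ⟨hXt, hYt⟩ := hcon
  have hYb := (h.half hp hf hb clb.dvd).resolve_left fun h1 => hXt (k1 _ (hoff2 hX h1))
  have hYc := (h.half hp hf hc clc.dvd).resolve_left fun h1 => hXt (k2 _ (hoff2 hX h1))
  obtain ⟨h1, h2⟩ := k3 _ hYt (hoff2 hYc hYb)
  refine hXt (k4 _ (fun r hr _ h3 => h1 r hr (h3.trans h.index_dvd)) ⟨s, hs, ?_⟩)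
  exact (h.prime hs.prime hsK).resolve_right (h2 s (prim_of_prim hf hs))

/-- **`E₆(q)`, `q ≥ 3`** -/
theorem noFac_e6_three (hcf : CF) {F : Type} [Field F] [Fintype F] (h3 : 3 ≤ Fintype.card F)
    {X Y : Subgroup ↥(chevE6.group F)} (h : Dv X Y) : X = ⊤ ∨ Y = ⊤ := by
  obtain ⟨p, f, _, hp, hf, hF⟩ := exists_pf F
  have tb := Cfsg.Agent.OrdDiv.table.{0}
  have hfin : Finite ↥(chevE6.group F) := inferInstance
  rw [hF] at h3
  obtain ⟨s, hs⟩ := exists_prim_class hp hf (c := 5) le_rfl (by norm_num)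
  have hs1 := (five_E6 hp hf hF hs).1
  have cl9 := cl_E6 hp hf hF (c := 9) (Or.inr (Or.inl rfl))
  have cl12 := cl_E6 hp hf hF (c := 12) (Or.inr (Or.inr rfl))
  have cl8 := cl_E6 hp hf hF (c := 8) (Or.inl rfl)
  have k1 := fun B h => KH6.k912 (F := F) tb cycFixSolv hcf hp hf hF h3 B h (good912 tb hp hf hF h3 h)
  have k2 := fun B h => KH6.k98 (F := F) tb cycFixSolv hcf hp hf hF h3 B h (good98 tb hp hf hF h3 h)
  have k3 := fun B hne h => KH6.k812 (F := F) tb cycFixSolv hcf hp hf hF h3 B h (good812 tb hp hf hF h3 h) hne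
  have k4 := Cfsg.Agent.H72.Rg2.facts_e6_k4 tb cycFixSolv hcf F p f hp hf hF h3
  rcases h.half hp hf (by norm_num) cl9.dvd with h9 | h9
  · exact noFac_aux k1 k2 k3 k4 hp hf (by norm_num) (by norm_num) cl12 cl8 hs hs1 h h9
  · exact (noFac_aux k1 k2 k3 k4 hp hf (by norm_num) (by norm_num) cl12 cl8 hs hs1 h.symm h9).symm

/-- **`²E₆(q)`, `q ≥ 3`** -/
theorem noFac_te6_three (hcf : CF) {F : Type} [Field F] [Fintype F] {p f : ℕ} (hp : p.Prime) (hf : 1 ≤ f)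
    (hF : Fintype.card F = (p ^ f) ^ 2) (h3 : 3 ≤ p ^ f)
    {X Y : Subgroup ↥(twistedE6 F (p ^ f))} (h : Dv X Y) : X = ⊤ ∨ Y = ⊤ := by
  have tb := Cfsg.Agent.OrdDiv.table.{0}
  have hfin : Finite ↥(twistedE6 F (p ^ f)) := inferInstance
  obtain ⟨s, hs⟩ := exists_prim_class hp hf (c := 10) (by norm_num) (by norm_num)
  have hs1 := (ten_TE6 hp hf hF hs).1
  have cl18 := cl_TE6 hp hf hF (c := 18) (Or.inr (Or.inr rfl))
  have cl12 := cl_TE6 hp hf hF (c := 12) (Or.inr (Or.inl rfl))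
  have cl8 := cl_TE6 hp hf hF (c := 8) (Or.inl rfl)
  have k1 := fun B h => te6_18_12 (F := F) tb cycFixSolv hcf hp hf hF h3 B h
  have k2 := fun B h => te6_18_8 (F := F) tb cycFixSolv hcf hp hf hF h3 B h
  have k3 := fun B hne h => te6_8_12 (F := F) tb cycFixSolv hcf hp hf hF h3 B hne h
  have k4 := Cfsg.Agent.H72.Rg2.facts_te6_k4 tb cycFixSolv hcf F p f hp hf hF h3
  rcases h.half hp hf (by norm_num) cl18.dvd with h9 | h9
  · exact noFac_aux k1 k2 k3 k4 hp hf (by norm_num) (by norm_num) cl12 cl8 hs hs1 h h9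
  · exact (noFac_aux k1 k2 k3 k4 hp hf (by norm_num) (by norm_num) cl12 cl8 hs hs1 h.symm h9).symm

end Cfsg.Agent.SM.Ex
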