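import Cfsg.Agent.SM.Ex.FDefs
import Cfsg.Agent.H190.Cov.Two.Rad3c
import Cfsg.Agent.H563.KG.CycFix
import Cfsg.Agent.OrdDiv.Table

/-!
# S3570: `²E₆(2)` has no factorisation (helper70)

* `card_1311` : the order of a proper subgroup of order divisible by `13 * 11`;
* `card_1917` : the order of a proper subgroup of order divisible by `19 * 17`;
* `noFac_te62`.
-/

set_option autoImplicit false
set_option linter.unusedVariables false
set_option linter.unnecessarySeqFocus false

namespace Cfsg.Agent.SM.Ex.T62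

open Cfsg Cfsg.Agent.OrdDiv Cfsg.Agent.H436 Cfsg.Agent.H902 Cfsg.Agent.H290.ElReg Cfsg.Agent.H290.ElTab
  Cfsg.Agent.H56.Exc Cfsg.Agent.H325.Loc Cfsg.Agent.H915.GN Cfsg.Agent.H264.FKS Cfsg.Agent.H325.Same Cfsg.Agent.H325.IsoExc
  Cfsg.Agent.H563.KG Cfsg.Agent.H190.Odd Cfsg.Agent.H190.Cov Cfsg.Agent.H190.Cov.Two

theorem tab_323 : tab 323 = true := by decide +kernel

theorem spor_323 : ∀ x ∈ Cfsg.Agent.OrdDiv.spor, x.2 % 323 = 0 → G0 % x.2 = 0 → 50232960 % x.2 = 0 := by
  decide +kernel

/-- a multiple of the orders of `A₁₄`, `Suz`, `Fi₂₂` -/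
def M0 : ℕ := 2 ^ 17 * 3 ^ 9 * 5 ^ 2 * 7 ^ 2 * 11 * 13

theorem spor_143' : ∀ x ∈ Cfsg.Agent.OrdDiv.spor, x.2 % 143 = 0 → G0 % x.2 = 0 → M0 % x.2 = 0 := by
  decide +kernel

theorem eq17 {r : ℕ} (h : Prim 2 8 r) : r = 17 := by
  have h1 := prim_mem (by norm_num) h (l := [3, 5, 17]) (by norm_num) (by norm_num)
  simp only [List.mem_cons, List.not_mem_nil, or_false] at h1
  rcases h1 with rfl | rfl | rfl
  · exact absurd ((h.dvd_iff 2).1 (by norm_num)) (by norm_num)
  · exact absurd ((h.dvd_iff 4).1 (by norm_num)) (by norm_num)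
  · rfl

variable {F : Type} [Field F] [Fintype F]

/-- **`²E₆(2)`, the primes 13, 11.** -/
theorem card_1311 (tb : OrderTable.{0}) (hcyc : CycFixSolv.{0}) (hcf : CF) (hK : Fintype.card F = 2 ^ 2)
    (B : Subgroup ↥(Lie.twistedE6 F 2)) (hB : B ≠ ⊤) (h13 : 13 ∣ Nat.card B) (h11 : 11 ∣ Nat.card B) :
    Nat.card B ∣ 12 * 13 * M0 := by
  have hfin : Finite ↥(Lie.twistedE6 F 2) := inferInstance
  have hch2 : CharP F 2 := charP_of_pow (a := 2) Nat.prime_two hK
  have hT := named_te6 (F := F) tb pp2 hK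
  have hcard := card_two hK tb
  have hdB : Nat.card ↥B ∣ G0 := hcard ▸ Subgroup.card_subgroup_dvd_card B
  obtain ⟨S, hSn, hSs, hSna, hbS, hrS, hri, hidx⟩ := one_section (n := 78) hcyc Nat.prime_two (F := F) (fth_TE6 2)
    (big13 hK) (piso13 hK) h13 (fun h => by
      have := h11.trans h
      norm_num at this) (fun t ht ht2 ht13 htB => by
      by_cases ht3 : t = 3
      · subst ht3
        exact Or.inr (killB3 hK tb B h13 h11)
      left
      refine good_of_big ((big13 hK).subgroup B) ht ht13 h13 fun k hk hkB => ?_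
      have hkG := hkB.trans hdB
      rcases prime_mem ht (htB.trans hdB) with rfl | rfl | rfl | rfl | rfl | rfl | rfl | rfl
      · exact absurd rfl ht2
      · exact absurd rfl ht3
      · have := pow_le5 hkG
        interval_cases k <;> norm_num
      · have := pow_le7 hkG
        interval_cases k <;> norm_num
      · have := pow_le11 hkG
        interval_cases k; norm_num
      · exact absurd rfl ht13
      · have := pow_le17 hkG
        interval_cases k; norm_num
      · have := pow_le19 hkG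
        interval_cases k; norm_num)
  have hdS : Nat.card S ∣ G0 := (Subgroup.card_subgroup_dvd_card S).trans hdB
  have h11S : 11 ∣ Nat.card S := by
    rw [← S.index_mul_card] at h11
    rcases (Nat.Prime.dvd_mul (by norm_num)).1 h11 with h | h
    · have := h.trans hidx
      norm_num at this
    · exact h
  have h143 : 143 ∣ Nat.card S := Nat.Coprime.mul_dvd_of_dvd_of_dvd (m := 11) (n := 13) (by norm_num) h11S hrS
  rw [← S.index_mul_card]
  refine Nat.mul_dvd_mul hidx ?_
  rcases name_two tb (F := F) hSna (hcf S)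
    (((fth_TE6 (F := F) 2).sub B.subtype B.subtype_injective).sub S.subtype S.subtype_injective)
    tab_143 h143 hdS with ⟨k, hk, ⟨Φ⟩⟩ | ⟨g, hg, hgS⟩ | ⟨g, hg, hch⟩
  · have h1 := alt_lt hk Φ hdS
    have : Nontrivial (Fin k) := Fin.nontrivial_iff_two_le.2 (by omega)
    have h4 : 2 * Nat.card S = k.factorial := by
      rw [Nat.card_congr Φ.toEquiv, Nat.card_eq_fintype_card, two_mul_card_alternatingGroup, Fintype.card_perm,
        Fintype.card_fin]
    exact ((Dvd.intro_left _ h4).trans (Nat.factorial_dvd_factorial (by omega : k ≤ 14))).trans (by decide +kernel)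
  · exact Nat.dvd_of_mod_eq_zero (spor_143' _ hgS (Nat.mod_eq_zero_of_dvd h143) (Nat.mod_eq_zero_of_dvd hdS))
  · have hdT : Nat.card S ∣ num (.te6 2) := hdS.trans (by decide +kernel)
    obtain rfl := charp_te6_1012 (p := 2) (f := 1) Nat.prime_two le_rfl hg.cond hch hg.eq hdT
      (fun s hs _ => by rw [eq11 hs]; exact h11S) (fun s hs _ => by rw [eq13 hs]; exact hrS)
    exact absurd (eq_top_of_name hT hg) hB

/-- **`²E₆(2)`, the primes 19, 17.** -/
theorem card_1917 (tb : OrderTable.{0}) (hcyc : CycFixSolv.{0}) (hcf : CF) (hK : Fintype.card F = 2 ^ 2)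
    (B : Subgroup ↥(Lie.twistedE6 F 2)) (hB : B ≠ ⊤) (h19 : 19 ∣ Nat.card B) (h17 : 17 ∣ Nat.card B) :
    Nat.card B ∣ 9 * 19 * 50232960 := by
  have hfin : Finite ↥(Lie.twistedE6 F 2) := inferInstance
  have hch2 : CharP F 2 := charP_of_pow (a := 2) Nat.prime_two hK
  have hT := named_te6 (F := F) tb pp2 hK
  have hcard := card_two hK tb
  have hdB : Nat.card ↥B ∣ G0 := hcard ▸ Subgroup.card_subgroup_dvd_card B
  obtain ⟨S, hSn, hSs, hSna, hbS, hrS, hri, hidx⟩ := one_section (n := 78) hcyc Nat.prime_two (F := F) (fth_TE6 2)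
    (big19 hK) (piso19 hK) h19 (fun h => by
      have := h17.trans h
      norm_num at this) (fun t ht ht2 ht19 htB => by
      left
      refine good_of_big ((big19 hK).subgroup B) ht ht19 h19 fun k hk hkB => ?_
      have hkG := hkB.trans hdB
      rcases prime_mem ht (htB.trans hdB) with rfl | rfl | rfl | rfl | rfl | rfl | rfl | rfl
      · exact absurd rfl ht2
      · have := pow_le3 hkG
        interval_cases k <;> norm_num
      · have := pow_le5 hkG
        interval_cases k <;> norm_num
      · have := pow_le7 hkG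
        interval_cases k <;> norm_num
      · have := pow_le11 hkG
        interval_cases k <;> norm_num
      · have := pow_le13 hkG
        interval_cases k <;> norm_num
      · have := pow_le17 hkG
        interval_cases k <;> norm_num
      · exact absurd rfl ht19)
  have hdS : Nat.card S ∣ G0 := (Subgroup.card_subgroup_dvd_card S).trans hdB
  have h17S : 17 ∣ Nat.card S := by
    rw [← S.index_mul_card] at h17
    rcases (Nat.Prime.dvd_mul (by norm_num)).1 h17 with h | h
    · have := h.trans hidx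
      norm_num at this
    · exact h
  have h323 : 323 ∣ Nat.card S := Nat.Coprime.mul_dvd_of_dvd_of_dvd (m := 17) (n := 19) (by norm_num) h17S hrS
  rw [← S.index_mul_card]
  refine Nat.mul_dvd_mul hidx ?_
  rcases name_two tb (F := F) hSna (hcf S)
    (((fth_TE6 (F := F) 2).sub B.subtype B.subtype_injective).sub S.subtype S.subtype_injective)
    tab_323 h323 hdS with ⟨k, hk, ⟨Φ⟩⟩ | ⟨g, hg, hgS⟩ | ⟨g, hg, hch⟩
  · exfalso
    have h1 := alt_lt hk Φ hdS
    have h2 := Cfsg.Agent.H290.ElRich.le_of_dvd_alt (show Nat.Prime 19 by norm_num) (by omega) Φ hrS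
    omega
  · exact Nat.dvd_of_mod_eq_zero (spor_323 _ hgS (Nat.mod_eq_zero_of_dvd h323) (Nat.mod_eq_zero_of_dvd hdS))
  · have hdT : Nat.card S ∣ num (.te6 2) := hdS.trans (by decide +kernel)
    obtain rfl := charp_te6_818 (p := 2) (f := 1) Nat.prime_two le_rfl hg.cond hch hg.eq hdT
      (fun s hs _ => by rw [eq17 hs]; exact h17S) (fun s hs _ => by rw [eq19 hs]; exact hrS)
    exact absurd (eq_top_of_name hT hg) hB

/-- **`²E₆(2)` has no factorisation.** -/
theorem noFac_te62 (hcf : SM.Ex.Cf) {F : Type} [Field F] [Fintype F] (hK : Fintype.card F = 2 ^ 2) :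
    Ex78.NoFac ↥(Lie.twistedE6 F 2) := by
  have tb := Cfsg.Agent.OrdDiv.table.{0}
  have hfin : Finite ↥(Lie.twistedE6 F 2) := inferInstance
  have hG := card_two hK tb
  have off : ∀ {B : Subgroup ↥(Lie.twistedE6 F 2)} {r : ℕ}, ¬ r * r ∣ G0 → r ∣ Nat.card B → ¬ r ∣ B.index :=
    fun {B r} h2 h h1 => h2 (by
      rw [← hG, ← B.card_mul_index]
      exact Nat.mul_dvd_mul h h1)
  have key : ∀ X Y : Subgroup ↥(Lie.twistedE6 F 2), X ≠ ⊤ → Y ≠ ⊤ → Ex78.Pd X Y → ¬ 19 ∣ Nat.card X := by
    intro X Y hX hY h h19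
    have h13 : 13 ∣ Nat.card Y := (h.prime_dvd (by norm_num) (by rw [hG]; decide +kernel)).resolve_left fun h1 =>
      hX (K_TE6 tb cycFixSolv hcf pp2 hK X (by
        intro e he r hr
        have he' : e = 18 ∨ e = 12 := by simpa using he
        rcases he' with rfl | rfl
        · rw [eq19 hr]
          exact off (by decide +kernel) h19
        · rw [eq13 hr]
          exact off (by decide +kernel) h1))
    have h11 : 11 ∣ Nat.card Y := (h.prime_dvd (by norm_num) (by rw [hG]; decide +kernel)).resolve_left fun h1 =>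
      hX (K1911 tb cycFixSolv hcf hK X h19 h1)
    have hY' := card_1311 tb cycFixSolv hcf hK Y hY h13 h11
    have h17 : 17 ∣ Nat.card X := (h.prime_dvd (by norm_num) (by rw [hG]; decide +kernel)).resolve_right fun h1 =>
      absurd (h1.trans hY') (by decide +kernel)
    have hX' := card_1917 tb cycFixSolv hcf hK X hX h19 h17
    have h1 := h.card_dvd.trans (Nat.mul_dvd_mul hX' hY')
    rw [hG] at h1
    exact absurd h1 (by decide +kernel)
  intro X Y hX hY h
  rcases h.prime_dvd (r := 19) (by norm_num) (by rw [hG]; decide +kernel) with h1 | h1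
  · exact key X Y hX hY h h1
  · exact key Y X hY hX h.symm h1

end Cfsg.Agent.SM.Ex.T62
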