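import Cfsg.Agent.SM.Ex.FDefs
import Cfsg.Agent.TAB.F42.G.Main
import Cfsg.Agent.H902.Iso
import Cfsg.Agent.H542.G2X.CovCross

/-!
# S3570: `SL₃(4)` and `G₂(4)` are not subgroups of `F₄(2)` (helper40)

The centre of `SL₃(4)` is generated by the fifth power of an element of order 15 and is the centre of an extraspecial
group of order 27.  The count of the orbits of that group on the 69888 points of the table is not an integer.
-/

set_option autoImplicit false

namespace Cfsg.Agent.SM.Ex.G4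

open Cfsg Cfsg.Lie Cfsg.Agent.OrdDiv Cfsg.Agent.TAB.Eng Cfsg.Agent.TAB.F42 MulAction

/-- the Heisenberg group of order 27 -/
def Hs : Type := ZMod 3 × ZMod 3 × ZMod 3

/-- the group law -/
instance hsGroup : Group Hs where
  mul g h := (g.1 + h.1, g.2.1 + h.2.1, g.2.2 + h.2.2 + g.2.1 * h.1)
  one := (0, 0, 0)
  inv g := (-g.1, -g.2.1, -g.2.2 + g.1 * g.2.1)
  mul_assoc g h k := Prod.ext (add_assoc _ _ _) (Prod.ext (add_assoc _ _ _) (by
    show g.2.2 + h.2.2 + g.2.1 * h.1 + k.2.2 + (g.2.1 + h.2.1) * k.1 =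
      g.2.2 + (h.2.2 + k.2.2 + h.2.1 * k.1) + g.2.1 * (h.1 + k.1)
    ring))
  one_mul g := Prod.ext (zero_add _) (Prod.ext (zero_add _) (by
    show 0 + g.2.2 + 0 * g.1 = g.2.2
    ring))
  mul_one g := Prod.ext (add_zero _) (Prod.ext (add_zero _) (by
    show g.2.2 + 0 + g.2.1 * 0 = g.2.2
    ring))
  inv_mul_cancel g := Prod.ext (neg_add_cancel _) (Prod.ext (neg_add_cancel _) (by
    show -g.2.2 + g.1 * g.2.1 + g.2.2 + -g.2.1 * g.1 = 0
    ring))

/-- finiteness -/
instance hsFintype : Fintype Hs := inferInstanceAs (Fintype (ZMod 3 × ZMod 3 × ZMod 3))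

/-- equality -/
instance hsDec : DecidableEq Hs := inferInstanceAs (DecidableEq (ZMod 3 × ZMod 3 × ZMod 3))

/-- an element -/
def mk (a b c : ZMod 3) : Hs := (a, b, c)

theorem cube : ∀ h : Hs, h * h * h = 1 := by decide +kernel

theorem conj_mk : ∀ a b c : ZMod 3, (a ≠ 0 ∨ b ≠ 0) → ∃ k : Hs, k * mk a b 0 * k⁻¹ = mk a b c := by decide +kernel

theorem mk_mul : ∀ a b : ZMod 3, mk a b 1 = mk a b 0 * mk 0 0 1 := by decide +kernel

section hom

variable {G : Type*} [Group G] {x y z : G}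

theorem swap_pow (hxz : Commute x z) (hyz : Commute y z) (h : y * x = x * y * z) (m n : ℕ) :
    y ^ m * x ^ n = x ^ n * y ^ m * z ^ (m * n) := by
  have h1 : ∀ n : ℕ, y * x ^ n = x ^ n * y * z ^ n := fun n => by
    induction n with
    | zero => simp
    | succ n ih =>
      rw [pow_succ, ← mul_assoc, ih, mul_assoc, ← (hxz.pow_right n).eq, ← mul_assoc, mul_assoc (x ^ n), h, pow_succ' z]
      simp only [mul_assoc]
  induction m with
  | zero => simp
  | succ m ih =>
    rw [pow_succ', mul_assoc, ih, ← mul_assoc, ← mul_assoc, h1, mul_assoc (x ^ n * y), ← (hyz.pow_pow m n).eq,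
      add_mul, one_mul, add_comm, pow_add]
    simp only [mul_assoc]

/-- the homomorphism -/
def hom (hx : x ^ 3 = 1) (hy : y ^ 3 = 1) (hz : z ^ 3 = 1) (hxz : Commute x z) (hyz : Commute y z)
    (h : y * x = x * y * z) : Hs →* G :=
  MonoidHom.mk' (fun g => x ^ g.1.val * y ^ g.2.1.val * z ^ g.2.2.val) fun g k => by
    show x ^ (g.1 + k.1).val * y ^ (g.2.1 + k.2.1).val * z ^ (g.2.2 + k.2.2 + g.2.1 * k.1).val = _
    rw [ZMod.val_add, ZMod.val_add, ZMod.val_add, ZMod.val_add, ZMod.val_mul, ← pow_eq_pow_mod _ hx,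
      ← pow_eq_pow_mod _ hy, ← pow_eq_pow_mod _ hz, pow_add z, ← pow_eq_pow_mod _ hz, ← pow_eq_pow_mod _ hz]
    generalize g.1.val = a
    generalize g.2.1.val = b
    generalize g.2.2.val = c
    generalize k.1.val = a'
    generalize k.2.1.val = b'
    generalize k.2.2.val = c'
    calc x ^ (a + a') * y ^ (b + b') * (z ^ (c + c') * z ^ (b * a'))
        = x ^ a * (x ^ a' * y ^ b * (y ^ b' * z ^ (b * a' + c))) * z ^ c' := by
          rw [← pow_add z, show c + c' + b * a' = b * a' + c + c' by ring, pow_add z _ c', pow_add x, pow_add y]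
          simp only [mul_assoc]
      _ = x ^ a * (x ^ a' * y ^ b * z ^ (b * a') * z ^ c * y ^ b') * z ^ c' := by
          rw [(hyz.pow_pow _ _).eq, pow_add]
          simp only [mul_assoc]
      _ = x ^ a * (y ^ b * (x ^ a' * z ^ c) * y ^ b') * z ^ c' := by
          rw [← swap_pow hxz hyz h]
          simp only [mul_assoc]
      _ = _ := by
          rw [(hxz.pow_pow _ _).eq]
          simp only [mul_assoc]

theorem sum3 (f : ZMod 3 → ℤ) : ∑ i, f i = f 0 + f 1 + f 2 := Fin.sum_univ_three f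

/-- **the orbit count** -/
theorem count {X : Type} [Fintype X] [MulAction G X] (φ : Hs →* G) :
    (27 : ℤ) ∣ ∑ a, ∑ b, ∑ c, (Nat.card (fixedBy X (φ (mk a b c))) : ℤ) := by
  classical
  let _ : MulAction Hs X := MulAction.compHom X φ
  have h1 := MulAction.sum_card_fixedBy_eq_card_orbits_mul_card_group Hs X
  have h2 : Fintype.card Hs = 27 := by decide +kernel
  have h3 : ∑ a, ∑ b, ∑ c, (Nat.card (fixedBy X (φ (mk a b c))) : ℤ) =
      ((∑ g : Hs, Fintype.card (fixedBy X g) : ℕ) : ℤ) := by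
    rw [Nat.cast_sum]
    refine Eq.symm ((Fintype.sum_prod_type _).trans (Finset.sum_congr rfl fun a _ =>
      (Fintype.sum_prod_type _).trans (Finset.sum_congr rfl fun b _ => Finset.sum_congr rfl fun c _ => ?_)))
    rw [← Nat.card_eq_fintype_card]
    rfl
  rw [h3, h1, h2]
  exact_mod_cast Dvd.intro_left _ rfl

/-- the contradiction for one permutation character -/
theorem kill (T : TD G D) {p : List ℤ} {Ns : List (List ℤ)} (hp : Orb T p Ns) (φ : Hs →* G)
    (h1 : ∀ i < 92, D.ord i = 1 → nth p i = 69888) (h3 : ∀ i < 92, D.ord i = 3 → nth p i % 9 = 3)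
    (hz : φ (mk 0 0 1) ≠ 1) (hz1 : nth p (T.ty (φ (mk 0 0 1))) = 57) (hz2 : nth p (T.ty (φ (mk 0 0 2))) = 57) :
    False := by
  obtain ⟨X, _, _, hX, -⟩ := hp
  have h := count (X := X) φ
  simp only [hX] at h
  have hc : ∀ a b c : ZMod 3, (a ≠ 0 ∨ b ≠ 0) → T.ty (φ (mk a b c)) = T.ty (φ (mk a b 0)) := fun a b c hab => by
    obtain ⟨k, hk⟩ := conj_mk a b c hab
    rw [← hk, map_mul, map_mul, map_inv, T.conj]
  have ho : ∀ a b : ZMod 3, (a ≠ 0 ∨ b ≠ 0) → nth p (T.ty (φ (mk a b 0))) % 9 = 3 := fun a b hab => by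
    have : Fact (Nat.Prime 3) := ⟨Nat.prime_three⟩
    refine h3 _ (T.lt _) ((T.ord _).symm.trans (orderOf_eq_prime ?_ fun h0 => hz ?_))
    · rw [pow_three', ← map_mul, ← map_mul, cube, map_one]
    · obtain ⟨k, hk⟩ := conj_mk a b 1 hab
      have h4 : φ (mk a b 1) = 1 := by rw [← hk, map_mul, map_mul, h0, mul_one, ← map_mul, mul_inv_cancel, map_one]
      rwa [mk_mul, map_mul, h0, one_mul] at h4
  have h0 : nth p (T.ty (φ (mk 0 0 0))) = 69888 :=
    h1 _ (T.lt _) ((T.ord _).symm.trans (orderOf_eq_one_iff.2 (map_one φ)))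
  have key : ∀ a b : ZMod 3, (a ≠ 0 ∨ b ≠ 0) → (∑ c, nth p (T.ty (φ (mk a b c)))) % 27 = 9 := fun a b hab => by
    rw [sum3, hc a b 1 hab, hc a b 2 hab]
    have := ho a b hab
    omega
  have k0 : ∑ c, nth p (T.ty (φ (mk 0 0 c))) = 70002 := by
    rw [sum3, h0, hz1, hz2]
    rfl
  rw [sum3, sum3 fun b => ∑ c, _, sum3 fun b => ∑ c, _, sum3 fun b => ∑ c, _, k0] at h
  have k1 := key 0 1 (by decide)
  have k2 := key 0 2 (by decide)
  have k3 := key 1 0 (by decide)
  have k4 := key 1 1 (by decide)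
  have k5 := key 1 2 (by decide)
  have k6 := key 2 0 (by decide)
  have k7 := key 2 1 (by decide)
  have k8 := key 2 2 (by decide)
  omega

theorem t15 : ∀ i < 92, D.ord i = 15 → D.pwf i 10 = 5 ∨ D.pwf i 10 = 6 := by decide +kernel

theorem t1 : (∀ i < 92, D.ord i = 1 → nth pY i = 69888) ∧ ∀ i < 92, D.ord i = 1 → nth pY' i = 69888 := by
  decide +kernel

theorem t3 : (∀ i < 92, D.ord i = 3 → nth pY i % 9 = 3) ∧ ∀ i < 92, D.ord i = 3 → nth pY' i % 9 = 3 := by
  decide +kernel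

theorem t5 : D.pwf 5 2 = 5 ∧ D.pwf 6 2 = 6 ∧ nth pY 5 = 57 ∧ nth pY' 6 = 57 := by decide +kernel

/-- an element of order three that commutes with an element of order five is not such a commutator -/
theorem no_comm (T : TD G D) (hT : Hyp T) {u : G} (hx : x ^ 3 = 1) (hy : y ^ 3 = 1) (hz : z ^ 3 = 1)
    (hxz : Commute x z) (hyz : Commute y z) (h : y * x = x * y * z) (hz1 : z ≠ 1) (hu : u ^ 5 = 1) (hu1 : u ≠ 1)
    (hzu : Commute z u) : False := by
  have : Fact (Nat.Prime 3) := ⟨Nat.prime_three⟩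
  have : Fact (Nat.Prime 5) := ⟨Nat.prime_five⟩
  have e1 : hom hx hy hz hxz hyz h (mk 0 0 1) = z := by
    show x ^ 0 * y ^ 0 * z ^ 1 = z
    simp
  have e2 : hom hx hy hz hxz hyz h (mk 0 0 2) = z ^ 2 := by
    show x ^ 0 * y ^ 0 * z ^ 2 = z ^ 2
    simp
  have h15 : orderOf (z * u) = 15 := by
    rw [hzu.orderOf_mul_eq_mul_orderOf_of_coprime, orderOf_eq_prime hz hz1, orderOf_eq_prime hu hu1]
    rw [orderOf_eq_prime hz hz1, orderOf_eq_prime hu hu1]
    norm_num
  have h10 : (z * u) ^ 10 = z := by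
    rw [hzu.mul_pow, pow_eq_pow_mod 10 hz, pow_eq_pow_mod 10 hu]
    simp
  have h5 := t15 _ (T.lt (z * u)) ((T.ord _).symm.trans h15)
  rw [← T.pow, h10] at h5
  rcases h5 with h5 | h5
  · exact kill T hT.2.2.1 (hom hx hy hz hxz hyz h) t1.1 t3.1 (e1.symm ▸ hz1) (by rw [e1, h5, t5.2.2.1])
      (by rw [e2, T.pow, h5, t5.1, t5.2.2.1])
  · exact kill T hT.2.2.2 (hom hx hy hz hxz hyz h) t1.2 t3.2 (e1.symm ▸ hz1) (by rw [e1, h5, t5.2.2.2])
      (by rw [e2, T.pow, h5, t5.2.1, t5.2.2.2])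

end hom

section sl

variable {K : Type} [Field K]

open Matrix

omit [Field K] in
theorem m3 {a b c d e f g h i a' b' c' d' e' f' g' h' i' : K} (h1 : a = a') (h2 : b = b') (h3 : c = c') (h4 : d = d')
    (h5 : e = e') (h6 : f = f') (h7 : g = g') (h8 : h = h') (h9 : i = i') :
    !![a, b, c; d, e, f; g, h, i] = !![a', b', c'; d', e', f'; g', h', i'] := by
  subst_vars
  rfl

/-- **`SL₃(4)` does not embed** -/
theorem no_sl3 {G : Type*} [Group G] (T : TD G D) (hT : Hyp T) (h2 : (2 : K) = 0) {w : K} (hw : w ^ 2 = w + 1)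
    (φ : SpecialLinearGroup (Fin 3) K →* G) (hφ : Function.Injective φ) : False := by
  let x : SpecialLinearGroup (Fin 3) K := ⟨!![1, 0, 0; 0, w, 0; 0, 0, w + 1], by
    rw [Matrix.det_fin_three]
    simp
    grind⟩
  let y : SpecialLinearGroup (Fin 3) K := ⟨!![0, 1, 0; 0, 0, 1; 1, 0, 0], by
    rw [Matrix.det_fin_three]
    simp⟩
  let z : SpecialLinearGroup (Fin 3) K := ⟨!![w, 0, 0; 0, w, 0; 0, 0, w], by
    rw [Matrix.det_fin_three]
    simp
    grind⟩
  let u : SpecialLinearGroup (Fin 3) K := ⟨!![0, 0, 1; 0, 1, 0; 1, 0, w], by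
    rw [Matrix.det_fin_three]
    simp
    grind⟩
  let u2 : SpecialLinearGroup (Fin 3) K := ⟨!![1, 0, w; 0, 1, 0; w, 0, w], by
    rw [Matrix.det_fin_three]
    simp
    grind⟩
  have hx : x * x * x = 1 := by
    refine Subtype.ext (show x.1 * x.1 * x.1 = 1 from ?_)
    simp only [x, Matrix.mul_fin_three, Matrix.one_fin_three]
    clear_value x y z u u2
    clear * - h2 hw
    refine m3 ?_ ?_ ?_ ?_ ?_ ?_ ?_ ?_ ?_ <;> grind
  have hy : y * y * y = 1 := by
    refine Subtype.ext (show y.1 * y.1 * y.1 = 1 from ?_)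
    simp only [y, Matrix.mul_fin_three, Matrix.one_fin_three]
    clear_value x y z u u2
    clear * - h2 hw
    refine m3 ?_ ?_ ?_ ?_ ?_ ?_ ?_ ?_ ?_ <;> grind
  have hz : z * z * z = 1 := by
    refine Subtype.ext (show z.1 * z.1 * z.1 = 1 from ?_)
    simp only [z, Matrix.mul_fin_three, Matrix.one_fin_three]
    clear_value x y z u u2
    clear * - h2 hw
    refine m3 ?_ ?_ ?_ ?_ ?_ ?_ ?_ ?_ ?_ <;> grind
  have hxz : x * z = z * x := by
    refine Subtype.ext (show x.1 * z.1 = z.1 * x.1 from ?_)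
    simp only [x, z, Matrix.mul_fin_three]
    clear_value x y z u u2
    clear * - h2 hw
    refine m3 ?_ ?_ ?_ ?_ ?_ ?_ ?_ ?_ ?_ <;> grind
  have hyz : y * z = z * y := by
    refine Subtype.ext (show y.1 * z.1 = z.1 * y.1 from ?_)
    simp only [y, z, Matrix.mul_fin_three]
    clear_value x y z u u2
    clear * - h2 hw
    refine m3 ?_ ?_ ?_ ?_ ?_ ?_ ?_ ?_ ?_ <;> grind
  have hzu : z * u = u * z := by
    refine Subtype.ext (show z.1 * u.1 = u.1 * z.1 from ?_)
    simp only [u, z, Matrix.mul_fin_three]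
    clear_value x y z u u2
    clear * - h2 hw
    refine m3 ?_ ?_ ?_ ?_ ?_ ?_ ?_ ?_ ?_ <;> grind
  have hxy : y * x = x * y * z := by
    refine Subtype.ext (show y.1 * x.1 = x.1 * y.1 * z.1 from ?_)
    simp only [x, y, z, Matrix.mul_fin_three]
    clear_value x y z u u2
    clear * - h2 hw
    refine m3 ?_ ?_ ?_ ?_ ?_ ?_ ?_ ?_ ?_ <;> grind
  have hu2 : u * u = u2 := by
    refine Subtype.ext (show u.1 * u.1 = u2.1 from ?_)
    simp only [u, u2, Matrix.mul_fin_three]
    clear_value x y z u u2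
    clear * - h2 hw
    refine m3 ?_ ?_ ?_ ?_ ?_ ?_ ?_ ?_ ?_ <;> grind
  have hu : u2 * u2 * u = 1 := by
    refine Subtype.ext (show u2.1 * u2.1 * u.1 = 1 from ?_)
    simp only [u, u2, Matrix.mul_fin_three, Matrix.one_fin_three]
    clear_value x y z u u2
    clear * - h2 hw
    refine m3 ?_ ?_ ?_ ?_ ?_ ?_ ?_ ?_ ?_ <;> grind
  have hz1 : z ≠ 1 := fun h => by
    have h1 : (z : Matrix (Fin 3) (Fin 3) K) 0 0 = (1 : SpecialLinearGroup (Fin 3) K) 0 0 := by rw [h]
    simp [z] at h1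
    rw [h1] at hw
    exact one_ne_zero (by linear_combination - hw : (1 : K) = 0)
  have hu1 : u ≠ 1 := fun h => by
    have h1 : (u : Matrix (Fin 3) (Fin 3) K) 0 0 = (1 : SpecialLinearGroup (Fin 3) K) 0 0 := by rw [h]
    simp [u] at h1
  refine no_comm T hT (x := φ x) (y := φ y) (z := φ z) (u := φ u) ?_ ?_ ?_ ?_ ?_ ?_ ?_ ?_ ?_ ?_
  · rw [← map_pow, pow_three', hx, map_one]
  · rw [← map_pow, pow_three', hy, map_one]
  · rw [← map_pow, pow_three', hz, map_one]
  · exact Commute.map hxz φ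
  · exact Commute.map hyz φ
  · rw [← map_mul, hxy, map_mul, map_mul]
  · exact fun h => hz1 (hφ (h.trans (map_one φ).symm))
  · rw [← map_pow, show u ^ 5 = u * u * (u * u) * u by simp only [pow_succ, pow_zero, one_mul, mul_assoc], hu2, hu,
      map_one]
  · exact fun h => hu1 (hφ (h.trans (map_one φ).symm))
  · exact Commute.map hzu φ

theorem four [Fintype K] (hK : Fintype.card K = 4) : (2 : K) = 0 ∧ ∃ w : K, w ^ 2 = w + 1 := by
  classical
  have : Fact (Nat.Prime 2) := ⟨Nat.prime_two⟩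
  have hc : CharP K 2 := charP_of_card_eq_prime_pow (f := 2) (by rw [hK]; norm_num)
  have h2 : (2 : K) = 0 := by exact_mod_cast CharP.cast_eq_zero K 2
  obtain ⟨a, ha0, ha1⟩ : ∃ a : K, a ≠ 0 ∧ a ≠ 1 := by
    by_contra hcon
    push Not at hcon
    have h1 : Fintype.card K ≤ ({0, 1} : Finset K).card := by
      rw [← Finset.card_univ]
      refine Finset.card_le_card fun x _ => ?_
      by_cases hx : x = 0
      · simp [hx]
      · simp [hcon x hx]
    have h2 : ({0, 1} : Finset K).card ≤ 2 := Finset.card_le_two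
    omega
  have h1 := FiniteField.pow_card a
  rw [hK] at h1
  refine ⟨h2, a, ?_⟩
  have h3 : a * (a - 1) * (a ^ 2 + a + 1) = 0 := by linear_combination h1
  rcases mul_eq_zero.1 h3 with h4 | h4
  · rcases mul_eq_zero.1 h4 with h5 | h5
    · exact absurd h5 ha0
    · exact absurd (sub_eq_zero.1 h5) ha1
  · linear_combination h4 - (a + 1) * h2

/-- **`SL₃(4)` is not a subgroup of `F₄(2)`** -/
theorem no_sl3_f4 [Fintype K] (hK : Fintype.card K = 4) (F : Type) [Field F] [Fintype F] (hF : Fintype.card F = 2)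
    (φ : SpecialLinearGroup (Fin 3) K →* ↥(chevF4.group F)) : ¬ Function.Injective φ := fun hφ => by
  obtain ⟨T, hT⟩ := TAB.F42.G.main
  obtain ⟨e⟩ : Nonempty (FourTwo.Base.LL ≃* ↥(chevF4.group F)) :=
    H902.Iso.chev_congr (FiniteField.ringEquivOfCardEq (by rw [hF, ZMod.card])) chevF4
  obtain ⟨h2, w, hw⟩ := four hK
  exact no_sl3 T hT h2 hw (e.symm.toMonoidHom.comp φ) (e.symm.injective.comp hφ)

end sl

/-- **`G₂(4)` is not a subgroup of `F₄(2)`** -/
theorem boxG : BoxG := by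
  rintro F _ _ hF X ⟨K, _, _, hK, ⟨e⟩⟩
  obtain ⟨σ, hσ⟩ := H542.G2X.exists_sigma (F := K)
  exact no_sl3_f4 hK F hF (X.subtype.comp (e.symm.toMonoidHom.comp σ))
    (X.subtype_injective.comp (e.symm.injective.comp hσ))

end Cfsg.Agent.SM.Ex.G4
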