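import Cfsg.Agent.SM.Ex.FDefs
import Cfsg.Agent.H557.InvF4
import Cfsg.Agent.H744.FC.Par
import Cfsg.Agent.H520.FC.Defs
import Cfsg.Agent.H225.PPow.Long
import Cfsg.Agent.H200.VZ.One
import Cfsg.Agent.H35.Poin
import Cfsg.Agent.H122.SNX.Supp
import Cfsg.Agent.H583.L3Group
import Cfsg.Agent.H436.Ppd
import Cfsg.Agent.S1036
import Cfsg.Agent.S1062
import Cfsg.Agent.S1067
import Cfsg.Agent.S1088
import Cfsg.Agent.S1106

/-!
# S3570, box `BoxOd`: `F₄(q)`, `q` odd, is not the product of `³D₄(q)` and `Spin₉(q)` (helper61)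

`R` = Sylow `p`-subgroup of `³D₄(q)`, normalised by an element of prime order dividing `q² + q + 1`; Borel-Tits puts `R` into `V_J`;
`z₀` = the toral involution which inverts both short simple root groups; `|R ⊓ C(z₀)| ≤ q ^ 4`.
-/

set_option autoImplicit false
set_option linter.unusedSectionVars false

namespace Cfsg.Agent.SM.Ex.Od

open Subgroup CoxeterSystem Cfsg.Agent.ChevalleyStructure.CoxeterGeom Cfsg.Agent.Tits.Roots
  Cfsg.Agent.Nodes.Reps Cfsg.Agent.Nodes.BNOf Cfsg.Agent.Nodes.StabComb Cfsg.Agent.Nodes.Unique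
  Cfsg.Agent.Nodes.Bruhat Cfsg.Agent.Nodes.LeviDec Cfsg.Agent.Nodes.RGDChev
  Cfsg.Agent.KFacts.RgdChevCoord Cfsg.Agent.KFacts.RgdBorelTits Cfsg.Agent.KFacts.RgdFilt
  Cfsg.Agent.OddHalf.NI.ModelChev Cfsg.Agent.H225.PPow
open Cfsg Cfsg.Lie Cfsg.Agent.ChevalleyStructure Cfsg.Agent.ChevalleyStructure.CoxeterGeomTypes
open Cfsg.Agent.H701.F43.Cent (hF cF nroots)
open Cfsg.Agent.H520.FC (PK VK)
open Cfsg.Agent.H744.FC (PK_mono)
open Cfsg.Agent.H557 Cfsg.Agent.H557.SignTorus Cfsg.Agent.H557.InvClass Cfsg.Agent.H557.ToralTypes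
  Cfsg.Agent.H557.OrbF4 Cfsg.Agent.H557.CentChev
open Cfsg.Agent.SM.Ex78
open scoped commutatorElement

section group

variable {G : Type*} [Group G]

theorem card_mul_card_le [Finite G] {A B S : Subgroup G} (hA : A ≤ S) (hB : B ≤ S) :
    Nat.card A * Nat.card B ≤ Nat.card S * Nat.card ↥(A ⊓ B) := by
  have key : ∀ {H K : Subgroup G}, H ≤ K → Nat.card H * H.relIndex K = Nat.card K := fun {H K} h => by
    rw [relIndex, ← (H.subgroupOf K).card_mul_index, Nat.card_congr (subgroupOfEquivOfLe h).toEquiv]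
  rw [inf_comm]
  have h1 : Nat.card ↥(B ⊓ A) * B.relIndex A = Nat.card A := by
    rw [← inf_relIndex_right]
    exact key inf_le_right
  have h2 : Nat.card B * B.relIndex S = Nat.card S := key hB
  have h3 : B.relIndex A ≤ B.relIndex S := relIndex_le_of_le_right hA (B.subgroupOf S).index_ne_zero_of_finite
  calc Nat.card A * Nat.card B = Nat.card ↥(B ⊓ A) * B.relIndex A * Nat.card B := by rw [h1]
    _ ≤ Nat.card ↥(B ⊓ A) * B.relIndex S * Nat.card B := by gcongr
    _ = Nat.card S * Nat.card ↥(B ⊓ A) := by rw [← h2]; ring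

theorem card_cj (g : G) (A : Subgroup G) : Nat.card ↥(A.map (MulAut.conj g).toMonoidHom) = Nat.card A :=
  (Nat.card_congr (A.equivMapOfInjective _ (MulAut.conj g).injective).toEquiv).symm

theorem map_map_inv (g : G) (A : Subgroup G) :
    (A.map (MulAut.conj g).toMonoidHom).map (MulAut.conj g⁻¹).toMonoidHom = A := by
  rw [map_map]
  convert A.map_id
  ext x
  simp [mul_assoc]

theorem map_cent (g z : G) : (centralizer {z}).map (MulAut.conj g).toMonoidHom = centralizer {g * z * g⁻¹} := by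
  ext x
  rw [Subgroup.mem_map_equiv, mem_centralizer_singleton_iff, mem_centralizer_singleton_iff, MulAut.conj_symm_apply]
  constructor
  · intro h
    calc x * (g * z * g⁻¹) = g * (g⁻¹ * x * g * z) * g⁻¹ := by group
      _ = _ := by rw [h]; group
  · intro h
    calc g⁻¹ * x * g * z = g⁻¹ * (x * (g * z * g⁻¹)) * g := by group
      _ = _ := by rw [h]; group

/-- the elements which `z` inverts modulo the commutator subgroup -/
def invSub (V : Subgroup G) (z : G) (hz : ∀ v ∈ V, z * v * z⁻¹ ∈ V) : Subgroup G where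
  carrier := {v | v ∈ V ∧ z * v * z⁻¹ * v ∈ ⁅V, V⁆}
  one_mem' := ⟨V.one_mem, by simp⟩
  mul_mem' := by
    rintro a b ⟨ha, ha'⟩ ⟨hb, hb'⟩
    refine ⟨V.mul_mem ha hb, ?_⟩
    have h1 : z * (a * b) * z⁻¹ * (a * b) = z * a * z⁻¹ * a * ⁅a⁻¹, z * b * z⁻¹⁆ * (z * b * z⁻¹ * b) := by
      rw [commutatorElement_def]
      group
    rw [h1]
    exact mul_mem (mul_mem ha' (commutator_mem_commutator (V.inv_mem ha) (hz b hb))) hb'
  inv_mem' := by
    rintro a ⟨ha, ha'⟩
    refine ⟨V.inv_mem ha, ?_⟩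
    have h1 : z * a⁻¹ * z⁻¹ * a⁻¹ = (⁅a, z * a * z⁻¹⁆ * (z * a * z⁻¹ * a))⁻¹ := by
      rw [commutatorElement_def]
      group
    rw [h1]
    exact inv_mem (mul_mem (commutator_mem_commutator ha (hz a ha)) ha')

theorem frattini [Finite G] {p : ℕ} [Fact p.Prime] {V R : Subgroup G} (hV : IsPGroup p V) (hR : R ≤ V)
    (h : R ⊔ ⁅V, V⁆ = V) : R = V := by
  have := hV.isNilpotent
  have h1 : R.subgroupOf V = ⊤ := by
    refine H583.L3.eq_top_of_sup_commutator _ ?_
    apply map_injective V.subtype_injective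
    rw [Subgroup.map_sup, subgroupOf_map_subtype, inf_eq_left.2 hR, map_subtype_commutator, h, ← MonoidHom.range_eq_map,
      range_subtype]
  exact le_antisymm hR (subgroupOf_eq_top.1 h1)

end group

/-! ### roots -/

theorem vec_inj : ∀ r < 48, ∀ s < 48, (fun i : Fin 4 => vec chevF4 4 r i) = (fun i => vec chevF4 4 s i) → r = s := by
  decide +kernel

theorem ncard_roots (P : (Fin 4 → ℤ) → Prop) [DecidablePred P] {S : Set (Fin 4 → ℤ)}
    (hS : ∀ x, x ∈ S ↔ IsRoot cF hF.isCartan x ∧ P x) :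
    S.ncard = ((Finset.range 48).filter fun r => P (vec chevF4 4 r)).card := by
  have h1 : S = (fun r => vec chevF4 4 r) '' ((Finset.range 48).filter fun r => P (vec chevF4 4 r)) := by
    ext x
    rw [hS, isRoot_iff hF cF, nroots]
    constructor
    · rintro ⟨⟨r, hr, rfl⟩, h⟩
      exact ⟨r, Finset.mem_coe.2 (Finset.mem_filter.2 ⟨Finset.mem_range.2 hr, h⟩), rfl⟩
    · rintro ⟨r, hr, rfl⟩
      have h2 := Finset.mem_filter.1 (Finset.mem_coe.1 hr)
      exact ⟨⟨r, Finset.mem_range.1 h2.1, rfl⟩, h2.2⟩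
  rw [h1, Set.InjOn.ncard_image, Set.ncard_coe_finset]
  intro r hr s hs h
  exact vec_inj r (Finset.mem_range.1 (Finset.mem_filter.1 (Finset.mem_coe.1 hr)).1) s
    (Finset.mem_range.1 (Finset.mem_filter.1 (Finset.mem_coe.1 hs)).1) h

/-- positive, not in the span of the list -/
def nj (J : List (Fin 4)) (x : Fin 4 → ℤ) : Prop := (∀ k, 0 ≤ x k) ∧ ∃ k, k ∉ J ∧ 0 < x k

instance (J : List (Fin 4)) : DecidablePred (nj J) := fun _ => inferInstanceAs (Decidable (_ ∧ _))

theorem mem_nj (J : List (Fin 4)) (x : Fin 4 → ℤ) :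
    x ∈ NotJ cF hF.isCartan {k | k ∈ J} ↔ IsRoot cF hF.isCartan x ∧ nj J x := Iff.rfl

set_option synthInstance.maxSize 2000 in
set_option synthInstance.maxHeartbeats 400000 in
theorem tab : ∀ γ < 48, nj [2, 3] (vec chevF4 4 γ) → Even (vec chevF4 4 γ 0 + vec chevF4 4 γ 1) →
    ∃ r < 48, ∃ s < 48, nj [2, 3] (vec chevF4 4 r) ∧ nj [2, 3] (vec chevF4 4 s) ∧ s ≠ r ∧ s ≠ chevF4.neg r ∧
      ∃ N ∈ ([1, -1, 2, -2] : List ℤ), chevF4.commTerms r s = [(γ, N, 1, 1)] := by
  decide +kernel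

variable {K : Type} [Field K] [Fintype K]

/-- the involution -/
noncomputable def z0 (K : Type) [Field K] : ↥(chevF4.group K) := th hF (sg K 4 3)

theorem z0_mem : z0 K ∈ TT chevF4 K := Toral.th_mem hF _

theorem ch_z0 {x : Fin 4 → ℤ} (hx : IsRoot cF hF.isCartan x) : ch hF x (z0 K) = (((-1 : Kˣ) ^ (x 0 + x 1) : Kˣ) : K) := by
  rw [z0, SignTorus.ch_eq hF cF hx, Fin.prod_univ_four, chi_sg hcm, chi_sg hcm, chi_sg hcm, chi_sg hcm, if_pos (by decide),
    if_pos (by decide), if_neg (by decide), if_neg (by decide), one_zpow, one_zpow, mul_one, mul_one, zpow_add]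

theorem ch_z0_iff (h2 : (2 : K) ≠ 0) {x : Fin 4 → ℤ} (hx : IsRoot cF hF.isCartan x) :
    ch hF x (z0 K) = 1 ↔ Even (x 0 + x 1) := by
  rw [ch_z0 hx]
  constructor
  · intro h
    by_contra h3
    rw [(Int.not_even_iff_odd.1 h3).neg_one_zpow] at h
    exact neg_one_ne h2 (Units.ext h)
  · intro h
    rw [h.neg_one_zpow, Units.val_one]

section

variable (p : ℕ) [Fact p.Prime] [CharP K p]

include p

theorem card_inf (h2 : (2 : K) ≠ 0) (J : List (Fin 4)) : Nat.card ↥(VK K {k | k ∈ J} ⊓ centralizer {z0 K}) =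
    Nat.card K ^ ((Finset.range 48).filter fun r => nj J (vec chevF4 4 r) ∧
      Even (vec chevF4 4 r 0 + vec chevF4 4 r 1)).card := by
  have hW := finite_W hF cF
  rw [← ncard_roots (fun x => nj J x ∧ Even (x 0 + x 1))
    (S := {x | x ∈ NotJ cF hF.isCartan {k | k ∈ J} ∧ ch hF x (z0 K) = 1}) fun x => by
      rw [Set.mem_ofPred_eq, mem_nj, and_assoc]
      exact and_congr_right fun hx => and_congr_right fun _ => ch_z0_iff h2 hx]
  exact card_closed hF p cF z0_mem (fun x hx => ⟨hx.1, hx.2.1⟩) (H122.SNX.closed_notJ _)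

theorem ch_one {x : Fin 4 → ℤ} (hx : IsRoot cF hF.isCartan x) : ch hF x (1 : ↥(chevF4.group K)) = 1 := by
  have C := (coords (K := K) hF cF p).coord x hx
  have h1 := C.act 1 (one_mem _) 1
  rw [one_mul, inv_one, mul_one, mul_one] at h1
  exact (C.inj h1).symm

theorem card_Sup {S : Set (Fin 4 → ℤ)} (hS : S ⊆ RGD.Pos cF hF.isCartan) (hc : Closed cF hF.isCartan S) :
    Nat.card ↥(RGD.Sup (XX chevF4 4 K) S) = Nat.card K ^ S.ncard := by
  have hW := finite_W hF cF
  have h1 := card_closed hF p cF (K := K) (t := 1) (one_mem _) hS hc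
  have h2 : centralizer ({1} : Set ↥(chevF4.group K)) = ⊤ := by
    rw [eq_top_iff]
    intro x _
    rw [mem_centralizer_singleton_iff, one_mul, mul_one]
  have h3 : {x | x ∈ S ∧ ch hF x (1 : ↥(chevF4.group K)) = 1} = S := by
    ext x
    exact ⟨fun h => h.1, fun h => ⟨h, ch_one p (hS h).1⟩⟩
  rwa [h2, inf_top_eq, h3] at h1

theorem card_VK (J : List (Fin 4)) : Nat.card ↥(VK K {k | k ∈ J}) =
    Nat.card K ^ ((Finset.range 48).filter fun r => nj J (vec chevF4 4 r)).card := by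
  rw [← ncard_roots (nj J) (mem_nj J)]
  exact card_Sup p (fun x hx => ⟨hx.1, hx.2.1⟩) (H122.SNX.closed_notJ _)

theorem card_Pi (i : Fin 4) : ∃ a, Nat.card ↥(PK K {i}) = (1 + Nat.card K) * (p ^ a * (Nat.card K - 1) ^ 4) := by
  have hW := finite_W hF cF
  have R := rgd (K := K) hF cF p
  obtain ⟨a, ha⟩ := (IsPGroup.iff_card (p := p)).1 R.isPGroup_Upos
  have hc1 : Nat.card (chevF4.diagonalSubgroup K) = (Nat.card K - 1) ^ 4 := by
    have := Cfsg.Agent.S1035.result (F := K) rfl (chevF4, 1) (by simp)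
    rw [Nat.card_eq_fintype_card (α := K)]
    rwa [one_mul] at this
  have hT : Nat.card ↥(TT chevF4 K) = (Nat.card K - 1) ^ 4 := by
    rw [← hc1]
    exact Nat.card_congr (Subgroup.subgroupOfEquivOfLe
      (Cfsg.Agent.ChevalleyStructure.Elts.diagonal_le_group hF.inList K)).toEquiv
  have hq : H985.VZ.qq (XX chevF4 4 K) i = Nat.card K := by
    have C := (coords (K := K) hF cF p).coord _ (isRoot_sr cF hF.isCartan i)
    refine (Nat.card_congr (Equiv.ofBijective (fun a : K => (⟨_, (C.mem _).2 ⟨a, rfl⟩⟩ : ↥(XX chevF4 4 K (sr i))))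
      ⟨fun a b e => C.inj (congrArg Subtype.val e), ?_⟩)).symm
    rintro ⟨g, hg⟩
    obtain ⟨a, rfl⟩ := (C.mem g).1 hg
    exact ⟨a, rfl⟩
  exact ⟨a, by rw [H200.VZ.card_Pi R i, H35.Poin.card_B' R, ha, hT, hq]⟩

/-- the fixed points of `z₀` in `V` are commutators -/
theorem cent_le (h2 : (2 : K) ≠ 0) (hp2 : p ≠ 2) :
    VK K {k | k ∈ [2, 3]} ⊓ centralizer {z0 K} ≤ ⁅VK K {k | k ∈ [2, 3]}, VK K {k | k ∈ [2, 3]}⁆ := by
  have hW := finite_W hF cF
  have R := rgd (K := K) hF cF p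
  have hz : ∀ v ∈ VK K {k | k ∈ [2, 3]}, z0 K * v * (z0 K)⁻¹ ∈ VK K {k | k ∈ [2, 3]} := fun v hv =>
    (mem_normalizer_iff.1 (R.T_le_normalizer (S := NotJ cF hF.isCartan {k | k ∈ [2, 3]}) (fun x hx => hx.1) z0_mem) v).1 hv
  have hX : ∀ r < 48, nj [2, 3] (vec chevF4 4 r) → ∀ t : K, ex hF r t ∈ VK K {k | k ∈ [2, 3]} := fun r hr h t =>
    RGD.le_Sup (S := NotJ cF hF.isCartan {k | k ∈ [2, 3]}) (z := vec chevF4 4 r)
      ⟨(isRoot_iff hF cF _).2 ⟨r, nroots ▸ hr, rfl⟩, h⟩ ((mem_XX_vec hF (nroots ▸ hr)).2 ⟨t, rfl⟩)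
  have h1 : VK K {k | k ∈ [2, 3]} ≤ invSub _ _ hz := by
    refine RGD.Sup_le fun x hx g hg => ⟨RGD.le_Sup (S := NotJ cF hF.isCartan {k | k ∈ [2, 3]}) hx hg, ?_⟩
    have C := (coords (K := K) hF cF p).coord x hx.1
    rcases Int.even_or_odd (x 0 + x 1) with h | h
    · obtain ⟨γ, hγ, rfl⟩ := (isRoot_iff hF cF x).1 hx.1
      obtain ⟨r, hr, s, hs, h3, h4, h5, h6, N, hN, h7⟩ := tab γ (nroots ▸ hγ) hx.2 h
      have hN0 : (N : K) ≠ 0 := by
        simp only [List.mem_cons, List.not_mem_nil, or_false] at hN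
        rcases hN with rfl | rfl | rfl | rfl <;> push_cast
        · exact one_ne_zero
        · exact neg_ne_zero.2 one_ne_zero
        · exact h2
        · exact neg_ne_zero.2 h2
      have h8 : ∀ y ∈ XX chevF4 4 K (vec chevF4 4 γ), y ∈ ⁅VK K {k | k ∈ [2, 3]}, VK K {k | k ∈ [2, 3]}⁆ := by
        intro y hy
        obtain ⟨a, rfl⟩ := (mem_XX_vec hF hγ).1 hy
        have h9 := ex_comm hF (nroots ▸ hr) (nroots ▸ hs) h5 h6 (-1 : K) ((N : K)⁻¹ * a)
        rw [h7, List.map_cons, List.map_nil, List.prod_cons, List.prod_nil, mul_one, pow_one, pow_one, neg_neg, mul_one,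
          mul_inv_cancel_left₀ hN0] at h9
        have h10 : ex hF γ a = ⁅(ex hF s ((N : K)⁻¹ * a))⁻¹, (ex hF r (-1 : K))⁻¹⁆ := by
          rw [commutatorElement_def, inv_inv, inv_inv, mul_assoc, h9]
          group
        rw [h10]
        exact commutator_mem_commutator (inv_mem (hX s hs h4 _)) (inv_mem (hX r hr h3 _))
      refine mul_mem (h8 _ ?_) (h8 _ hg)
      exact (R.tor _ hx.1 _ z0_mem).le (conj_mem_cj.2 hg)
    · obtain ⟨a, rfl⟩ := (C.mem g).1 hg
      rw [C.act _ z0_mem, ch_z0 hx.1, h.neg_one_zpow, ← C.add, Units.val_neg, Units.val_one, neg_one_mul, neg_add_cancel,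
        C.zero]
      exact one_mem _
  rintro c ⟨hc, hcz⟩
  have h3 := (h1 hc).2
  rw [← mem_centralizer_singleton_iff.1 hcz, mul_inv_cancel_right] at h3
  have hU : VK K {k | k ∈ [2, 3]} ≤ RGD.Sup (XX chevF4 4 K) (RGD.Pos cF hF.isCartan) :=
    RGD.Sup_mono fun x hx => ⟨hx.1, hx.2.1⟩
  obtain ⟨k, hk⟩ := R.isPGroup_Upos ⟨c, hU hc⟩
  have h4 : c ^ p ^ k = 1 := congrArg Subtype.val hk
  obtain ⟨m, hm⟩ : Odd (p ^ k) := ((Fact.out : p.Prime).odd_of_ne_two hp2).pow
  have h5 : c = ((c * c) ^ m)⁻¹ := by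
    rw [eq_inv_iff_mul_eq_one, ← pow_two, ← pow_mul, ← pow_succ', ← hm, h4]
  rw [h5]
  exact inv_mem (pow_mem h3 m)

/-- **the local argument** -/
theorem core (h2 : (2 : K) ≠ 0) (hp2 : p ≠ 2) {R : Subgroup ↥(chevF4.group K)} (hR : IsPGroup p R)
    (hc : Nat.card R = Nat.card K ^ 12) {r : ℕ} (hr : H436.Prim (Nat.card K) 3 r)
    (hN : r ∣ Nat.card (normalizer (R : Set ↥(chevF4.group K))))
    (hs : ∀ g, Nat.card ↥(R.map (MulAut.conj g).toMonoidHom ⊓ centralizer {z0 K}) ≤ Nat.card K ^ 4) : False := by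
  have hW := finite_W hF cF
  have hq : 2 ≤ Nat.card K := Finite.one_lt_card
  have hFil := Cfsg.Agent.KFacts.RgdFiltChev.filt (K := K) hF cF p
  have hG := Cfsg.Agent.KFacts.RgdFilt.GG_eq_top (T := TT chevF4 K) (G1_eq_top hF (K := K) cF)
  have hR1 : R ≠ ⊥ := by
    rintro rfl
    rw [card_bot] at hc
    exact absurd hc (Nat.one_lt_pow (by norm_num) hq).ne
  obtain ⟨x, J, -, hle, hNP⟩ := borel_tits hFil hG hR hR1
  have hle' : R.map (MulAut.conj x⁻¹).toMonoidHom ≤ VK K J := by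
    have := map_mono (f := (MulAut.conj x⁻¹).toMonoidHom) hle
    rwa [Nodes.Reps.cj, map_map_inv] at this
  have hc' : Nat.card ↥(R.map (MulAut.conj x⁻¹).toMonoidHom) = Nat.card K ^ 12 := by rw [card_cj, hc]
  have hs' := hs x⁻¹
  generalize R.map (MulAut.conj x⁻¹).toMonoidHom = R' at hle' hc' hs'
  have hrP : r ∣ Nat.card (PK K J) := by
    have := hN.trans (card_dvd_of_le hNP)
    rwa [Nodes.Reps.cj, card_cj] at this
  have key : ∀ {A B : Subgroup ↥(chevF4.group K)}, R' ≤ A → B ⊓ centralizer {z0 K} ≤ A →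
      Nat.card K ^ 12 * Nat.card ↥(B ⊓ centralizer {z0 K}) ≤ Nat.card A * Nat.card K ^ 4 := by
    intro A B hA hB
    rw [← hc']
    refine (card_mul_card_le hA hB).trans (Nat.mul_le_mul_left _ (le_trans ?_ hs'))
    exact card_le_of_le (inf_le_inf_left _ inf_le_right)
  have hA : ∀ i : Fin 4, i = 0 ∨ i = 1 → i ∉ J := by
    intro i hi hiJ
    have h3 : VK K J ≤ VK K {k | k ∈ [i]} := RGD.Sup_mono fun y hy => by
      obtain ⟨h4, h5, k, hk, h6⟩ := hy
      exact ⟨h4, h5, k, fun h => hk (by rw [List.mem_singleton.1 h]; exact hiJ), h6⟩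
    have h4 := key (hle'.trans h3) inf_le_left
    rw [card_inf p h2, card_VK p, ← pow_add, ← pow_add, Nat.pow_le_pow_iff_right hq] at h4
    revert h4
    rcases hi with rfl | rfl <;> decide +kernel
  have hB : ∀ i : Fin 4, ¬ J ⊆ {i} := by
    intro i hi
    obtain ⟨a, ha⟩ := card_Pi (K := K) p i
    have h3 := hrP.trans (card_dvd_of_le (PK_mono hi))
    rw [ha] at h3
    obtain ⟨f, -, hf⟩ := FiniteField.card K p
    rcases hr.prime.dvd_mul.1 h3 with h4 | h4
    · refine hr.not_dvd_add (m := 1) (by norm_num) ?_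
      rwa [pow_one, add_comm]
    · rcases hr.prime.dvd_mul.1 h4 with h5 | h5
      · apply hr.not_dvd
        rw [Nat.card_eq_fintype_card, hf]
        exact (hr.prime.dvd_of_dvd_pow h5).trans (dvd_pow_self p f.ne_zero)
      · refine hr.not_dvd_sub (m := 1) (by norm_num) ?_
        rw [pow_one]
        exact hr.prime.dvd_of_dvd_pow h5
  have hJ : J = {k | k ∈ [2, 3]} := by
    have h0 := hA 0 (Or.inl rfl)
    have h1 := hA 1 (Or.inr rfl)
    have h3 : (3 : Fin 4) ∈ J := by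
      by_contra h
      refine hB 2 fun k hk => ?_
      fin_cases k
      exacts [absurd hk h0, absurd hk h1, rfl, absurd hk h]
    have h4 : (2 : Fin 4) ∈ J := by
      by_contra h
      refine hB 3 fun k hk => ?_
      fin_cases k
      exacts [absurd hk h0, absurd hk h1, absurd hk h, rfl]
    ext k
    fin_cases k
    · exact iff_of_false h0 (by decide)
    · exact iff_of_false h1 (by decide)
    · exact iff_of_true h4 (by decide)
    · exact iff_of_true h3 (by decide)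
  subst hJ
  have hV : Nat.card ↥(VK K {k | k ∈ [2, 3]}) = Nat.card K ^ 21 := by
    rw [card_VK p]
    congr 1
  have hC : Nat.card ↥(VK K {k | k ∈ [2, 3]} ⊓ centralizer {z0 K}) = Nat.card K ^ 13 := by
    rw [card_inf p h2]
    congr 1
  have h3 := key (A := R' ⊔ ⁅VK K {k | k ∈ [2, 3]}, VK K {k | k ∈ [2, 3]}⁆) le_sup_left
    ((cent_le p h2 hp2).trans le_sup_right)
  rw [hC, ← pow_add, show 12 + 13 = 21 + 4 by norm_num, pow_add, ← hV] at h3
  have h4 := eq_of_le_of_card_ge (sup_le hle' (commutator_le_self _))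
    (Nat.le_of_mul_le_mul_right h3 (by positivity))
  have hU : VK K {k | k ∈ [2, 3]} ≤ RGD.Sup (XX chevF4 4 K) (RGD.Pos cF hF.isCartan) :=
    RGD.Sup_mono fun x hx => ⟨hx.1, hx.2.1⟩
  have h5 := frattini ((rgd (K := K) hF cF p).isPGroup_Upos.to_le hU) hle' h4
  rw [h5, hV] at hc'
  exact absurd (Nat.pow_right_injective hq hc') (by norm_num)

end

/-- the class of `z₀` -/
theorem conj_z0 (ho : Odd (Fintype.card K)) {z : ↥(chevF4.group K)} (hz : orderOf z = 2)
    (hc : Nat.card ↥(centralizer ({z} : Set ↥(chevF4.group K))) = Fintype.card K ^ 16 * (Fintype.card K ^ 2 - 1) *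
      (Fintype.card K ^ 4 - 1) * (Fintype.card K ^ 6 - 1) * (Fintype.card K ^ 8 - 1)) : IsConj z (z0 K) := by
  obtain ⟨p, hpp, hpc, hp2⟩ := exists_char K ho
  have : Fact p.Prime := ⟨hpp⟩
  have h2 : (2 : K) ≠ 0 := by
    intro h
    have h3 : p ∣ 2 := (CharP.cast_eq_zero_iff K p 2).1 (by exact_mod_cast h)
    have h4 := (Nat.prime_dvd_prime_iff_eq hpp Nat.prime_two).1 h3
    rw [h4] at hp2
    exact absurd hp2 (by decide)
  have hW : Finite (CoxeterMatrix.F₄).Group := finite_W hF cF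
  have hc1 : Nat.card (chevF4.diagonalSubgroup K) = (Nat.card K - 1) ^ 4 := by
    have := Cfsg.Agent.S1035.result (F := K) rfl (chevF4, 1) (by simp)
    rw [Nat.card_eq_fintype_card (α := K)]
    rwa [one_mul] at this
  have hT : Nat.card ↥(TT chevF4 K) = (Nat.card K - 1) ^ 4 := by
    rw [← hc1]
    exact Nat.card_congr (Subgroup.subgroupOfEquivOfLe
      (Cfsg.Agent.ChevalleyStructure.Elts.diagonal_le_group hF.inList K)).toEquiv
  have h0 := InvF4.D_TabB4.card_cent hcm (K := K) p h2 inj_F4 hT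
  have h3 := InvF4.D_TabB4.conj hcm (K := K) p (m := 3) (by decide)
  obtain ⟨s, t, -, -, -, hst, -, ht⟩ := InvF4.main ho
  have hq2 : 2 ≤ Fintype.card K := Fintype.one_lt_card
  have hm1 : TabB4.tab.m = 16 := by decide +kernel
  have hm2 : TabC3A1.tab.m = 10 := by decide +kernel
  rw [hm1, ← card_centralizer_conj h3, Nat.card_eq_fintype_card (α := K)] at h0
  rw [hm2] at ht
  have key : ∀ u : ↥(chevF4.group K), orderOf u = 2 → ∀ a, Nat.card (centralizer ({u} : Set ↥(chevF4.group K))) =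
      Fintype.card K ^ 16 * a → IsConj u s := by
    intro u hu a h
    refine (hst u hu).resolve_right fun h1 => ?_
    rw [card_centralizer_conj h1, ht] at h
    exact pow_ne hq2 (cop (by omega) _ (by simp)) (by norm_num) h
  exact (key z hz _ (by rw [hc, mul_assoc, mul_assoc, mul_assoc])).trans
    (key _ (order_sg h2 inj_F4 (by norm_num) (by norm_num)) _ h0).symm

/-- **[SM-E2]** -/
theorem boxOd : BoxOd := by
  intro F _ _ ho D z ⟨K, _, _, hK, ⟨e⟩⟩ hz hc hpd
  obtain ⟨p, hpc⟩ := CharP.exists F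
  obtain ⟨f, hp, hf⟩ := FiniteField.card F p
  have : Fact p.Prime := ⟨hp⟩
  have hp2 : p ≠ 2 := by
    rintro rfl
    rw [hf] at ho
    exact (Nat.not_even_iff_odd.2 ho) (Nat.even_pow.2 ⟨even_two, f.ne_zero⟩)
  have h2 : (2 : F) ≠ 0 := fun h =>
    hp2 ((Nat.prime_dvd_prime_iff_eq hp Nat.prime_two).1 ((CharP.cast_eq_zero_iff F p 2).1 (by exact_mod_cast h)))
  have hpp : IsPrimePow (Fintype.card F) := ⟨p, f, hp.prime, f.pos, hf.symm⟩
  have hq2 : 2 ≤ Fintype.card F := Fintype.one_lt_card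
  obtain ⟨c, hcz⟩ := isConj_iff.1 (conj_z0 ho hz hc)
  have hpd0 := hpd.conj c
  rw [card_centralizer_conj (conj_z0 ho hz hc)] at hc
  rw [map_cent, hcz] at hpd0
  let φ : ↥(twistedD4 K (Fintype.card F)) →* ↥(chevF4.group F) := D.subtype.comp e.symm.toMonoidHom
  have hφ : Function.Injective φ := D.subtype_injective.comp e.symm.injective
  let U := (chevD4.posUnipotent K ⊓ twistedD4 K (Fintype.card F)).subgroupOf (twistedD4 K (Fintype.card F))
  let H := (chevD4.diagonalSubgroup K ⊓ twistedD4 K (Fintype.card F)).subgroupOf (twistedD4 K (Fintype.card F))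
  have hU : Nat.card (U.map φ) = Nat.card F ^ 12 := by
    rw [← Nat.card_congr (U.equivMapOfInjective φ hφ).toEquiv, Nat.card_congr (subgroupOfEquivOfLe inf_le_right).toEquiv,
      S1088.result hpp hK, Nat.card_eq_fintype_card]
  have hH : Nat.card (H.map φ) = (Fintype.card F - 1) ^ 2 * (Fintype.card F ^ 2 + Fintype.card F + 1) := by
    rw [← Nat.card_congr (H.equivMapOfInjective φ hφ).toEquiv, Nat.card_congr (subgroupOfEquivOfLe inf_le_right).toEquiv,
      S1106.result hpp hK]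
  have hHU : H ≤ normalizer (U : Set ↥(twistedD4 K (Fintype.card F))) := by
    intro h hh
    rw [mem_normalizer_iff]
    intro u
    have h1 := mem_normalizer_iff.1 ((S1036.result (F := K) chevD4 (by simp)).1 hh.1) u
    exact ⟨fun h3 => ⟨h1.1 h3.1, (h * u * h⁻¹).2⟩, fun h3 => ⟨h1.2 h3.1, u.2⟩⟩
  have hR : IsPGroup p (U.map φ) := IsPGroup.of_card (n := f * 12) (by rw [hU, Nat.card_eq_fintype_card, hf, pow_mul])
  obtain ⟨r, hr⟩ := H436.exists_prim (q := Nat.card F) (e := 3) Finite.one_lt_card le_rfl (by omega)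
  have hD : Nat.card D = Fintype.card F ^ 12 * (Fintype.card F ^ 2 - 1) * (Fintype.card F ^ 6 - 1) *
      (Fintype.card F ^ 8 + Fintype.card F ^ 4 + 1) := by
    rw [Nat.card_congr e.toEquiv, S1067.result hpp hK]
  refine core p h2 hp2 hR hU hr ?_ fun g => ?_
  · refine dvd_trans ?_ (card_dvd_of_le ((map_mono hHU).trans (le_normalizer_map φ)))
    rw [hH]
    refine Dvd.dvd.mul_left ?_ _
    have h3 := hr.dvd (m := 3) dvd_rfl
    have h4 := hr.not_dvd_sub (m := 1) (by norm_num)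
    rw [Nat.card_eq_fintype_card] at h3 h4
    have h5 : Fintype.card F ^ 3 - 1 = (Fintype.card F ^ 1 - 1) * (Fintype.card F ^ 2 + Fintype.card F + 1) := by
      obtain ⟨y, hy⟩ : ∃ y, Fintype.card F = y + 1 := ⟨Fintype.card F - 1, by omega⟩
      rw [hy, pow_one, Nat.add_sub_cancel]
      exact Nat.sub_eq_of_eq_add (by ring)
    rw [h5] at h3
    exact (hr.prime.dvd_mul.1 h3).resolve_left h4
  · have h3 := (hpd0.map (MulAut.conj g).toMonoidHom (MulAut.conj g).surjective).conj g⁻¹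
    rw [map_map_inv] at h3
    have h4 := h3.card
    rw [card_cj, hD, hc, S1062.result (F := F) rfl] at h4
    have h5 : Nat.card ↥(D.map (MulAut.conj g).toMonoidHom ⊓ centralizer {z0 F}) =
        Fintype.card F ^ 4 * ((Fintype.card F ^ 2 - 1) * (Fintype.card F ^ 6 - 1)) := by
      generalize Fintype.card F = q at h4 hq2
      have h6 : ∀ d, d ≠ 0 → 0 < q ^ d - 1 := fun d hd => Nat.sub_pos_of_lt (Nat.one_lt_pow hd hq2)
      have h7 : q ^ 12 - 1 = (q ^ 4 - 1) * (q ^ 8 + q ^ 4 + 1) := by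
        obtain ⟨y, hy⟩ : ∃ y, q ^ 4 = y + 1 := ⟨q ^ 4 - 1, by
          have := h6 4 (by norm_num)
          omega⟩
        rw [show q ^ 12 = (q ^ 4) ^ 3 by ring, show q ^ 8 = (q ^ 4) ^ 2 by ring, hy, Nat.add_sub_cancel]
        exact Nat.sub_eq_of_eq_add (by ring)
      refine Nat.eq_of_mul_eq_mul_left (Nat.mul_pos (Nat.mul_pos (Nat.mul_pos (Nat.mul_pos (Nat.pow_pos (n := 24) (by omega))
        (h6 2 (by norm_num))) (h6 6 (by norm_num))) (h6 8 (by norm_num))) (h6 12 (by norm_num))) (h4.trans ?_)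
      rw [h7]
      ring
    have h6 : (U.map φ).map (MulAut.conj g).toMonoidHom ⊓ centralizer {z0 F} ≤
        D.map (MulAut.conj g).toMonoidHom ⊓ centralizer {z0 F} := by
      refine inf_le_inf_right _ (map_mono ?_)
      rintro _ ⟨u, -, rfl⟩
      exact (e.symm u).2
    have h7 := card_dvd_of_le h6
    obtain ⟨k, hk⟩ := (IsPGroup.iff_card (p := p)).1 ((hR.map (MulAut.conj g).toMonoidHom).to_inf_left
      (K := centralizer {z0 F}))
    rw [h5, hk] at h7
    rw [hk, Nat.card_eq_fintype_card]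
    refine Nat.le_of_dvd (by positivity) (Nat.Coprime.dvd_of_dvd_mul_right ?_ h7)
    have h8 := cop (q := Fintype.card F) (by omega) [2, 6] (by simp)
    simp only [List.map_cons, List.map_nil, List.prod_cons, List.prod_nil, mul_one] at h8
    refine Nat.Coprime.pow_left k (Nat.Coprime.coprime_dvd_left ?_ h8)
    rw [hf]
    exact dvd_pow_self p f.ne_zero

end Cfsg.Agent.SM.Ex.Od
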