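import Cfsg.Agent.SM.Ex.FDefs

/-!
# S3570, `S = F₄(q)`: the boxes for the reverse row `T = Sp₈(q)` (helper93)
-/

set_option autoImplicit false

namespace Cfsg.Agent.SM.Ex

open Cfsg Cfsg.Lie Subgroup Cfsg.Agent.SM.Ex78 Cfsg.Agent.OrdDiv

/-- box: the normaliser of `³D₄(q)` in `F₄(q)` has order dividing `3 |³D₄(q)|` -/
def BoxNrm : Prop := ∀ (F : Type) [Field F] [Fintype F] (D : Subgroup ↥(chevF4.group F)),
  Real (.td4 (Fintype.card F)) D → Nat.card ↥(normalizer (D : Set ↥(chevF4.group F))) ∣ 3 * Nat.card D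

/-- box: in the factorisation `F₄(q) = K X`, `K = Sp₈(q)`, `X = ³D₄(q)` or `³D₄(q).3`, a canonical subgroup `C = SL₂(q)`
of `K ⊓ X` has its normaliser in `K` not inside `X` -/
def BoxRev : Prop := BoxNrm → ∀ (F : Type) [Field F] [Fintype F] (X K : Subgroup ↥(chevF4.group F)),
  Row (Fintype.card F) X K → Pd K X → ∃ C ≤ K ⊓ X, C ≠ ⊥ ∧
    (∀ α : MulAut ↥(chevF4.group F), X.map α.toMonoidHom = X → K.map α.toMonoidHom = K → C.map α.toMonoidHom = C) ∧
    ¬ K ⊓ normalizer (C : Set ↥(chevF4.group F)) ≤ X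

end Cfsg.Agent.SM.Ex
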