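import Cfsg.Agent.SM.F4.Rig
import Cfsg.Agent.SM.F4.Uni
import Cfsg.Agent.SM.F4L.Box
import Cfsg.Agent.SM.F4L.Inv
import Cfsg.Agent.SM.Ex.FDefs2
import Cfsg.Agent.LieClassical.FieldTransfer

/-!
# S3570, `S = F₄(q)`: the reverse row `T = Sp₈(q)` (helper97)

In `F₄(q) = K X`, `K = Sp₈(q)`, `D = ³D₄(q) ≤ X ≤ N(D)`: `K ⊓ D = A × C`, `A = SL₂(q³)`, `C = SL₂(q)`, and `C` is centralised
by `L = Sp₆(q) ≤ K`, which is not inside `X`.
-/

set_option autoImplicit false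
set_option linter.unusedSectionVars false

namespace Cfsg.Agent.SM.Ex.Rev

open Cfsg Cfsg.Lie Subgroup Cfsg.Agent.SM.F4 Cfsg.Agent.SM.Ex78 Cfsg.Agent.H70.AutFix
open scoped MatrixGroups Pointwise

/-- the conclusion of the box -/
def Goal {S : Type} [Group S] (X Y : Subgroup S) : Prop :=
  ∃ C ≤ Y ⊓ X, C ≠ ⊥ ∧ (∀ α : MulAut S, α • X = X → α • Y = Y → α • C = C) ∧ ¬ Y ⊓ normalizer (C : Set S) ≤ X

section

variable {F K : Type} [Field F] [Field K] {S : Type} [Group S] [Finite S] {a : ℕ} {Z Zm Q L : Subgroup S} {γ : MulAut S}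
  {X Y D Z' Zm' Q' A R L' : Subgroup S}

theorem Goal.of_smul (σ : MulAut S) (h : Goal (σ • X) (σ • Y)) : Goal X Y := by
  obtain ⟨C, h1, h2, h3, h4⟩ := h
  refine ⟨σ⁻¹ • C, fun x hx => ?_, fun k => h2 ?_, fun α k1 k2 => ?_, fun k => h4 fun x hx => ?_⟩
  · rw [mem_smul_iff, inv_inv] at hx
    exact ⟨(apply_mem_smul_iff σ Y x).1 (h1 hx).1, (apply_mem_smul_iff σ X x).1 (h1 hx).2⟩
  · rw [← smul_inv_smul σ C, k, smul_bot']
  · have := h3 (σ * α * σ⁻¹) (by rw [mul_smul, mul_smul, inv_smul_smul, k1]) (by rw [mul_smul, mul_smul, inv_smul_smul, k2])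
    rw [mul_smul, mul_smul] at this
    rw [eq_inv_smul_iff, this]
  · obtain ⟨y, rfl⟩ := σ.surjective x
    rw [apply_mem_smul_iff]
    refine k ⟨(apply_mem_smul_iff σ Y y).1 hx.1, ?_⟩
    rw [← smul_normalizer]
    exact (mem_smul_iff _ _ _).2 hx.2

theorem card_smul (σ : MulAut S) (X : Subgroup S) : Nat.card ↥(σ • X) = Nat.card X := card_map_eq σ.injective X

/-- the `2`-subgroups of `N(D)` lie in `D` -/
theorem two_le_of {P : Subgroup S} (hN : Nat.card (normalizer (D : Set S)) ∣ 3 * Nat.card D) (hP : IsPGroup 2 P)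
    (h : P ≤ normalizer (D : Set S)) : P ≤ D := by
  have h2 : Nat.card D * Nat.card P ∣ Nat.card D * (3 * Nat.card ↥(D ⊓ P)) := by
    rw [← card_sup_mul h, ← mul_assoc, mul_comm _ 3]
    exact Nat.mul_dvd_mul_right ((card_dvd_of_le (sup_le le_normalizer h)).trans hN) _
  obtain ⟨n, hn⟩ := IsPGroup.iff_card.1 hP
  have h3 : (Nat.card P).Coprime 3 := hn ▸ Nat.Coprime.pow_left n (by norm_num)
  exact inf_eq_right.1 (eq_of_le_of_card_ge inf_le_right (Nat.le_of_dvd Nat.card_pos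
    (h3.dvd_of_dvd_mul_left ((Nat.mul_dvd_mul_iff_left Nat.card_pos).1 h2))))

theorem cen_one (hs : IsSimpleGroup A) (e : Nonempty (A ≃* SL(2, K))) {g : S} (hg : g ∈ A) (h : ∀ y ∈ A, y * g = g * y) :
    g = 1 := by
  have k5 : (⟨g, hg⟩ : A) ∈ center A := mem_center_iff.2 fun y => Subtype.ext (h y y.2)
  rcases (inferInstance : (center A).Normal).eq_bot_or_eq_top with k | k
  · rw [k, mem_bot] at k5
    exact congrArg Subtype.val k5
  · have k6 : IsMulCommutative A := ⟨⟨fun a b => (mem_center_iff.1 (k ▸ mem_top b : b ∈ center _) a)⟩⟩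
    have k7 := (comm_congr e.some.symm k6).is_comm.comm ⟨!![1, 1; 0, 1], by simp⟩ ⟨!![1, 0; 1, 1], by simp⟩
    have k8 : (!![1, 1; 0, 1] * !![1, 0; 1, 1] : Matrix (Fin 2) (Fin 2) K) 0 0 =
        (!![1, 0; 1, 1] * !![1, 1; 0, 1] : Matrix (Fin 2) (Fin 2) K) 0 0 :=
      congrArg (fun m : SL(2, K) => m.1 0 0) k7
    simp at k8

/-- the order of `⟨Z, Zm⟩` -/
theorem card_pair (ha : 1 ≤ a) (U : LocU (2 ^ a) Z Q) (V : LocL F Z Zm Q L) (W : F4.LocF (2 ^ a) Z Zm Q L γ)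
    (hS : ¬ (2 ^ a) ^ 26 ∣ Nat.card S) (t : LT K (2 ^ a) D Z' Zm' Q' A) : Nat.card ↥(Z ⊔ Zm) = Nat.card ↥(Z' ⊔ Zm') := by
  obtain ⟨z, hz, h1⟩ := exists_ne (two_le ha) t.cardZ
  have hd : (2 ^ a) ^ 2 + 2 ^ a + 1 ∣ Nat.card A := by
    rw [t.cardA]
    refine Dvd.dvd.mul_left ⟨(2 ^ a - 1) * ((2 ^ a) ^ 3 + 1), ?_⟩ _
    obtain ⟨m, hm⟩ : ∃ m, 2 ^ a = m + 1 := ⟨2 ^ a - 1, by have := two_le ha; omega⟩
    rw [hm, Nat.add_sub_cancel]
    exact Nat.sub_eq_of_eq_add (by ring)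
  obtain ⟨σ, h⟩ : ∃ σ : MulAut S, σ z ∈ Z := by
    obtain ⟨g, h | h⟩ := W.two (two_le ha) (t.sqZ z hz) h1 (fun y hy => ((t.cenA y).1 hy).2.1 z hz) hd
    exacts [⟨MulAut.conj g, h⟩, ⟨γ * MulAut.conj g, h⟩]
  have t' := t.map (f := σ.toMonoidHom) σ.injective
  have e := t'.eqZ U (t'.le ha U V hS h ⟨z, hz, rfl⟩ fun k => h1 (σ.injective (k.trans (map_one _).symm)))
  obtain ⟨w, hw⟩ := t'.w
  have k := t'.nP
  rw [← hw, e] at k
  obtain ⟨p, hp, e'⟩ := W.opp w k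
  rw [← card_map_eq (f := σ.toMonoidHom) σ.injective (Z' ⊔ Zm'), Subgroup.map_sup, ← hw, e,
    ← card_map_eq (f := (MulAut.conj p).toMonoidHom) (MulAut.conj p).injective (Z ⊔ Z.map _), Subgroup.map_sup, map_conj_eq hp,
    map_conj_mul, e']

theorem not_five (ha : 1 ≤ a) :
    ¬ 2 ^ (a * 5) ∣ 3 * ((2 ^ a) ^ 3 * ((2 ^ a) ^ 6 - 1) * (2 ^ a * ((2 ^ a) ^ 2 - 1))) := fun h => by
  rw [pow_mul, show 3 * ((2 ^ a) ^ 3 * ((2 ^ a) ^ 6 - 1) * (2 ^ a * ((2 ^ a) ^ 2 - 1))) =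
    (2 ^ a) ^ 4 * (3 * (((2 ^ a) ^ 6 - 1) * ((2 ^ a) ^ 2 - 1))) by ring, pow_succ, Nat.mul_dvd_mul_iff_left (by positivity)] at h
  have h1 := Nat.Coprime.eq_one_of_dvd ((Nat.Coprime.pow_left a (by norm_num : Nat.Coprime 2 3)).mul_right
    ((cop ha (by norm_num)).mul_right (cop ha (by norm_num)))) h
  have := two_le ha
  omega

variable [Finite F] [CharP F 2] [Finite K] [CharP K 2]

/-- an element of `N(D) ⊓ L` outside `D` -/
theorem exists_c (ha : 1 ≤ a) (hK : Nat.card K = Nat.card F ^ 3) (U : LocU (2 ^ a) Z Q) (V : LocL F Z Zm Q L)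
    (t : LT K (2 ^ a) D Z Zm Q' A) (h : Q' ≤ Q) : ∃ c ∈ L, c ∈ normalizer (D : Set S) ∧ c ∉ D := by
  obtain ⟨c, hc, h1, -⟩ := S6.three V.isoL.some hK (A := A.subgroupOf L)
    ⟨(subgroupOfEquivOfLe (t.AL V)).trans t.isoA.some⟩
  obtain ⟨t', h'⟩ := t.conjL U V h c.2
  have e : A.map (MulAut.conj (c : S)).toMonoidHom = A := eq_of_le_of_card_ge (by
    rintro _ ⟨x, hx, rfl⟩
    exact conj_mem (X := A.subgroupOf L) (x := ⟨x, t.AL V hx⟩) hc hx) (by rw [t'.cardA, t.cardA])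
  rw [e] at t'
  have h4 := t'.eq ha U t h' h
  exact ⟨c, c.2, mem_norm fun x hx => h4 ▸ ⟨x, hx, rfl⟩, fun k => h1 ((t.cenA c).2 ⟨k, (V.cenL c).1 c.2⟩)⟩

/-- the standard position -/
theorem std (ha : 1 ≤ a) (hK : Nat.card K = Nat.card F ^ 3) (U : LocU (2 ^ a) Z Q) (V : LocL F Z Zm Q L)
    (s : Std K (2 ^ a) Z Zm Q D) (cC : Nat.card ↥(Z ⊔ Zm) = 2 ^ a * ((2 ^ a) ^ 2 - 1)) (cL : 2 ^ (a * 5) ∣ Nat.card L)
    (hD : D ≤ X) (hX : X ≤ normalizer (D : Set S)) (hN : Nat.card (normalizer (D : Set S)) ∣ 3 * Nat.card D)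
    (hY : Zc Q ⊔ L ⊔ Zm ≤ Y) (cY : Nat.card ↥(Y ⊓ normalizer (D : Set S)) =
      3 * ((2 ^ a) ^ 3 * ((2 ^ a) ^ 6 - 1) * (2 ^ a * ((2 ^ a) ^ 2 - 1)))) : Goal X Y := by
  obtain ⟨Q', A, t, h⟩ := s
  obtain ⟨c, c1, c2, c3⟩ := exists_c ha hK U V t h
  have q2 := two_le ha
  have hL : L ≤ Y := (le_sup_right.trans le_sup_left).trans hY
  have hLC : ∀ g ∈ L, ∀ y ∈ Z ⊔ Zm, y * g = g * y := fun g hg y hy => mem_centralizer_singleton_iff.1
    (sup_le (a := Z) (b := Zm) (c := centralizer {g})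
      (fun z hz => mem_centralizer_singleton_iff.2 (((V.cenL g).1 hg).1 z hz).symm)
      (fun z hz => mem_centralizer_singleton_iff.2 (((V.cenL g).1 hg).2 z hz).symm) hy)
  have hAC : ∀ g ∈ A, ∀ y ∈ Z ⊔ Zm, y * g = g * y := fun g hg => hLC g (t.AL V hg)
  have hC : Z ⊔ Zm ≤ Y ⊓ D := le_inf (sup_le ((((ZC U V).trans le_sup_left).trans le_sup_left).trans hY)
    (le_sup_right.trans hY)) (t.gen ▸ sup_le_sup_right t.ZQ _)
  have hA : A ≤ Y ⊓ D := le_inf ((t.AL V).trans hL) fun g hg => ((t.cenA g).1 hg).1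
  have hn : Z ⊔ Zm ≤ normalizer (A : Set S) := fun y hy => mem_norm fun g hg => by rwa [conj_of_comm (hAC g hg y hy)]
  have h1 : A ⊓ (Z ⊔ Zm) = ⊥ := (eq_bot_iff_forall _).2 fun g hg =>
    cen_one t.simA t.isoA hg.1 fun y hy => (hAC y hy g hg.2).symm
  have h2 := card_sup_mul hn
  rw [h1, card_bot, mul_one] at h2
  rw [← t.cardA, ← cC, ← h2] at cY
  have hW : Y ⊓ D = A ⊔ (Z ⊔ Zm) := by
    obtain ⟨k, hk⟩ := card_dvd_of_le (sup_le hA hC)
    have k1 := card_dvd_of_le (inf_le_inf_left Y (le_normalizer (H := D)))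
    rw [cY, hk, mul_comm 3, Nat.mul_dvd_mul_iff_left Nat.card_pos] at k1
    rcases (Nat.dvd_prime Nat.prime_three).1 k1 with rfl | rfl
    · exact (eq_of_le_of_card_ge (sup_le hA hC) (by rw [hk, mul_one])).symm
    · exact absurd ((eq_of_le_of_card_ge (inf_le_inf_left Y (le_normalizer (H := D))) (by rw [cY, hk, mul_comm])).ge
        ⟨hL c1, c2⟩).2 c3
  refine ⟨Z ⊔ Zm, hC.trans (inf_le_inf_left Y hD), fun k => ?_, fun α k1 k2 => ?_, fun k => ?_⟩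
  · have := t.nP
    rw [k] at this
    exact this IsPGroup.of_bot
  · have mono : ∀ {P P' : Subgroup S}, P ≤ P' → α • P ≤ α • P' := fun h => map_mono h
    have e1 : α • D = D := by
      have k3 : ∀ P ≤ D, IsPGroup 2 P → α • P ≤ D := fun P h1 h2 =>
        two_le_of hN (h2.map _) ((mono (h1.trans hD)).trans (k1.le.trans hX))
      obtain ⟨w, hw⟩ := t.w
      refine eq_of_le_of_card_ge ?_ (card_smul α D).ge
      conv_lhs => rw [← t.gen, Subgroup.smul_sup]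
      exact sup_le (k3 _ (t.gen ▸ le_sup_left) (isP t.cardQ))
        (k3 _ (t.gen ▸ le_sup_right) (hw ▸ (isP (t.cardZ.trans (pow_one _).symm)).map _))
    have e2 : α • (A ⊔ (Z ⊔ Zm)) = A ⊔ (Z ⊔ Zm) := by rw [← hW, smul_inf', k2, e1]
    have n1 : α • A ≤ normalizer (A : Set S) := ((mono le_sup_left).trans e2.le).trans (sup_le le_normalizer hn)
    have e3 : α • A = A := by
      rcases inf_or_le ((A.equivMapOfInjective α.toMonoidHom α.injective).isSimpleGroup_congr.1 t.simA)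
        (fun g hg y hy => conj_mem (n1 hg) hy) with e | e
      · exfalso
        have k3 := card_sup_mul n1
        have k4 := card_le_of_le (sup_le le_sup_left ((mono le_sup_left).trans e2.le) : A ⊔ α • A ≤ A ⊔ (Z ⊔ Zm))
        rw [smul_eq, e, card_bot, mul_one, ← smul_eq, card_smul] at k3
        rw [k3, h2] at k4
        have k5 := Nat.le_of_mul_le_mul_left k4 Nat.card_pos
        rw [cC, t.cardA] at k5
        have k6 : 2 ^ a < (2 ^ a) ^ 3 := lt_self_pow₀ (by omega) (by norm_num)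
        have k7 : (2 ^ a) ^ 2 < (2 ^ a) ^ 6 := Nat.pow_lt_pow_right (by omega) (by norm_num)
        have k8 : 0 < (2 ^ a) ^ 2 := by positivity
        exact absurd k5 (not_le.2 (Nat.mul_lt_mul'' k6 (by omega)))
      · exact eq_of_le_of_card_ge e (card_smul α A).ge
    refine eq_of_le_of_card_ge ?_ (card_smul α _).ge
    rintro _ ⟨x, hx, rfl⟩
    obtain ⟨g, hg, y, hy, e⟩ := mem_sup_norm hn (((mono le_sup_right).trans e2.le) ⟨x, hx, rfl⟩)
    have k3 : g = 1 := cen_one t.simA t.isoA hg fun u hu => by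
      have k4 : u * (g * y) = g * y * u := by
        rw [← e3] at hu
        obtain ⟨u, hu, rfl⟩ := hu
        rw [← e]
        show α u * α x = α x * α u
        rw [← map_mul, ← map_mul, hAC u hu x hx]
      rw [mul_assoc, hAC u hu y hy, ← mul_assoc, ← mul_assoc] at k4
      exact mul_right_cancel k4
    rw [e, k3, one_mul]
    exact hy
  · refine not_five ha (cL.trans ?_)
    rw [← t.cardA, ← cC, ← h2, ← cY]
    exact card_dvd_of_le (le_inf hL ((le_inf hL fun g hg => mem_norm fun y hy => by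
      rwa [conj_of_comm (hLC g hg y hy).symm]).trans (k.trans hX)))

/-- `D` in standard position -/
theorem core (ha : 1 ≤ a) (hK : Nat.card K = Nat.card F ^ 3) (h6 : Six F (2 ^ a)) (U : LocU (2 ^ a) Z Q)
    (V : LocL F Z Zm Q L) (W : F4.LocF (2 ^ a) Z Zm Q L γ) (s : Std K (2 ^ a) Z Zm Q D)
    (cC : Nat.card ↥(Z ⊔ Zm) = 2 ^ a * ((2 ^ a) ^ 2 - 1)) (cL : 2 ^ (a * 5) ∣ Nat.card L)
    (hD : D ≤ X) (hX : X ≤ normalizer (D : Set S)) (hN : Nat.card (normalizer (D : Set S)) ∣ 3 * Nat.card D)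
    (n : LN F (2 ^ a) Y Z' Zm' R L') (hP : Pd Y X) (cS : Nat.card Y * Nat.card D =
      Nat.card S * ((2 ^ a) ^ 3 * ((2 ^ a) ^ 6 - 1) * (2 ^ a * ((2 ^ a) ^ 2 - 1)))) : Goal X Y := by
  have c1 := (hP.mono le_rfl hX).card
  rw [le_antisymm (Nat.le_of_dvd (Nat.mul_pos three_pos Nat.card_pos) hN) (s.three ha hK U V), mul_left_comm, cS,
    mul_left_comm] at c1
  have cY := Nat.eq_of_mul_eq_mul_left Nat.card_pos c1
  obtain ⟨p, hp | hp⟩ := n.two ha h6 U V W s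
  · obtain ⟨x, hx, y, hy, rfl⟩ := hP.symm p
    rw [conj_mul_smul, (mem_normalizer_iff_smul Y y).1 (le_normalizer hy)] at hp
    refine Goal.of_smul (MulAut.conj x) ?_
    rw [(mem_normalizer_iff_smul X x).1 (le_normalizer hx)]
    refine std ha hK U V s cC cL hD hX hN hp.ge ?_
    rw [← cY, ← card_smul (MulAut.conj x) (Y ⊓ _), smul_inf', smul_normalizer, (mem_normalizer_iff_smul D x).1 (hX hx)]
  · exfalso
    obtain ⟨E, hE, cE, g, hg⟩ := W.mix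
    obtain ⟨Q', A, t, hQ'⟩ := s
    have c2 := card_mul_card_le hQ' hE
    rw [t.cardQ, U.cardQ] at c2
    have c3 : 2 ^ (a * 5) ≤ Nat.card ↥(Q' ⊓ E) := by
      refine Nat.le_of_mul_le_mul_left (c := (2 ^ a) ^ 15) (le_trans ?_ c2) (by positivity)
      calc (2 ^ a) ^ 15 * 2 ^ (a * 5) = (2 ^ a) ^ 9 * (2 ^ a) ^ 11 := by rw [pow_mul]; ring
        _ ≤ _ := Nat.mul_le_mul_left _ cE
    obtain ⟨x, hx, y, hy, e⟩ := hP.symm (g⁻¹ * γ⁻¹ p)
    refine not_five ha ((pow_dvd_card ((isP t.cardQ).to_le (inf_le_left : Q' ⊓ E ≤ Q')) c3).trans ?_)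
    rw [← cY, ← card_smul (MulAut.conj x⁻¹)]
    refine card_dvd_of_le ?_
    rintro _ ⟨d, hd, rfl⟩
    refine ⟨?_, le_normalizer (conj_mem (inv_mem (hX hx)) (t.gen ▸ mem_sup_left hd.1))⟩
    have k2 := hg _ hd.2
    rw [← hp, mem_smul_iff] at k2
    have k3 : (MulAut.conj p * γ)⁻¹ (γ (g * d * g⁻¹)) = (x * y)⁻¹ * d * (x * y) := by
      rw [← e]
      simp [mul_assoc]
    rw [k3] at k2
    have k4 := Y.mul_mem (Y.mul_mem hy k2) (Y.inv_mem hy)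
    rwa [show y * ((x * y)⁻¹ * d * (x * y)) * y⁻¹ = x⁻¹ * d * x⁻¹⁻¹ by group] at k4

end

section

variable {F K : Type} [Field F] [Fintype F] [Field K] [Fintype K] {a : ℕ}

/-- the local data of `³D₄(q)`, with the order of `⟨Z, Zm⟩` -/
theorem exists_LT' (ha : 1 ≤ a) (hK : Fintype.card K = (2 ^ a) ^ 3) {S : Type} [Group S] [Finite S] {T : Subgroup S}
    (e : T ≃* twistedD4 K (2 ^ a)) :
    ∃ Z Zm Q A, LT K (2 ^ a) T Z Zm Q A ∧ Nat.card ↥(Z ⊔ Zm) = 2 ^ a * ((2 ^ a) ^ 2 - 1) := by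
  obtain ⟨Z, Zm, Q, A, l⟩ := D4.exists_loc ha hK e
  have c2 : CharP K 2 := charTwo (a := a * 3) (by omega) (hK.trans (pow_mul 2 a 3).symm)
  obtain ⟨X, Y, θ, h1, h2⟩ := l.isoA
  have eA : A ≃* SL(2, K) := ((MonoidHom.ofInjective h1.inj).trans (MulEquiv.subgroupCongr (h1.range.trans h2))).symm
  have h8 : 2 ^ 3 ≤ (2 ^ a) ^ 3 := Nat.pow_le_pow_left (two_le ha) 3
  have cC : Nat.card ↥(Z ⊔ Zm) = 2 ^ a * ((2 ^ a) ^ 2 - 1) := by
    obtain ⟨E, _, η, k1, k2⟩ := l.sl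
    have : Finite E := Nat.finite_of_card_ne_zero (by rw [k1]; positivity)
    have := Fintype.ofFinite E
    rw [← k2.range, ← Nat.card_congr (MonoidHom.ofInjective k2.inj).toEquiv, card_sl, ← Nat.card_eq_fintype_card, k1]
  have t : LT K (2 ^ a) ⊤ Z Zm Q A :=
    { cardZ := l.cardZ
      cardQ := l.cardQ
      ZQ := l.ZQ
      comQ := l.comQ
      cenQ := fun g _ => l.cenQ g
      sqZ := l.sqZ
      isoA := ⟨eA⟩
      simA := eA.isSimpleGroup_congr.2 (H320.Kill.simple_sl CharTwo.two_eq_zero (by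
        rw [Nat.card_eq_fintype_card, hK]; omega))
      cardA := by rw [Nat.card_congr eA.toEquiv, card_sl, hK, ← pow_mul (2 ^ a)]
      cenA := fun g => (l.cenA g).trans ⟨fun h => ⟨mem_top g, h⟩, fun h => h.2⟩
      nQ := l.nQ
      irr := l.irr
      gen := l.gen
      w := by
        obtain ⟨w, -, hw, h⟩ := l.w
        refine ⟨w, le_antisymm ?_ fun y hy => ⟨w⁻¹ * y * w, (h _).2 ?_, ?_⟩⟩
        · rintro _ ⟨z, hz, rfl⟩
          exact (h z).1 hz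
        · rwa [show w * (w⁻¹ * y * w) * w⁻¹ = y by group]
        · show w * (w⁻¹ * y * w) * w⁻¹ = y
          group
      nP := fun h => by
        obtain ⟨n, hn⟩ := IsPGroup.iff_card.1 h
        obtain ⟨m, -, hm⟩ := (Nat.dvd_prime_pow Nat.prime_two).1 (hn ▸ cC ▸ dvd_mul_left _ _ : (2 ^ a) ^ 2 - 1 ∣ 2 ^ n)
        have h8 : 2 ^ 2 ≤ (2 ^ a) ^ 2 := Nat.pow_le_pow_left (two_le ha) 2
        have h9 : 2 ∣ (2 ^ a) ^ 2 := dvd_pow (dvd_pow_self 2 (by omega)) (by norm_num)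
        rcases m with _ | m
        · omega
        · have : 2 ∣ 2 ^ (m + 1) := dvd_pow_self 2 (by omega)
          omega }
  have t' := t.map T.subtype_injective
  rw [← MonoidHom.range_eq_map, range_subtype] at t'
  exact ⟨_, _, _, _, t', by rw [← Subgroup.map_sup, card_map_eq T.subtype_injective, cC]⟩

theorem arith {q : ℕ} (hq : 1 ≤ q) : q ^ 16 * ((q ^ 2 - 1) * (q ^ 4 - 1) * (q ^ 6 - 1) * (q ^ 8 - 1)) *
    (q ^ 12 * (q ^ 2 - 1) * (q ^ 6 - 1) * (q ^ 8 + q ^ 4 + 1)) =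
    q ^ 24 * (q ^ 2 - 1) * (q ^ 6 - 1) * (q ^ 8 - 1) * (q ^ 12 - 1) * (q ^ 3 * (q ^ 6 - 1) * (q * (q ^ 2 - 1))) := by
  have h : q ^ 12 - 1 = (q ^ 4 - 1) * (q ^ 8 + q ^ 4 + 1) := by
    obtain ⟨m, hm⟩ : ∃ m, q ^ 4 = m + 1 := ⟨q ^ 4 - 1, by have := Nat.one_le_pow 4 q hq; omega⟩
    rw [show q ^ 12 = (q ^ 4) ^ 3 by ring, show q ^ 8 = (q ^ 4) ^ 2 by ring, hm, Nat.add_sub_cancel]
    exact Nat.sub_eq_of_eq_add (by ring)
  rw [h]
  ring

end

/-- the fusion part of the local structure of `F₄(q)` -/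
theorem boxW : F4.BoxF := fun F _ _ _ γ hγ => ⟨F4L.inv F γ hγ, opp, mix hγ⟩

/-- **The box.** -/
theorem boxRev : BoxRev := by
  intro hN F _ _ X Y ⟨⟨a, ha, hF⟩, ⟨D, hD, hX, hR, _⟩, F', _, _, hF', ⟨eY⟩⟩ hP
  have c2 : CharP F 2 := charTwo ha hF
  have fin := fin_SS (F := F)
  obtain ⟨γ, hγ⟩ := H95.DG.F4.exists_isGraph (F := F)
  have U : LocU (2 ^ a) (Z0 F) (Q0 F) := hF ▸ boxU F
  have V := F4L.boxL F
  have W : F4.LocF (2 ^ a) (Z0 F) (Zm0 F) (Q0 F) (L0 F) γ := hF ▸ boxW F γ hγ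
  have eY' := (eY.trans (S8.exists_equiv (hF'.trans hF) ha (by norm_num)).some).trans
    (LieClassical.FieldTransfer.spCongr (Fin 4) (FiniteField.ringEquivOfCardEq hF'))
  obtain ⟨K, _, _, hK, ⟨e⟩⟩ := id hR
  rw [hF] at hK e
  have c3 : CharP K 2 := charTwo (a := a * 3) (by omega) (hK.trans (pow_mul 2 a 3).symm)
  have hFK : Nat.card K = Nat.card F ^ 3 := by rw [Nat.card_eq_fintype_card, Nat.card_eq_fintype_card, hF, hK]
  obtain ⟨Z', Zm', Q', A, t, cC⟩ := exists_LT' ha hK e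
  obtain ⟨σ, s⟩ : ∃ σ : MulAut (SS F), Std K (2 ^ a) (Z0 F) (Zm0 F) (Q0 F) (σ • D) := by
    obtain ⟨p, h | h⟩ := t.two ha U V W (not_dvd ha hF) <;> exact ⟨_, h⟩
  obtain ⟨_, _, _, _, n⟩ := exists_LN ha hF eY'
  obtain ⟨_, _, _, _, l⟩ := S8.exists_loc8 hF ha eY'
  refine Goal.of_smul σ (core ha hFK (six ha hF) U V W s ((card_pair ha U V W (not_dvd ha hF) t).trans cC) ?_
    (map_mono hD) (smul_normalizer σ D ▸ map_mono hX) ?_ (n.map (f := σ.toMonoidHom) σ.injective)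
    (hP.map σ.toMonoidHom σ.surjective) ?_)
  · rw [Nat.card_congr V.isoL.some.toEquiv, S0245.result hF 3, pow_mul]
    exact (pow_dvd_pow _ (by norm_num)).mul_right _
  · rw [← smul_normalizer, card_smul, card_smul]
    exact hN F D hR
  · rw [card_smul, card_smul, l.cardN, Nat.card_congr e.toEquiv, S1062.result hF,
      S1067.result (Nat.prime_two.isPrimePow.pow (by omega)) hK]
    exact arith (Nat.one_le_pow _ _ two_pos)

end Cfsg.Agent.SM.Ex.Rev
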