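import Cfsg.Agent.H357.EP.Inv27
import Cfsg.Agent.H333.F4J.Ad

/-!
# S3570, box `BoxRk`: the 2-rank of `F₄(q)`, `q` odd, is at most five (helper44)

* `exists_signs_fix` : the signs of an elementary abelian 2-group of matrices with a fixed vector;
* `card_lt` : an elementary abelian 2-subgroup of `F₄(q)`, `q` odd, has order less than `64`.
-/

set_option autoImplicit false

namespace Cfsg.Agent.SM.Ex.Rk

open Cfsg Cfsg.Lie Matrix Module
open Cfsg.Agent.H357.EP

section signs

variable {F : Type*} [Field F] {E : Type*} [Group E] {ι : Type*} [Fintype ι] [DecidableEq ι]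

theorem exists_signs_fix (h2 : (2 : F) ≠ 0) (hE : ∀ x : E, x * x = 1) (φ : E →* Matrix.GeneralLinearGroup ι F)
    {u : ι → F} (hu : u ≠ 0) (hfix : ∀ x, (φ x : Matrix ι ι F) *ᵥ u = u) :
    ∃ (κ : Type) (_ : Fintype κ) (χ : κ → E → ℤ), Fintype.card κ = Fintype.card ι ∧
      (∀ i x, χ i x = 1 ∨ χ i x = -1) ∧ (∀ i x y, χ i (x * y) = χ i x * χ i y) ∧
      (∀ x, ((Fintype.card ι : ℤ) - 2 * (((φ x : Matrix ι ι F) - 1).rank : ℤ)) = ∑ i, χ i x) ∧
      ∃ i, ∀ x, χ i x = 1 := by
  classical
  have hcomm : ∀ x y : E, x * y = y * x := by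
    intro x y
    have h1 : (x * y)⁻¹ = x * y := inv_eq_of_mul_eq_one_right (hE (x * y))
    rw [_root_.mul_inv_rev, inv_eq_of_mul_eq_one_right (hE x), inv_eq_of_mul_eq_one_right (hE y)] at h1
    exact h1.symm
  obtain ⟨κ, iκ, b, s, hs⟩ := exists_diag (E := E) h2 (finrank F (ι → F)) (ι → F) rfl
    (fun x => Matrix.toLin' (φ x : Matrix ι ι F))
    (fun x v => by
      rw [Matrix.toLin'_apply, Matrix.toLin'_apply, Matrix.mulVec_mulVec, ← Units.val_mul, ← map_mul, hE, map_one,
        Units.val_one, Matrix.one_mulVec])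
    (fun x y v => by
      rw [Matrix.toLin'_apply, Matrix.toLin'_apply, Matrix.toLin'_apply, Matrix.toLin'_apply, Matrix.mulVec_mulVec,
        Matrix.mulVec_mulVec, ← Units.val_mul, ← Units.val_mul, ← map_mul, ← map_mul, hcomm])
  have hne : (-1 : F) ≠ 1 := by
    intro h
    apply h2
    rw [← one_add_one_eq_two]
    nth_rewrite 1 [← h]
    exact neg_add_cancel 1
  have hxor : ∀ i x y, s i (x * y) = (s i x ^^ s i y) := by
    intro i x y
    have h1 := hs i (x * y)
    have h3 : Matrix.toLin' (φ (x * y) : Matrix ι ι F) (b i) =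
        Matrix.toLin' (φ x : Matrix ι ι F) (Matrix.toLin' (φ y : Matrix ι ι F) (b i)) := by
      rw [Matrix.toLin'_apply, Matrix.toLin'_apply, Matrix.toLin'_apply, Matrix.mulVec_mulVec, ← Units.val_mul, map_mul]
    rw [h3, hs i y, map_smul, hs i x, smul_smul] at h1
    have h4 := smul_left_injective F (b.ne_zero i) h1
    rcases hx : s i x with _ | _ <;> rcases hy : s i y with _ | _ <;> rcases hxy : s i (x * y) with _ | _ <;>
      simp [hx, hy, hxy, hne, hne.symm] at h4 ⊢
  refine ⟨κ, iκ, fun i x => if s i x then -1 else 1, ?_, ?_, ?_, ?_, ?_⟩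
  · rw [← finrank_eq_card_basis b, Module.finrank_fintype_fun_eq_card]
  · intro i x
    by_cases h : s i x
    · right; simp [h]
    · left; simp [h]
  · intro i x y
    dsimp only
    rw [hxor]
    rcases hx : s i x with _ | _ <;> rcases hy : s i y with _ | _ <;> simp
  · intro x
    have hr : ((φ x : Matrix ι ι F) - 1).rank = (Finset.univ.filter fun i => s i x = true).card := by
      have h1 : LinearMap.toMatrix b b (Matrix.toLin' ((φ x : Matrix ι ι F) - 1)) =
          Matrix.diagonal fun i => if s i x then (-2 : F) else 0 := by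
        ext i j
        rw [LinearMap.toMatrix_apply, map_sub, LinearMap.sub_apply, hs j x, Matrix.toLin'_one, LinearMap.id_apply]
        rw [map_sub, map_smul, Basis.repr_self]
        by_cases hij : i = j
        · subst hij
          rw [Matrix.diagonal_apply_eq]
          rcases hx : s i x with _ | _
          · simp
          · simp
            norm_num
        · rw [Matrix.diagonal_apply_ne _ hij]
          by_cases hx : s j x <;> simp [hx, Ne.symm hij]
      have h3 : ((φ x : Matrix ι ι F) - 1).rank =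
          (LinearMap.toMatrix b b (Matrix.toLin' ((φ x : Matrix ι ι F) - 1))).rank := by
        rw [Matrix.rank_eq_finrank_range_toLin _ b b, Matrix.toLin_toMatrix]
        rfl
      rw [h3, h1, Matrix.rank_diagonal, Fintype.card_subtype]
      congr 1
      ext i
      rcases hx : s i x with _ | _
      · simp [hx]
      · simp [hx, h2]
    have hcard : (Fintype.card ι : ℤ) = ∑ i : κ, (1 : ℤ) := by
      rw [← Module.finrank_fintype_fun_eq_card F, finrank_eq_card_basis b]
      simp
    rw [hr, hcard, Finset.card_filter]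
    push_cast
    rw [Finset.mul_sum, ← Finset.sum_sub_distrib]
    apply Finset.sum_congr rfl
    intro i _
    by_cases h : s i x
    · simp [h]
    · simp [h]
  · have h1 : ∃ i, b.repr u i ≠ 0 := by
      by_contra hcon
      push Not at hcon
      apply hu
      apply b.repr.injective
      rw [map_zero]
      exact Finsupp.ext hcon
    obtain ⟨i, hi⟩ := h1
    refine ⟨i, fun x => ?_⟩
    dsimp only
    rw [if_neg]
    intro hx
    have h3 : Matrix.toLin' (φ x : Matrix ι ι F) u = u := by rw [Matrix.toLin'_apply, hfix]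
    have h4 : b.repr (Matrix.toLin' (φ x : Matrix ι ι F) u) i = -b.repr u i := by
      conv_lhs => rw [← b.sum_repr u]
      rw [map_sum, map_sum, Finsupp.finsetSum_apply, Finset.sum_eq_single i]
      · rw [map_smul, hs i x, if_pos hx, map_smul, map_smul, Basis.repr_self]
        simp
      · intro j _ hj
        rw [map_smul, hs j x, map_smul, map_smul, Basis.repr_self, Finsupp.smul_apply, Finsupp.smul_apply,
          Finsupp.single_eq_of_ne hj.symm, smul_zero, smul_zero]
      · intro h
        exact absurd (Finset.mem_univ i) h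
    rw [h3] at h4
    apply hi
    have h5 : (2 : F) * b.repr u i = 0 := by linear_combination h4
    exact (mul_eq_zero.1 h5).resolve_left h2

end signs

theorem sum_ge {E : Type*} [Group E] [Fintype E] {κ : Type*} [Fintype κ] {χ : κ → E → ℤ}
    (h1 : ∀ i x, χ i x = 1 ∨ χ i x = -1) (hm : ∀ i x y, χ i (x * y) = χ i x * χ i y) {i : κ} (hi : ∀ x, χ i x = 1) :
    (Fintype.card E : ℤ) ≤ ∑ x, ∑ j, χ j x := by
  rw [Finset.sum_comm]
  have h2 : ∀ j, 0 ≤ ∑ x, χ j x := by
    intro j
    rcases sum_chi (h1 j) (hm j) with h | h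
    · rw [h]; positivity
    · exact h.ge
  calc (Fintype.card E : ℤ) = ∑ x, χ i x := by simp [hi]
    _ ≤ ∑ j, ∑ x, χ j x := Finset.single_le_sum (fun j _ => h2 j) (Finset.mem_univ i)

open Cfsg.Agent.ChevalleyStructure.E6Min Cfsg.Agent.ChevalleyStructure.E6Min.Tables
  Cfsg.Agent.ChevalleyStructure.E6Min.Basic Cfsg.Agent.H318.Four Cfsg.Agent.H333.F4J.Ad

/-- **the 2-rank of `F₄(q)`, `q` odd, is at most five** -/
theorem card_lt {F : Type} [Field F] [Fintype F] (ho : Odd (Fintype.card F)) {A : Type*} [Group A] [Finite A]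
    (hA : ∀ x : A, x * x = 1) (f : A →* chevF4.group F) (hf : Function.Injective f) : Nat.card A < 64 := by
  classical
  have := Fintype.ofFinite A
  have h2 := H351.SpSix.two_ne_zero_of_odd ho
  let ψ : A →* FZ F := (eqv F).symm.toMonoidHom.comp f
  have hψ : Function.Injective ψ := (eqv F).symm.injective.comp hf
  have hu : H952.F4.u0 F ≠ 0 := by
    intro h
    have h1 := congrFun h (dec 0)
    rw [u0_apply, if_pos (by decide)] at h1
    exact one_ne_zero h1
  obtain ⟨κ, iκ, χ, h1, h3, h4, h5, i, hi⟩ := exists_signs_fix h2 hA ((FZ F).subtype.comp ψ) hu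
    (fun x => FZ_u0 (ψ x).2)
  have hb1 : ∑ j, χ j 1 = 27 := by
    rw [← h5, map_one, Units.val_one, sub_self, Matrix.rank_zero, card_I27]
    norm_num
  have hb : ∀ x, x ≠ 1 → ∑ j, χ j x = 3 ∨ ∑ j, χ j x = -5 := by
    intro x hx
    rw [← h5, card_I27]
    have hsq : (⟨(ψ x : GL I27 F), FZ_le_Zgrp (ψ x).2⟩ : Zgrp F) * ⟨(ψ x : GL I27 F), FZ_le_Zgrp (ψ x).2⟩ = 1 := by
      apply Subtype.ext
      show ((ψ x * ψ x : FZ F) : GL I27 F) = 1
      rw [← map_mul, hA, map_one]
      rfl
    rcases E6Inv.rank_inv ho h2 hsq with hr | hr | hr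
    · exfalso
      apply hx
      apply hψ
      rw [map_one]
      have h6 := rank_zero_iff _ hr
      apply Subtype.ext
      apply Units.ext
      rw [sub_eq_zero] at h6
      exact h6
    · left
      show (27 : ℕ) - 2 * (((((ψ x : FZ F) : GL I27 F) : Matrix I27 I27 F) - 1).rank : ℤ) = 3
      have hr' : ((((ψ x : FZ F) : GL I27 F) : Matrix I27 I27 F) - 1).rank = 12 := hr
      rw [hr']
      norm_num
    · right
      show (27 : ℕ) - 2 * (((((ψ x : FZ F) : GL I27 F) : Matrix I27 I27 F) - 1).rank : ℤ) = -5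
      have hr' : ((((ψ x : FZ F) : GL I27 F) : Matrix I27 I27 F) - 1).rank = 16 := hr
      rw [hr']
      norm_num
  have h6 := sum_sq h3 h4
  rw [h1, card_I27] at h6
  have h7 := sum_ge h3 h4 hi
  have h8 : ∀ x : A, (∑ j, χ j x) ^ 2 = (if x = 1 then 768 else 0) + (15 - 2 * ∑ j, χ j x : ℤ) := by
    intro x
    by_cases hx : x = 1
    · rw [if_pos hx, hx, hb1]; norm_num
    · rw [if_neg hx]
      rcases hb x hx with h | h <;> rw [h] <;> norm_num
  have h9 : ∑ x, (∑ j, χ j x) ^ 2 = 768 + (15 * (Fintype.card A : ℤ) - 2 * ∑ x, ∑ j, χ j x) := by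
    rw [Finset.sum_congr rfl fun x _ => h8 x, Finset.sum_add_distrib, Finset.sum_ite_eq' Finset.univ (1 : A),
      if_pos (Finset.mem_univ _), Finset.sum_sub_distrib, ← Finset.mul_sum, Finset.sum_const, Finset.card_univ,
      nsmul_eq_mul, mul_comm (15 : ℤ)]
  rw [h9] at h6
  rw [Nat.card_eq_fintype_card]
  push_cast at h6
  omega

end Cfsg.Agent.SM.Ex.Rk
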