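import Cfsg.Agent.SM.Ex.RkS
import Cfsg.Agent.LieClassical.OmegaCenter
import Cfsg.Agent.LieClassical.OmegaReindex

/-!
# S3570, box `BoxRk`: an elementary abelian group of order `64` in `Ω₉(q)`, `q` odd (helper44)

* `has64_oodd` : sign changes in an orthogonal basis.
-/

set_option autoImplicit false

namespace Cfsg.Agent.SM.Ex.Rk

open Cfsg Matrix Subgroup
open scoped commutatorElement
open Cfsg.Agent.LieClassical.OmegaReindex Cfsg.Agent.LieClassical.OmegaCenter

section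

variable {F : Type*} [Field F]

/-- the index set -/
abbrev I9 : Type := Unit ⊕ (Fin 4 ⊕ Fin 4)

/-- the matrix with eigenvalues `l i` on `e i - f i` and `m i` on `e i + f i` -/
def Dm (l m : Fin 4 → F) : Matrix I9 I9 F :=
  fromBlocks 1 0 0 (fromBlocks (diagonal fun i => (m i + l i) / 2) (diagonal fun i => (m i - l i) / 2)
    (diagonal fun i => (m i - l i) / 2) (diagonal fun i => (m i + l i) / 2))

theorem Dm_zero (l m : Fin 4 → F) (v : I9 → F) : (Dm l m *ᵥ v) (.inl ()) = v (.inl ()) := by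
  unfold Dm
  rw [fromBlocks_mulVec]
  simp

theorem Dm_l (l m : Fin 4 → F) (v : I9 → F) (i : Fin 4) : (Dm l m *ᵥ v) (.inr (.inl i)) =
    (m i + l i) / 2 * v (.inr (.inl i)) + (m i - l i) / 2 * v (.inr (.inr i)) := by
  unfold Dm
  rw [fromBlocks_mulVec, Sum.elim_inr, fromBlocks_mulVec]
  simp [mulVec_diagonal]

theorem Dm_r (l m : Fin 4 → F) (v : I9 → F) (i : Fin 4) : (Dm l m *ᵥ v) (.inr (.inr i)) =
    (m i - l i) / 2 * v (.inr (.inl i)) + (m i + l i) / 2 * v (.inr (.inr i)) := by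
  unfold Dm
  rw [fromBlocks_mulVec, Sum.elim_inr, fromBlocks_mulVec]
  simp [mulVec_diagonal]

theorem Dm_mul (h2 : (2 : F) ≠ 0) (l m l' m' : Fin 4 → F) : Dm l m * Dm l' m' = Dm (l * l') (m * m') := by
  rw [ext_iff_mulVec]
  intro v
  rw [← mulVec_mulVec]
  funext x
  rcases x with _ | i | i
  · rw [Dm_zero, Dm_zero, Dm_zero]
  · rw [Dm_l, Dm_l, Dm_l, Dm_r, Pi.mul_apply, Pi.mul_apply]
    field_simp
    ring
  · rw [Dm_r, Dm_r, Dm_r, Dm_l, Pi.mul_apply, Pi.mul_apply]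
    field_simp
    ring

theorem Dm_one (h2 : (2 : F) ≠ 0) : Dm (1 : Fin 4 → F) 1 = 1 := by
  rw [ext_iff_mulVec]
  intro v
  rw [one_mulVec]
  funext x
  rcases x with _ | i | i
  · rw [Dm_zero]
  · rw [Dm_l, Pi.one_apply]
    field_simp
    ring
  · rw [Dm_r, Pi.one_apply]
    field_simp
    ring

theorem Dm_form (h2 : (2 : F) ≠ 0) {l m : Fin 4 → F} (hl : l * l = 1) (hm : m * m = 1) (v : I9 → F) :
    quadFormOdd 4 F (Dm l m *ᵥ v) = quadFormOdd 4 F v := by
  unfold quadFormOdd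
  rw [Dm_zero]
  congr 1
  apply Finset.sum_congr rfl
  intro i _
  have h1 : l i * l i = 1 := congrFun hl i
  have h3 : m i * m i = 1 := congrFun hm i
  rw [Dm_l, Dm_r]
  field_simp
  linear_combination (v (.inr (.inl i)) + v (.inr (.inr i))) ^ 2 * h3 -
    (v (.inr (.inl i)) - v (.inr (.inr i))) ^ 2 * h1

theorem Dm_eq_one (h2 : (2 : F) ≠ 0) {l m : Fin 4 → F} (h : Dm l m = 1) : l = 1 ∧ m = 1 := by
  have h1 : ∀ i, (m i + l i) / 2 = 1 := fun i => by
    have := congrFun (congrFun h (.inr (.inl i))) (.inr (.inl i))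
    simpa [Dm] using this
  have h3 : ∀ i, (m i - l i) / 2 = 0 := fun i => by
    have := congrFun (congrFun h (.inr (.inl i))) (.inr (.inr i))
    rw [one_apply_ne (by simp)] at this
    simpa only [Dm, fromBlocks_apply₂₂, fromBlocks_apply₁₂, diagonal_apply_eq] using this
  constructor
  · funext i
    rw [Pi.one_apply]
    have h4 := h1 i
    have h5 := h3 i
    field_simp at h4 h5
    apply mul_left_cancel₀ h2
    linear_combination h4 - h5
  · funext i
    rw [Pi.one_apply]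
    have h4 := h1 i
    have h5 := h3 i
    field_simp at h4 h5
    apply mul_left_cancel₀ h2
    linear_combination h4 + h5

theorem Dm_ne (h2 : (2 : F) ≠ 0) (l m : Fin 4 → F) : Dm l m ≠ -1 := by
  intro h
  have h1 := congrFun (congrFun h (.inl ())) (.inl ())
  rw [Matrix.neg_apply, one_apply_eq] at h1
  have h3 : Dm l m (.inl ()) (.inl ()) = 1 := by simp [Dm]
  apply h2
  linear_combination h1 - h3

/-- the signs -/
def sg (F : Type*) [Field F] : (Fin 4 → ℤˣ) →* (Fin 4 → F) :=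
  MonoidHom.pi fun i => ((Int.castRingHom F).toMonoidHom.comp (Units.coeHom ℤ)).comp
    (Pi.evalMonoidHom (fun _ : Fin 4 => ℤˣ) i)

theorem sg_apply (x : Fin 4 → ℤˣ) (i : Fin 4) : sg F x i = ((x i : ℤ) : F) := rfl

theorem sq4 (x : Fin 4 → ℤˣ) : x * x = 1 := funext fun i => Int.units_mul_self (x i)

theorem sg_sq (x : Fin 4 → ℤˣ) : sg F x * sg F x = 1 := by rw [← map_mul, sq4, map_one]

theorem sg_eq_one (h2 : (2 : F) ≠ 0) {x : Fin 4 → ℤˣ} (h : sg F x = 1) : x = 1 := by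
  funext i
  rcases Int.units_eq_one_or (x i) with h1 | h1
  · exact h1
  · exfalso
    have h3 := congrFun h i
    rw [sg_apply, h1, Pi.one_apply] at h3
    apply h2
    simp only [Units.val_neg, Units.val_one, Int.cast_neg, Int.cast_one] at h3
    linear_combination -h3

theorem Dm_sq (h2 : (2 : F) ≠ 0) (x y : Fin 4 → ℤˣ) : Dm (sg F x) (sg F y) * Dm (sg F x) (sg F y) = 1 := by
  rw [Dm_mul h2, sg_sq, sg_sq, Dm_one h2]

/-- the diagonal isometries -/
def dH (h2 : (2 : F) ≠ 0) : (Fin 4 → ℤˣ) × (Fin 4 → ℤˣ) →* isometryGroup F (quadFormOdd 4 F) :=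
  MonoidHom.mk' (fun x => ⟨⟨Dm (sg F x.1) (sg F x.2), Dm (sg F x.1) (sg F x.2), Dm_sq h2 _ _, Dm_sq h2 _ _⟩,
    fun v _ => Dm_form h2 (sg_sq _) (sg_sq _) v⟩) fun x y => by
      apply Subtype.ext
      apply Units.ext
      show Dm (sg F (x.1 * y.1)) (sg F (x.2 * y.2)) = Dm (sg F x.1) (sg F x.2) * Dm (sg F y.1) (sg F y.2)
      rw [Dm_mul h2, map_mul, map_mul]

/-- the rotation of the indices -/
def rot : Equiv.Perm I9 := Equiv.sumCongr 1 (Equiv.sumCongr (finRotate 4) (finRotate 4))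

theorem rot_form (v : I9 → F) : quadFormOdd 4 F (rot.permMatrix F *ᵥ v) = quadFormOdd 4 F v := by
  rw [permMatrix_mulVec]
  unfold quadFormOdd
  congr 1
  exact Equiv.sum_comp (finRotate 4) fun i => v (.inr (.inl i)) * v (.inr (.inr i))

/-- the rotation as an isometry -/
def rI (F : Type*) [Field F] : isometryGroup F (quadFormOdd 4 F) :=
  ⟨⟨rot.permMatrix F, rot⁻¹.permMatrix F, by rw [← permMatrix_mul, inv_mul_cancel, permMatrix_one],
    by rw [← permMatrix_mul, mul_inv_cancel, permMatrix_one]⟩, fun v _ => rot_form v⟩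

theorem rot_Dm (l m : Fin 4 → F) :
    rot.permMatrix F * Dm l m = Dm (l ∘ finRotate 4) (m ∘ finRotate 4) * rot.permMatrix F := by
  rw [ext_iff_mulVec]
  intro v
  rw [← mulVec_mulVec, ← mulVec_mulVec, permMatrix_mulVec, permMatrix_mulVec]
  funext x
  rcases x with _ | i | i
  · rw [Dm_zero]
    exact Dm_zero l m v
  · rw [Dm_l]
    exact Dm_l l m v _
  · rw [Dm_r]
    exact Dm_r l m v _

theorem dH_mem (h2 : (2 : F) ≠ 0) (x y : Fin 4 → ℤˣ) :
    dH h2 (x ∘ finRotate 4 * x, y ∘ finRotate 4 * y) ∈ Omega F (quadFormOdd 4 F) := by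
  have h1 : rI F * dH h2 (x, y) = dH h2 (x ∘ finRotate 4, y ∘ finRotate 4) * rI F := by
    apply Subtype.ext
    apply Units.ext
    exact rot_Dm _ _
  have h3 : (dH h2 (x, y))⁻¹ = dH h2 (x, y) := by
    apply inv_eq_of_mul_eq_one_right
    rw [← map_mul, Prod.mk_mul_mk, sq4, sq4]
    exact map_one _
  have h4 : dH h2 (x ∘ finRotate 4 * x, y ∘ finRotate 4 * y) = ⁅rI F, dH h2 (x, y)⁆ := by
    rw [commutatorElement_def, h1, mul_inv_cancel_right, h3, ← map_mul, Prod.mk_mul_mk]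
  rw [h4]
  exact commutator_mem_commutator (mem_top _) (mem_top _)

/-- the even sign vectors -/
def ev : (Fin 3 → ℤˣ) →* (Fin 4 → ℤˣ) :=
  MonoidHom.mk' (fun x => ![x 0, x 0 * x 1, x 1 * x 2, x 2]) fun x y => by
    funext i
    fin_cases i <;> simp [mul_mul_mul_comm]

theorem ev_eq (x : Fin 3 → ℤˣ) : ∃ y : Fin 4 → ℤˣ, ev x = y ∘ finRotate 4 * y := by
  revert x
  decide +kernel

theorem ev_eq_one : ∀ x : Fin 3 → ℤˣ, ev x = 1 → x = 1 := by
  decide +kernel

/-- **an elementary abelian group of order `64` in `Ω₉(q)`, `q` odd** -/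
theorem has64_oodd (h2 : (2 : F) ≠ 0) : Has64 (POmega F (quadFormOdd 4 F)) := by
  have hmem : ∀ x : (Fin 3 → ℤˣ) × (Fin 3 → ℤˣ), ((dH h2).comp (ev.prodMap ev)) x ∈ Omega F (quadFormOdd 4 F) := by
    intro x
    obtain ⟨y, hy⟩ := ev_eq x.1
    obtain ⟨z, hz⟩ := ev_eq x.2
    have h1 := dH_mem h2 y z
    rw [← hy, ← hz] at h1
    exact h1
  have hcen : ∀ g : Omega F (quadFormOdd 4 F), g ∈ center (Omega F (quadFormOdd 4 F)) →
      omegaMat g = 1 ∨ omegaMat g = -1 := by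
    rw [← coe_quadOdd 4 F]
    intro g
    exact (mem_center_omega_iff (quadOdd 4 F) (quadOdd_nondegenerate h2) (by simp) (quadOdd_isotropic (by norm_num))
      g).1
  refine ⟨(Fin 3 → ℤˣ) × (Fin 3 → ℤˣ), inferInstance, inferInstance,
    (QuotientGroup.mk' _).comp (((dH h2).comp (ev.prodMap ev)).codRestrict _ hmem), ?_, ?_, ?_⟩
  · rw [injective_iff_map_eq_one]
    intro x hx
    rcases hcen _ ((QuotientGroup.eq_one_iff _).1 hx) with h | h
    · obtain ⟨h3, h4⟩ := Dm_eq_one h2 (l := sg F (ev x.1)) (m := sg F (ev x.2)) h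
      exact Prod.ext (ev_eq_one _ (sg_eq_one h2 h3)) (ev_eq_one _ (sg_eq_one h2 h4))
    · exact absurd h (Dm_ne h2 (sg F (ev x.1)) (sg F (ev x.2)))
  · intro x
    exact Prod.ext (funext fun i => Int.units_mul_self _) (funext fun i => Int.units_mul_self _)
  · rw [Nat.card_prod, Nat.card_fun, Nat.card_eq_fintype_card, Fintype.card_units_int, Nat.card_eq_fintype_card,
      Fintype.card_fin]
    norm_num

end

end Cfsg.Agent.SM.Ex.Rk
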