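import Cfsg.Agent.SM.Ex.FDefs
import Cfsg.Agent.SM.Ex.RkF
import Cfsg.Agent.SM.Ex.RkO

/-!
# S3570, box `BoxRk`: no `PSp₈(q)` and no `Ω₉(q)` in `F₄(q)`, `q` odd (helper44)
-/

set_option autoImplicit false

namespace Cfsg.Agent.SM.Ex.Rk

open Cfsg Cfsg.Lie

theorem not_has64 {F : Type} [Field F] [Fintype F] (ho : Odd (Fintype.card F)) (Y : Subgroup ↥(chevF4.group F))
    {T : Type*} [Group T] (e : Y ≃* T) : ¬ Has64 T := by
  rintro ⟨A, i1, i2, f, h1, h2, h3⟩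
  have h4 := card_lt ho h2 ((Y.subtype.comp e.symm.toMonoidHom).comp f)
    ((Subtype.val_injective.comp e.symm.injective).comp h1)
  omega

/-- **`PSp₈(q)` and `Ω₉(q)` are not subgroups of `F₄(q)`, `q` odd** -/
theorem boxRk : BoxRk := by
  intro F _ _ ho Y
  constructor
  · rintro ⟨K, i1, i2, hK, ⟨e⟩⟩
    exact not_has64 ho Y e (has64_psp (H351.SpSix.two_ne_zero_of_odd (by rw [hK]; exact ho)))
  · rintro ⟨K, i1, i2, hK, ⟨e⟩⟩
    exact not_has64 ho Y e (has64_oodd (H351.SpSix.two_ne_zero_of_odd (by rw [hK]; exact ho)))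

end Cfsg.Agent.SM.Ex.Rk
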