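import Cfsg.Agent.SM.Ex.E62
import Cfsg.Agent.SM.Ex.T62

/-!
# S3570: `BoxTwo` (helper70)
-/

set_option autoImplicit false

namespace Cfsg.Agent.SM.Ex

theorem boxTwo : BoxTwo := fun hcf _ _ _ => ⟨E62.noFac_e62 hcf, T62.noFac_te62 hcf⟩

end Cfsg.Agent.SM.Ex
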