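import Cfsg.Agent.SM.Asm
import Cfsg.Agent.SM.Ex78.Base
import Cfsg.Agent.OrdDiv.Main

/-!
# S3570, `S = F₄(q)`, `E₆(2)`, `²E₆(2)`: the table and the boxes (helper93, plan in `notes/SM/exc.md`)

* `tabF4` : the row `³D₄(q) < F₄(q)` on the cosets of `Sp₈(q)`, `q = 2 ^ a`, `k = 1`;
* `LocF`, `LocK` : the local structure of `F₄(2 ^ a)` and of `Sp₈(2 ^ a)` (that of `³D₄(2 ^ a)` is `SM.D4.Loc`);
* `Row` : the shape of a factorisation;
* boxes `BoxF`, `BoxK`, `BoxTwo`, `BoxRk`, `BoxOd`, `BoxG`, `BoxId`, `BoxAsm`.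
-/

set_option autoImplicit false

namespace Cfsg.Agent.SM.Ex

open Cfsg Cfsg.Lie Subgroup Cfsg.Agent.SM.Ex78 Cfsg.Agent.OrdDiv

/-- the classification, as a hypothesis -/
def Cf : Prop := ∀ (S : Type) [Group S] [Finite S] [IsSimpleGroup S], IsKnownSimple' S

/-- the family `F₄(q)` -/
def fF4 : Fam := fun S _ => IsoF4 S

/-- the row `³D₄(q) < F₄(q)`, `q = 2 ^ a` -/
def tabF4 : Tab := fun t n k => ∃ a : ℕ, 1 ≤ a ∧
  t = (2 ^ a) ^ 12 * (((2 ^ a) ^ 2 - 1) * ((2 ^ a) ^ 6 - 1) * ((2 ^ a) ^ 8 + (2 ^ a) ^ 4 + 1)) ∧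
  n = (2 ^ a) ^ 8 * ((2 ^ a) ^ 8 + (2 ^ a) ^ 4 + 1) ∧ k = 1

/-- the conjugate `g H g⁻¹` -/
def cj {G : Type*} [Group G] (g : G) (H : Subgroup G) : Subgroup G := H.map (MulAut.conj g).toMonoidHom

/-- the order of `Sp₆(q)` -/
def o6 (q : ℕ) : ℕ := q ^ 9 * ((q ^ 2 - 1) * (q ^ 4 - 1) * (q ^ 6 - 1))

/-- The local structure of `F₄(q)`, `q` even: `Z`, `Zm` opposite long root groups, `Q = O₂(N(Z))`, `γ` the graph
automorphism. -/
structure LocF (q : ℕ) {S : Type} [Group S] (γ : S ≃* S) (Z Zm Q : Subgroup S) : Prop where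
  cardZ : Nat.card Z = q
  cardQ : Nat.card Q = q ^ 15
  pQ : IsPGroup 2 Q
  com : ⁅Q, Q⁆ ≤ Z
  ZQ : Z ≤ Q ⊓ centralizer (Q : Set S)
  cardR : q ^ 7 ≤ Nat.card ↥(Q ⊓ centralizer (Q : Set S))
  nZ : normalizer (Z : Set S) = normalizer (Q : Set S)
  der : ⁅normalizer (Z : Set S), normalizer (Z : Set S)⁆ ≤ centralizer (Z : Set S)
  cardC : Nat.card ↥(centralizer (Z : Set S)) ≤ q ^ 15 * o6 q
  QZm : Q ⊓ centralizer (Zm : Set S) = ⊥
  opp : ∀ g : S, ¬ IsPGroup 2 ↥(Z ⊔ cj g Z) → ∃ x ∈ Q, cj (x * g) Z = Zm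
  bt : ∀ R A : Subgroup S, IsPGroup 2 R → R ≠ ⊥ → A ≤ normalizer (R : Set S) → IsSimpleGroup A →
    q ^ 3 * (q ^ 6 - 1) ∣ Nat.card A → ∃ g : S, (cj g R ≤ Q ∧ cj g A ≤ normalizer (Q : Set S)) ∨
      (cj g (R.map γ.toMonoidHom) ≤ Q ∧ cj g (A.map γ.toMonoidHom) ≤ normalizer (Q : Set S))
  eleven : ∃ g : S, q ^ 11 ≤ Nat.card ↥(((Q ⊓ centralizer (Q : Set S)) ⊔
    (centralizer (Z : Set S) ⊓ centralizer (Zm : Set S))) ⊓ cj g (Q.map γ.toMonoidHom))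

/-- The local structure of `Sp₈(q)`, `q` even: `Z`, `Zm` opposite transvection groups, `R = O₂(N(Z))`, `L = Sp₆(q)`. -/
structure LocK (F : Type) [Field F] (q : ℕ) {K : Type} [Group K] (Z Zm R L : Subgroup K) : Prop where
  cardZ : Nat.card Z = q
  cardR : Nat.card R = q ^ 7
  pR : IsPGroup 2 R
  nR : L ≤ normalizer (R : Set K)
  cen : R ⊓ centralizer (L : Set K) ≤ Z
  cL : L ≤ centralizer (Z : Set K) ⊓ centralizer (Zm : Set K)
  iso : Nonempty (L ≃* Matrix.symplecticGroup (Fin 3) F)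
  gen : ∃ w : K, cj w Z = Zm ∧ R ⊔ cj w R = ⊤
  np : ¬ IsPGroup 2 ↥(Z ⊔ Zm)

/-- `X` is `³D₄(q)` or `³D₄(q).3` and `Y` is `Sp₈(q)`, `q` even -/
def Row (q : ℕ) {S : Type} [Group S] (X Y : Subgroup S) : Prop :=
  (∃ a, 1 ≤ a ∧ q = 2 ^ a) ∧ (∃ D ≤ X, X ≤ normalizer (D : Set S) ∧ Real (.td4 q) D ∧
    (Nat.card X = Nat.card D ∨ Nat.card X = 3 * Nat.card D)) ∧ Real (.psp 4 q) Y

/-- box: the local structure of `F₄(2 ^ a)` -/
def BoxF : Prop := ∀ (F : Type) [Field F] [Fintype F] (a : ℕ), 1 ≤ a → Fintype.card F = 2 ^ a →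
  ∃ (γ : ↥(chevF4.group F) ≃* ↥(chevF4.group F)) (Z Zm Q : Subgroup ↥(chevF4.group F)), LocF (2 ^ a) γ Z Zm Q

/-- box: the local structure of `Sp₈(2 ^ a)` -/
def BoxK : Prop := ∀ (F : Type) [Field F] [Fintype F] (a : ℕ), 1 ≤ a → Fintype.card F = 2 ^ a →
  ∃ Z Zm R L : Subgroup (PSp 4 F), LocK F (2 ^ a) Z Zm R L

/-- box: `E₆(2)` and `²E₆(2)` have no factorisation -/
def BoxTwo : Prop := Cf → ∀ (F : Type) [Field F] [Fintype F],
  (Fintype.card F = 2 → NoFac ↥(chevE6.group F)) ∧ (Fintype.card F = 2 ^ 2 → NoFac ↥(twistedE6 F 2))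

/-- box: `PSp₈(q)` and `Ω₉(q)` are not subgroups of `F₄(q)`, `q` odd (the 2-rank of `F₄(q)` is five) -/
def BoxRk : Prop := ∀ (F : Type) [Field F] [Fintype F], Odd (Fintype.card F) → ∀ Y : Subgroup ↥(chevF4.group F),
  ¬ Real (.psp 4 (Fintype.card F)) Y ∧ ¬ Real (.oodd 4 (Fintype.card F)) Y

/-- box: `F₄(q)`, `q` odd, is not the product of `³D₄(q)` and `Spin₉(q)` -/
def BoxOd : Prop := ∀ (F : Type) [Field F] [Fintype F], Odd (Fintype.card F) →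
  ∀ (D : Subgroup ↥(chevF4.group F)) (z : ↥(chevF4.group F)), Real (.td4 (Fintype.card F)) D → orderOf z = 2 →
    Nat.card ↥(centralizer ({z} : Set ↥(chevF4.group F))) = Fintype.card F ^ 16 * (Fintype.card F ^ 2 - 1) *
      (Fintype.card F ^ 4 - 1) * (Fintype.card F ^ 6 - 1) * (Fintype.card F ^ 8 - 1) →
    ¬ Pd D (centralizer ({z} : Set ↥(chevF4.group F)))

/-- box: `G₂(4)` is not a subgroup of `F₄(2)` -/
def BoxG : Prop := ∀ (F : Type) [Field F] [Fintype F], Fintype.card F = 2 → ∀ X : Subgroup ↥(chevF4.group F),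
  ¬ Real (.g2 4) X

/-- box: the factorisations of `F₄(q)` with a simple factor -/
def BoxId : Prop := ∀ (F : Type) [Field F] [Fintype F] (T Y : Subgroup ↥(chevF4.group F)), IsSimpleGroup T → T ≠ ⊤ →
  Y ≠ ⊤ → Pd T Y → Row (Fintype.card F) T Y ∨ Row (Fintype.card F) Y T

/-- box: the bound for the family `F₄(q)` -/
def BoxAsm : Prop := BoxF → BoxK → BoxId → Bnd fF4 tabF4

end Cfsg.Agent.SM.Ex
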