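import Cfsg.Agent.H563.KG.RedW
import Cfsg.Agent.H563.KG.CycFix

/-!
# S3570, `S = F₄(q)`: sections with big primes (helper93)

* `idx_syl` : the index of a normal subgroup and the normaliser of a Sylow subgroup for a big prime;
* `Sct`, `exists_sct` : the simple section, with the quotient map kept;
* `Sct.lift` : the section is a normal subgroup if the kernel is trivial;
* `Sct.elem` : an elementary abelian normal subgroup in a nontrivial kernel;
* `bt_of_big` : no `t`-subgroup is normalised by an element of order `r`.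
-/

set_option autoImplicit false

namespace Cfsg.Agent.SM.Ex.Id

open Subgroup Cfsg.Agent.H56.Exc Cfsg.Agent.H563.KG

theorem card_subgroupOf_comm {G : Type*} [Group G] (A B : Subgroup G) :
    Nat.card (A.subgroupOf B) = Nat.card (B.subgroupOf A) := by
  rw [← inf_subgroupOf_right A B, ← inf_subgroupOf_right B A,
    Nat.card_congr (subgroupOfEquivOfLe (inf_le_right : A ⊓ B ≤ B)).toEquiv,
    Nat.card_congr (subgroupOfEquivOfLe (inf_le_right : B ⊓ A ≤ A)).toEquiv, inf_comm]

/-- **The index of a normal subgroup and the Sylow normaliser.** -/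
theorem idx_syl {G : Type*} [Group G] [Finite G] {r m e : ℕ} (h : Big G r m e) (S : Subgroup G) [hSn : S.Normal]
    (y : S) (hy : r ∣ orderOf y) :
    ∃ N k, S.index * N ∣ e * m ∧ Nat.card S = N * k ∧ k % r = 1 ∧ orderOf y ∣ N := by
  have hr := h.prime
  have : Fact r.Prime := ⟨hr⟩
  have hy0 : orderOf y ≠ 0 := (orderOf_pos y).ne'
  set x : S := y ^ (orderOf y / r) with hxdef
  have hx : orderOf x = r := orderOf_pow_orderOf_div hy0 hy
  have hxp : IsPGroup r (zpowers x) := IsPGroup.of_card (n := 1) (by rw [Nat.card_zpowers, hx, pow_one])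
  obtain ⟨P₀, hP₀⟩ := hxp.exists_le_sylow
  have hxP₀ : x ∈ (P₀ : Subgroup S) := hP₀ (mem_zpowers x)
  have hxG : orderOf (x : G) = r := by rw [Subgroup.orderOf_coe, hx]
  have hcyc : IsCyclic ↥((P₀ : Subgroup S).map S.subtype) := h.isCyclic_of_isPGroup (P₀.2.map _)
  have hF := Sylow.normalizer_sup_eq_top P₀
  set N := normalizer (((P₀ : Subgroup S).map S.subtype : Subgroup G) : Set G) with hN
  have hNle : N ≤ normalizer (zpowers (x : G) : Set G) := by
    have hsub : ∀ y ∈ N, y * (x : G) * y⁻¹ ∈ zpowers (x : G) := by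
      intro y hy
      have h1 : y * (x : G) * y⁻¹ ∈ (P₀ : Subgroup S).map S.subtype :=
        (mem_normalizer_iff.1 hy (x : G)).1 ⟨x, hxP₀, rfl⟩
      exact mem_zpowers_of_cyclic hcyc ⟨x, hxP₀, rfl⟩ h1 (by
        rw [show orderOf (y * (x : G) * y⁻¹) = orderOf (x : G) from by
          rw [← MulAut.conj_apply]; exact (MulAut.conj y).orderOf_eq _])
    have hsub' : ∀ y ∈ N, ∀ a ∈ zpowers (x : G), y * a * y⁻¹ ∈ zpowers (x : G) := by
      rintro y hy _ ⟨j, rfl⟩
      show y * (x : G) ^ j * y⁻¹ ∈ _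
      rw [← conj_zpow]
      exact zpow_mem (hsub y hy) j
    intro y hy
    rw [mem_normalizer_iff]
    intro a
    refine ⟨fun ha => hsub' y hy a ha, fun ha => ?_⟩
    have := hsub' y⁻¹ (inv_mem hy) _ ha
    have e1 : y⁻¹ * (y * a * y⁻¹) * y⁻¹⁻¹ = a := by group
    rwa [e1] at this
  have h1 : S.index = S.relIndex N := by
    rw [← relIndex_top_right, ← hF, sup_comm, relIndex_sup_left]
  have h2 : N.subgroupOf S = normalizer ((P₀ : Subgroup S) : Set S) := by
    rw [hN, subgroupOf_normalizer_eq (map_subtype_le _)]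
    congr 2
    exact comap_map_eq_self_of_injective S.subtype_injective _
  refine ⟨Nat.card ↥(normalizer ((P₀ : Subgroup S) : Set S)), (normalizer ((P₀ : Subgroup S) : Set S)).index, ?_,
    (Subgroup.card_mul_index _).symm, ?_, ?_⟩
  · have h3 : S.index * Nat.card ↥(normalizer ((P₀ : Subgroup S) : Set S)) = Nat.card N := by
      rw [h1, ← h2, card_subgroupOf_comm, mul_comm]
      exact Subgroup.card_mul_index _
    rw [h3]
    exact (Subgroup.card_dvd_of_le hNle).trans (h.card_normalizer_dvd hxG)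
  · have h3 := card_sylow_modEq_one r S
    rw [P₀.card_eq_index_normalizer] at h3
    have h4 : 1 % r = 1 := Nat.mod_eq_of_lt hr.one_lt
    exact Eq.trans h3 h4
  · have hbS := h.subgroup S
    have hC := hbS.cyc x hx
    have hPc := hbS.isCyclic_sylow P₀
    have hyC : y ∈ centralizer ({x} : Set S) := by
      rw [mem_centralizer_singleton_iff, hxdef]
      exact (Commute.self_pow y _).eq
    have hPC : (P₀ : Subgroup S) ≤ centralizer ({x} : Set S) := by
      intro a ha
      rw [mem_centralizer_singleton_iff]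
      let _ := IsCyclic.commGroup (α := ↥(P₀ : Subgroup S))
      have h1 : (⟨a, ha⟩ : ↥(P₀ : Subgroup S)) * ⟨x, hxP₀⟩ = ⟨x, hxP₀⟩ * ⟨a, ha⟩ := mul_comm _ _
      exact congrArg Subtype.val h1
    have hyN : y ∈ normalizer ((P₀ : Subgroup S) : Set S) := by
      apply centralizer_le_normalizer
      rw [mem_centralizer_iff]
      intro a ha
      let _ := IsCyclic.commGroup (α := ↥(centralizer ({x} : Set S)))
      have h1 : (⟨a, hPC ha⟩ : ↥(centralizer ({x} : Set S))) * ⟨y, hyC⟩ = ⟨y, hyC⟩ * ⟨a, hPC ha⟩ := mul_comm _ _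
      exact congrArg Subtype.val h1
    exact Subgroup.orderOf_dvd_natCard _ hyN

/-- the automiser is determined by a congruence -/
theorem idx_of_mod {G : Type*} [Group G] [Finite G] {r m e : ℕ} (h : Big G r m e) (S : Subgroup G) [S.Normal]
    (y : S) (hy : orderOf y = m) (hrm : r ∣ m) (he : 0 < e) (her : e < r) {R a : ℕ} (hS : Nat.card S = m * R)
    (hR : R % r = a) : S.index * a ∣ e := by
  obtain ⟨N, k, h1, h2, h3, h4⟩ := idx_syl h S y (by rwa [hy])
  have hm : 0 < m := by rw [← hy]; exact orderOf_pos y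
  rw [hy] at h4
  obtain ⟨j, rfl⟩ := h4
  have h5 : S.index * j ∣ e := by
    apply Nat.dvd_of_mul_dvd_mul_right hm
    calc S.index * j * m = S.index * (m * j) := by ring
      _ ∣ e * m := h1
  have h6 : R = j * k := by
    apply Nat.eq_of_mul_eq_mul_left hm
    rw [← hS, h2, mul_assoc]
  have h7 : j < r := (Nat.le_of_dvd he ((Dvd.intro_left _ rfl).trans h5)).trans_lt her
  have h8 : R % r = j := by
    rw [h6, Nat.mul_mod, h3, mul_one, Nat.mod_mod, Nat.mod_eq_of_lt h7]
  rwa [← hR, h8]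

/-- a simple section with the big primes `B` -/
structure Sct (p : ℕ) (B : ℕ → ℕ → ℕ → Prop) {Z W : Type} [Group Z] [Group W] (π : Z →* W) (S : Subgroup W) : Prop where
  surj : Function.Surjective π
  nor : S.Normal
  sim : IsSimpleGroup S
  na : ¬ IsMulCommutative S
  pk : ¬ p ∣ Nat.card π.ker
  rk : ∀ r m e, B r m e → ¬ r ∣ Nat.card π.ker
  big : ∀ r m e, B r m e → Big W r m e
  dvd : ∀ r m e, B r m e → r ∣ Nat.card S
  core : ∀ K : Subgroup Z, K.Normal → (∀ r m e, B r m e → ¬ r ∣ Nat.card K) → K ≤ π.ker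

theorem exists_sct {Z : Type} [Group Z] [Finite Z] {p : ℕ} {B : ℕ → ℕ → ℕ → Prop} (hp : p.Prime)
    (hbig : ∀ r m e, B r m e → Big Z r m e) (hdvd : ∀ r m e, B r m e → r ∣ Nat.card Z) {r₁ m₁ e₁ : ℕ}
    (hr₁ : B r₁ m₁ e₁) (hbt : BT Z p r₁) (hpm : ∀ r m e, B r m e → ¬ p ∣ m) {k : ℕ} (hk : p ^ k ∣ Nat.card Z)
    (hke : ∀ r m e, B r m e → ¬ p ^ k ∣ e) :
    ∃ (W : Type) (_ : Group W) (_ : Finite W) (π : Z →* W) (S : Subgroup W), Sct p B π S := by
  obtain ⟨O, hO, hO1, hred⟩ := exists_red Z (Pr B) (fun r ⟨m, e, hr⟩ => (hbig r m e hr).prime)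
  have hcop : ∀ n, ¬ p ∣ n → Nat.Coprime (p ^ k) n := fun n hn =>
    Nat.Coprime.pow_left k ((Nat.Prime.coprime_iff_not_dvd hp).2 hn)
  have hpO : ¬ p ∣ Nat.card O :=
    hbt.not_dvd_card hp (hbig _ _ _ hr₁).prime (hdvd _ _ _ hr₁) O (hO1 r₁ ⟨_, _, hr₁⟩)
  have hQ : RFam (Z ⧸ O) B := RFam.of_quotient hbig hdvd O hO1 (by
    intro r m e hr h1
    rw [Subgroup.card_eq_card_quotient_mul_card_subgroup O] at hk
    have h3 := (hcop _ hpO).dvd_of_dvd_mul_right hk
    exact hke r m e hr ((hcop _ (hpm r m e hr)).dvd_of_dvd_mul_right (h3.trans h1)))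
  obtain ⟨S, hSn, hs, hna, hall⟩ := hQ.exists_full cycFixSolv hred hr₁
  have hker : (QuotientGroup.mk' O).ker = O := QuotientGroup.ker_mk' O
  refine ⟨Z ⧸ O, inferInstance, inferInstance, QuotientGroup.mk' O, S, QuotientGroup.mk'_surjective O, hSn, hs, hna,
    by rwa [hker], fun r m e hr => by rw [hker]; exact hO1 r ⟨m, e, hr⟩, hQ.big, fun r m e hr => (hall r m e hr).2.1,
    fun K hK hKr => ?_⟩
  have h1 := hred (K.map (QuotientGroup.mk' O)) (hK.map _ (QuotientGroup.mk'_surjective O)) (by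
    rintro r ⟨m, e, hr⟩ h2
    exact hKr r m e hr (h2.trans (Subgroup.card_map_dvd K _)))
  exact (Subgroup.map_eq_bot_iff K).1 h1

section

variable {p : ℕ} {B : ℕ → ℕ → ℕ → Prop} {Z W : Type} [Group Z] [Group W] {π : Z →* W} {S : Subgroup W}

theorem Sct.card (h : Sct p B π S) : Nat.card Z = Nat.card S * (S.index * Nat.card π.ker) := by
  rw [← mul_assoc, Subgroup.card_mul_index, Subgroup.card_eq_card_quotient_mul_card_subgroup π.ker,
    Nat.card_congr (QuotientGroup.quotientKerEquivOfSurjective π h.surj).toEquiv]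

theorem Sct.card_dvd (h : Sct p B π S) : Nat.card S ∣ Nat.card Z := Dvd.intro _ h.card.symm

theorem Sct.idx [Finite W] (h : Sct p B π S) {r m e : ℕ} (hr : B r m e) : S.index ∣ e * m ∧ ¬ r ∣ S.index := by
  have := h.nor
  exact ⟨(h.big r m e hr).index_dvd S (h.dvd r m e hr),
    (h.big r m e hr).not_dvd_index S h.sim h.na (h.dvd r m e hr)⟩

/-- an element of the section lifts to an element of order a multiple -/
theorem Sct.elt [Finite Z] (h : Sct p B π S) (y : S) {n : ℕ} (hn : n ∣ orderOf y) : ∃ z : Z, orderOf z = n := by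
  obtain ⟨z, hz⟩ := h.surj (y : W)
  have h1 : n ∣ orderOf z := by
    refine hn.trans ?_
    rw [← Subgroup.orderOf_coe, ← hz]
    exact orderOf_map_dvd π z
  exact ⟨z ^ (orderOf z / n), orderOf_pow_orderOf_div (orderOf_pos z).ne' h1⟩

/-- a nontrivial kernel contains an elementary abelian normal subgroup -/
theorem Sct.elem [Finite Z] (h : Sct p B π S) {r m e : ℕ} (hr : B r m e) (hb : Big Z r m e) (hne : π.ker ≠ ⊥) :
    ∃ t : ℕ, t.Prime ∧ t ∣ Nat.card π.ker ∧ ∃ A : Subgroup Z, A.Normal ∧ A ≤ π.ker ∧ A ≠ ⊥ ∧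
      (∀ a ∈ A, ∀ b ∈ A, a * b = b * a) ∧ (∀ a ∈ A, a ^ t = 1) ∧ ∃ k, 0 < k ∧ Nat.card A = t ^ k := by
  have hrp := hb.prime
  have := Fact.mk hrp
  have hsolv : Group.IsSolvable π.ker := by
    obtain ⟨x, hx⟩ := exists_prime_orderOf_dvd_card' r ((h.dvd r m e hr).trans h.card_dvd)
    apply cycFixSolv π.ker (MulAut.conjNormal (H := π.ker) x) r hrp _ (h.rk r m e hr)
    · refine ⟨(Subgroup.centralizer {x}).comap π.ker.subtype, ?_, fun a ha => ?_⟩
      · have := hb.cyc x hx
        let g : ↥((Subgroup.centralizer {x}).comap π.ker.subtype) →* ↥(Subgroup.centralizer {x}) :=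
          (π.ker.subtype.comp ((Subgroup.centralizer {x}).comap π.ker.subtype).subtype).codRestrict _ fun y => y.2
        exact isCyclic_of_injective g fun a b hab => by
          have h3 : ((a : π.ker) : Z) = ((b : π.ker) : Z) :=
            congrArg (fun z : ↥(Subgroup.centralizer {x}) => (z : Z)) hab
          exact Subtype.ext (Subtype.ext h3)
      · rw [Subgroup.mem_comap, Subgroup.mem_centralizer_singleton_iff]
        have h2 := congrArg Subtype.val ha
        rw [MulAut.conjNormal_apply, mul_inv_eq_iff_eq_mul] at h2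
        exact h2.symm
    · rw [← map_pow, ← hx, pow_orderOf_eq_one, map_one]
  obtain ⟨t, ht, A, hAn, hAN, hA0, hAc, hAt⟩ := exists_elem' (S := π.ker) inferInstance hsolv hne
  have hPt : IsPGroup t A := fun a => ⟨1, by rw [pow_one]; exact Subtype.ext (hAt a a.2)⟩
  have := Fact.mk ht
  obtain ⟨k, hk⟩ := IsPGroup.iff_card.1 hPt
  have hk0 : k ≠ 0 := by
    rintro rfl
    rw [pow_zero, Subgroup.card_eq_one] at hk
    exact hA0 hk
  have htA : t ∣ Nat.card A := by rw [hk]; exact dvd_pow_self t hk0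
  exact ⟨t, ht, htA.trans (Subgroup.card_dvd_of_le hAN), A, hAn, hAN, hA0, hAc, hAt, k, Nat.pos_of_ne_zero hk0, hk⟩

end

/-- the section is a normal subgroup if the kernel is trivial -/
theorem Sct.lift {p : ℕ} {B : ℕ → ℕ → ℕ → Prop} {G W : Type} [Group G] [Group W] {Z : Subgroup G} {π : Z →* W}
    {S : Subgroup W} (h : Sct p B π S) (hk : π.ker = ⊥) :
    ∃ D ≤ Z, Z ≤ normalizer (D : Set G) ∧ Nonempty (D ≃* S) ∧ Nat.card Z = Nat.card D * S.index := by
  have := h.nor
  have hinj : Function.Injective π := (MonoidHom.ker_eq_bot_iff π).1 hk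
  let e : Z ≃* W := MulEquiv.ofBijective π ⟨hinj, h.surj⟩
  let D₀ : Subgroup Z := S.map e.symm.toMonoidHom
  have hD₀ : D₀.Normal := h.nor.map _ e.symm.surjective
  have e1 : S ≃* D₀ := e.symm.subgroupMap S
  have e2 : D₀ ≃* D₀.map Z.subtype := D₀.equivMapOfInjective _ Z.subtype_injective
  refine ⟨D₀.map Z.subtype, map_subtype_le _, ?_, ⟨(e1.trans e2).symm⟩, ?_⟩
  · intro z hz
    rw [mem_normalizer_iff]
    have key : ∀ z ∈ Z, ∀ a ∈ D₀.map Z.subtype, z * a * z⁻¹ ∈ D₀.map Z.subtype := by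
      rintro z hz _ ⟨a, ha, rfl⟩
      exact ⟨_, hD₀.conj_mem a ha ⟨z, hz⟩, rfl⟩
    intro a
    refine ⟨fun ha => key z hz a ha, fun ha => ?_⟩
    have := key z⁻¹ (inv_mem hz) _ ha
    have e1 : z⁻¹ * (z * a * z⁻¹) * z⁻¹⁻¹ = a := by group
    rwa [e1] at this
  · rw [h.card, hk, Subgroup.card_bot, mul_one, Nat.card_congr (e1.trans e2).toEquiv]

/-- no `t`-subgroup is normalised by an element of order `r` -/
theorem bt_of_big {G : Type*} [Group G] [Finite G] {r m e t : ℕ} (h : Big G r m e) (ht : t.Prime) (htm : ¬ t ∣ m)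
    (hk : ∀ k, 0 < k → t ^ k ∣ Nat.card G → ¬ r ∣ t ^ k - 1) : BT G t r := by
  intro Q hQ hQ1 hr
  have := Fact.mk h.prime
  have := Fact.mk ht
  obtain ⟨x, hx⟩ := exists_prime_orderOf_dvd_card' r hr
  obtain ⟨k, hk1⟩ := IsPGroup.iff_card.1 hQ
  have hk0 : k ≠ 0 := by
    rintro rfl
    rw [pow_zero, Subgroup.card_eq_one] at hk1
    exact hQ1 hk1
  have h1 := dvd_card_sub_one (A := Q.subgroupOf (normalizer (Q : Set G))) h.prime hx (by
    intro a ha hc
    by_contra hne
    have h2 : (a : G) ∈ centralizer ({(x : G)} : Set G) := by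
      rw [mem_centralizer_singleton_iff]
      exact (congrArg Subtype.val hc).symm
    have h3 := (Subgroup.orderOf_dvd_natCard _ h2).trans (h.card (x : G) (by rw [Subgroup.orderOf_coe, hx]))
    obtain ⟨j, hj⟩ := IsPGroup.iff_orderOf.1 hQ ⟨(a : G), mem_subgroupOf.1 ha⟩
    rw [Subgroup.orderOf_mk] at hj
    have hj0 : j ≠ 0 := by
      rintro rfl
      rw [pow_zero, orderOf_eq_one_iff] at hj
      exact hne (Subtype.ext hj)
    rw [hj] at h3
    exact htm ((dvd_pow_self t hj0).trans h3))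
  rw [Nat.card_congr (subgroupOfEquivOfLe le_normalizer).toEquiv, hk1] at h1
  exact hk k (Nat.pos_of_ne_zero hk0) (hk1 ▸ Subgroup.card_subgroup_dvd_card Q) h1

/-- the fixed points of an element of prime order on a normal subgroup -/
theorem card_mod {G : Type*} [Group G] [Finite G] (A : Subgroup G) [A.Normal] {x : G} {r : ℕ} (hr : r.Prime)
    (hx : orderOf x = r) : Nat.card A ≡ Nat.card ↥(A ⊓ centralizer ({x} : Set G)) [MOD r] := by
  have := Fact.mk hr
  have hP : IsPGroup r (zpowers x) := IsPGroup.of_card (n := 1) (by rw [Nat.card_zpowers, hx, pow_one])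
  let _ : MulAction (zpowers x) A := MulAction.compHom A ((MulAut.conjNormal (H := A)).comp (zpowers x).subtype)
  have h1 := hP.card_modEq_card_fixedPoints A
  have h2 : Nat.card (MulAction.fixedPoints (zpowers x) A) = Nat.card ↥(A ⊓ centralizer ({x} : Set G)) := by
    refine Nat.card_congr ⟨fun a => ⟨(a.1 : G), a.1.2, ?_⟩, fun a => ⟨⟨a.1, a.2.1⟩, ?_⟩, fun _ => rfl, fun _ => rfl⟩
    · have h3 := congrArg Subtype.val (a.2 ⟨x, mem_zpowers x⟩)
      have h4 : x * (a.1 : G) * x⁻¹ = (a.1 : G) := h3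
      rw [mul_inv_eq_iff_eq_mul] at h4
      exact mem_centralizer_singleton_iff.2 h4.symm
    · rintro ⟨_, j, rfl⟩
      apply Subtype.ext
      have h3 : a.1 * x = x * a.1 := mem_centralizer_singleton_iff.1 a.2.2
      have h4 : Commute (x ^ j) a.1 := (show Commute x a.1 from h3.symm).zpow_left j
      show x ^ j * a.1 * (x ^ j)⁻¹ = a.1
      rw [h4.eq, mul_inv_cancel_right]
  rwa [h2] at h1

end Cfsg.Agent.SM.Ex.Id
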