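import Cfsg.Agent.H946.RgF4.CrossB
import Cfsg.Agent.H563.KG.KF4

/-!
# S3570, `S = F₄(q)`: the simple groups of order dividing `|F₄(q)|`, `q ≤ 4` (helper93)

* `cross3`, `cross4` : large sections with a prime of class 12 or 8 have characteristic `p`;
* `two12`, `two8` : the sections for `q = 2`.
-/

set_option autoImplicit false

namespace Cfsg.Agent.SM.Ex.Id

open Cfsg Cfsg.Agent.OrdDiv Cfsg.Agent.H436 Cfsg.Agent.H915.GN Cfsg.Agent.H563.KG

def l2 : List (ℕ × ℕ) := [(2, 24), (3, 6), (5, 2), (7, 2), (13, 1), (17, 1)]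

def l3 : List (ℕ × ℕ) := [(2, 15), (3, 24), (5, 2), (7, 2), (13, 2), (41, 1), (73, 1)]

def l4 : List (ℕ × ℕ) := [(2, 48), (3, 6), (5, 4), (7, 2), (13, 2), (17, 2), (241, 1), (257, 1)]

def L3 : List Grp := [.psl 4 9, .psl 3 81, .psp 4 3, .psp 2 9, .psp 2 27, .oodd 4 3, .ominus 4 3, .g2 9, .f4 3, .td4 3]

def L4 : List Grp := [.psl 4 16, .psl 3 256, .psl 2 4096, .psp 4 4, .psp 2 16, .psp 2 64, .psu 3 16, .ominus 4 4, .g2 16,
  .f4 4, .td4 4]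

theorem v2 : valid l2 (num (.f4 2)) = true := by decide +kernel

theorem v3 : valid l3 (num (.f4 3)) = true := by decide +kernel

theorem v4 : valid l4 (num (.f4 4)) = true := by decide +kernel

theorem c3 : ∀ g ∈ cands l3 (num (.f4 3)), 3 ^ 7 ∣ ordN g → (73 ∣ ordN g ∨ 41 ∣ ordN g) → g ∈ L3 := by decide +kernel

theorem c4 : ∀ g ∈ cands l4 (num (.f4 4)), 2 ^ 11 ∣ ordN g → (241 ∣ ordN g ∨ 257 ∣ ordN g) → g ∈ L4 := by
  decide +kernel

theorem e3 : ∀ g ∈ L3, den g * ordN g = num g := by decide +kernel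

theorem e4 : ∀ g ∈ L4, den g * ordN g = num g := by decide +kernel

theorem pp {p : ℕ} (hp : p.Prime) (k : ℕ) {q : ℕ} (hk : k ≠ 0) (h : q = p ^ k) : IsPrimePow q :=
  h ▸ hp.isPrimePow.pow hk

theorem d3 : ∀ g ∈ L3, Cond g ∧ HasChar 3 g := by
  have p1 : IsPrimePow 3 := pp Nat.prime_three 1 (by norm_num) (by norm_num)
  have p2 : IsPrimePow 9 := pp Nat.prime_three 2 (by norm_num) (by norm_num)
  have p3 : IsPrimePow 27 := pp Nat.prime_three 3 (by norm_num) (by norm_num)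
  have p4 : IsPrimePow 81 := pp Nat.prime_three 4 (by norm_num) (by norm_num)
  intro g hg
  simp only [L3, List.mem_cons, List.not_mem_nil, or_false] at hg
  rcases hg with rfl | rfl | rfl | rfl | rfl | rfl | rfl | rfl | rfl | rfl
  · exact ⟨⟨by norm_num, by norm_num, p2⟩, 2, by norm_num⟩
  · exact ⟨⟨by norm_num, by norm_num, p4⟩, 4, by norm_num⟩
  · exact ⟨⟨by norm_num, by norm_num, p1⟩, 1, by norm_num⟩
  · exact ⟨⟨by norm_num, by norm_num, p2⟩, 2, by norm_num⟩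
  · exact ⟨⟨by norm_num, by norm_num, p3⟩, 3, by norm_num⟩
  · exact ⟨⟨by norm_num, by decide, p1⟩, 1, by norm_num⟩
  · exact ⟨⟨by norm_num, p1⟩, 1, by norm_num⟩
  · exact ⟨⟨by norm_num, p2⟩, 2, by norm_num⟩
  · exact ⟨p1, 1, by norm_num⟩
  · exact ⟨p1, 1, by norm_num⟩

theorem d4 : ∀ g ∈ L4, Cond g ∧ HasChar 2 g := by
  have p2 : IsPrimePow 4 := pp Nat.prime_two 2 (by norm_num) (by norm_num)
  have p4 : IsPrimePow 16 := pp Nat.prime_two 4 (by norm_num) (by norm_num)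
  have p6 : IsPrimePow 64 := pp Nat.prime_two 6 (by norm_num) (by norm_num)
  have p8 : IsPrimePow 256 := pp Nat.prime_two 8 (by norm_num) (by norm_num)
  have p12 : IsPrimePow 4096 := pp Nat.prime_two 12 (by norm_num) (by norm_num)
  intro g hg
  simp only [L4, List.mem_cons, List.not_mem_nil, or_false] at hg
  rcases hg with rfl | rfl | rfl | rfl | rfl | rfl | rfl | rfl | rfl | rfl | rfl
  · exact ⟨⟨by norm_num, by norm_num, p4⟩, 4, by norm_num⟩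
  · exact ⟨⟨by norm_num, by norm_num, p8⟩, 8, by norm_num⟩
  · exact ⟨⟨by norm_num, by norm_num, p12⟩, 12, by norm_num⟩
  · exact ⟨⟨by norm_num, by norm_num, p2⟩, 2, by norm_num⟩
  · exact ⟨⟨by norm_num, by norm_num, p4⟩, 4, by norm_num⟩
  · exact ⟨⟨by norm_num, by norm_num, p6⟩, 6, by norm_num⟩
  · exact ⟨⟨by norm_num, by norm_num, p4⟩, 4, by norm_num⟩
  · exact ⟨⟨by norm_num, p2⟩, 2, by norm_num⟩
  · exact ⟨⟨by norm_num, p4⟩, 4, by norm_num⟩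
  · exact ⟨p2, 2, by norm_num⟩
  · exact ⟨p2, 2, by norm_num⟩

section

variable {S : Type} [Group S] [Finite S]

theorem good_of (hcf : CF) (hs : IsSimpleGroup S) (hna : ¬ IsMulCommutative S) {l : List (ℕ × ℕ)} {N : ℕ}
    (hv : valid l N = true) (hd : Nat.card S ∣ N) : ∃ g ∈ cands l N, Real g S ∧ Nat.card S = ordN g :=
  exists_good table (hcf S) (fun h => hna ⟨⟨h⟩⟩) hv hd

theorem cross3 (hcf : CF) (hs : IsSimpleGroup S) (hna : ¬ IsMulCommutative S) (hd : Nat.card S ∣ num (.f4 3))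
    (h1 : 3 ^ 7 ∣ Nat.card S) (h2 : 73 ∣ Nat.card S ∨ 41 ∣ Nat.card S) : ∃ g, IsNamed g S ∧ HasChar 3 g := by
  obtain ⟨g, hg, hr, ho⟩ := good_of hcf hs hna v3 hd
  rw [ho] at h1 h2
  have h3 := c3 g hg h1 h2
  exact ⟨g, .mk' hr (d3 g h3).1 (by rw [ho]; exact e3 g h3), (d3 g h3).2⟩

theorem cross4 (hcf : CF) (hs : IsSimpleGroup S) (hna : ¬ IsMulCommutative S) (hd : Nat.card S ∣ num (.f4 4))
    (h1 : 2 ^ 11 ∣ Nat.card S) (h2 : 241 ∣ Nat.card S ∨ 257 ∣ Nat.card S) : ∃ g, IsNamed g S ∧ HasChar 2 g := by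
  obtain ⟨g, hg, hr, ho⟩ := good_of hcf hs hna v4 hd
  rw [ho] at h1 h2
  have h3 := c4 g hg h1 h2
  exact ⟨g, .mk' hr (d4 g h3).1 (by rw [ho]; exact e4 g h3), (d4 g h3).2⟩

end

/-- the Sylow condition: `n` is the index, `r j` the order of the normaliser -/
def Syl (r e c n : ℕ) : Prop := ∃ j ∈ List.range (e + 1), n * j ∣ e ∧ r * j ∣ c ∧ c / (r * j) % r = 1

instance decSyl (r e c n : ℕ) : Decidable (Syl r e c n) := by unfold Syl; infer_instance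

/-- class 8, `q = 2` : the bounds -/
theorem c28 : ∀ g ∈ cands l2 (num (.f4 2)), 17 ∣ ordN g → ¬ 13 ∣ ordN g → ∀ n ∈ List.range 9, Syl 17 8 (ordN g) n →
    ¬ 2 ^ 17 ∣ ordN g * n ∧ ¬ 49 ∣ ordN g * n ∧ (2 ^ 12 ∣ ordN g * n → 25 ∣ ordN g * n → g = .psp 4 2 ∧ n = 1) := by
  decide +kernel

/-- class 12, `q = 2` -/
theorem c212 : ∀ g ∈ cands l2 (num (.f4 2)), 13 ∣ ordN g → ¬ 17 ∣ ordN g → ∀ n ∈ List.range 13,
    Syl 13 12 (ordN g) n → ¬ 2 ^ 14 ∣ ordN g * n ∧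
      (2 ^ 8 ∣ ordN g * n → 7 ∣ ordN g * n → g = .g2 4 ∨ (g = .td4 2 ∧ (n = 1 ∨ n = 3))) := by
  decide +kernel

end Cfsg.Agent.SM.Ex.Id
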