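import Cfsg.Agent.H946.RgF4.TypB

/-!
# S3570, `S = F₄(q)`: the names of the large sections in characteristic `p` (helper93)

The case analysis is that of `H946/RgF4/Typ`, `TypB`, with the names kept.
-/

set_option autoImplicit false

namespace Cfsg.Agent.SM.Ex.Id

open Cfsg Cfsg.Agent.OrdDiv Cfsg.Agent.H436 Cfsg.Agent.H425.PartP Cfsg.Agent.H425.Chr Cfsg.Agent.H946.Exc
open Cfsg.Agent.H946.RgF4

variable {p f b c cT : ℕ} {g : Grp}

/-- **class 12, without class 8** -/
theorem name12 (H : TS p f b c cT g) (ht : top g * b = 12 * f) (h8 : ¬ Kc g (8 * f / Nat.gcd (8 * f) b)) :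
    c.factorization p ≤ 6 * f ∨ g = .psp 2 (p ^ (f * 3)) ∨ g = .g2 (p ^ (f * 2)) ∨ g = .td4 (p ^ f) ∨
      g = .tf4 (p ^ f) := by
  obtain ⟨hf, hb⟩ := H.pos
  have h2 := H.ex_le ht
  have h3 : ex g ≤ 2 * top g := by omega
  have hu := H.S.hq
  have hfac := H.S.fac
  have hp2 := H.S.hp.two_le
  rcases list_B H.S.cond H.qne h3 with ⟨n, u, hn, rfl⟩ | ⟨m, u, hm, rfl⟩ | ⟨m, u, hm, rfl⟩ | ⟨n, u, hn, rfl⟩ |
    ⟨u, rfl⟩ | ⟨m, u, hm, rfl⟩ | ⟨u, rfl⟩ | ⟨u, rfl⟩ | ⟨u, rfl⟩ | ⟨u, rfl⟩ | ⟨u, rfl⟩ | ⟨u, rfl⟩ | ⟨u, rfl⟩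
  · -- PSL
    have h4 : n * b = 12 * f := ht
    have hn2 : 2 ≤ n := H.S.cond.1
    rcases (show n = 2 ∨ n = 3 ∨ n = 4 ∨ n = 5 by omega) with rfl | rfl | rfl | rfl
    · left
      obtain rfl : b = f * 6 := by omega
      obtain rfl : u = p ^ (f * 6) := hu
      rw [hfac]; change f * 6 * 1 ≤ _; omega
    · exfalso
      exact H.no8 h8 4 1 2 hf (by omega) (by omega) (by decide) (.low (by exact id) (by norm_num) le_rfl)
    · exfalso
      exact H.k1 9 3 1 3 9 hf (by omega) (by omega) (by omega) (by omega) (by decide)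
        (Or.inl ⟨by norm_num, by change 3 ≤ 4; norm_num⟩) (by decide) (by omega)
    · exfalso
      obtain ⟨h, rfl, rfl⟩ : ∃ h, f = 5 * h ∧ b = 12 * h := ⟨b - 2 * f - (f - (b - 2 * f) * 2), by omega, by omega⟩
      have hh : 0 < h := by omega
      exact H.k1 48 12 5 4 48 hh rfl rfl (by omega) (by omega) (by decide)
        (Or.inl ⟨by norm_num, by change 4 ≤ 5; norm_num⟩) (by decide) (by omega)
  · -- PSp
    have h4 : 2 * m * b = 12 * f := ht
    have hm2 : 2 ≤ m := H.S.cond.1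
    rcases (show m = 2 ∨ m = 3 ∨ m = 4 by omega) with rfl | rfl | rfl
    · right
      obtain rfl : b = f * 3 := by omega
      obtain rfl : u = p ^ (f * 3) := hu
      exact Or.inl rfl
    · exfalso
      exact H.no8 h8 2 1 4 hf (by omega) (by omega) (by decide)
        (Or.inl ⟨by norm_num, (K_psp (by norm_num)).2 (by norm_num)⟩)
    · exfalso
      obtain ⟨h, rfl, rfl⟩ : ∃ h, f = 2 * h ∧ b = 3 * h := ⟨b - f, by omega, by omega⟩
      have hh : 0 < h := by omega
      exact H.k1 18 3 2 6 9 hh rfl rfl (by omega) (by omega) (by decide)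
        (Or.inl ⟨by norm_num, (K_psp (by norm_num)).2 (by norm_num)⟩) (by decide) (by omega)
  · -- PΩ odd
    exfalso
    have h4 : 2 * m * b = 12 * f := ht
    have hm2 : 3 ≤ m := H.S.cond.1
    rcases (show m = 3 ∨ m = 4 by omega) with rfl | rfl
    · exact H.no8 h8 2 1 4 hf (by omega) (by omega) (by decide)
        (Or.inl ⟨by norm_num, (K_oodd (by norm_num)).2 (by norm_num)⟩)
    · obtain ⟨h, rfl, rfl⟩ : ∃ h, f = 2 * h ∧ b = 3 * h := ⟨b - f, by omega, by omega⟩
      have hh : 0 < h := by omega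
      exact H.k1 18 3 2 6 9 hh rfl rfl (by omega) (by omega) (by decide)
        (Or.inl ⟨by norm_num, (K_oodd (by norm_num)).2 (by norm_num)⟩) (by decide) (by omega)
  · -- PSU
    have h4 : 2 * (n - (1 - n % 2)) * b = 12 * f := ht
    have hn2 : 3 ≤ n := H.S.cond.1
    rcases (show n = 3 ∨ n = 4 ∨ n = 5 ∨ n = 6 ∨ n = 7 ∨ n = 8 ∨ n = 9 by omega) with rfl | rfl | rfl | rfl | rfl | rfl |
      rfl
    · left
      replace h4 : 6 * b = 12 * f := h4
      obtain rfl : b = f * 2 := by omega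
      obtain rfl : u = p ^ (f * 2) := hu
      rw [hfac]; change f * 2 * 3 ≤ _; omega
    · exfalso
      replace h4 : 6 * b = 12 * f := h4
      exact H.no8 h8 2 1 4 hf (by omega) (by omega) (by decide)
        (Or.inl ⟨by norm_num, (K_psu (by norm_num)).2 (by norm_num)⟩)
    · exfalso
      replace h4 : 10 * b = 12 * f := h4
      obtain ⟨h, rfl, rfl⟩ : ∃ h, f = 5 * h ∧ b = 6 * h := ⟨b - f, by omega, by omega⟩
      have hh : 0 < h := by omega
      exact H.k1 24 6 5 4 24 hh rfl rfl (by omega) (by omega) (by decide)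
        (Or.inl ⟨by norm_num, (K_psu (by norm_num)).2 (by norm_num)⟩) (by decide) (by omega)
    · exfalso
      replace h4 : 10 * b = 12 * f := h4
      obtain ⟨h, rfl, rfl⟩ : ∃ h, f = 5 * h ∧ b = 6 * h := ⟨b - f, by omega, by omega⟩
      have hh : 0 < h := by omega
      exact H.k1 24 6 5 4 24 hh rfl rfl (by omega) (by omega) (by decide)
        (Or.inl ⟨by norm_num, (K_psu (by norm_num)).2 (by norm_num)⟩) (by decide) (by omega)
    · exfalso
      replace h4 : 14 * b = 12 * f := h4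
      obtain ⟨h, rfl, rfl⟩ : ∃ h, f = 7 * h ∧ b = 6 * h := ⟨f - b, by omega, by omega⟩
      have hh : 0 < h := by omega
      exact H.k1 24 6 7 4 24 hh rfl rfl (by omega) (by omega) (by decide)
        (Or.inl ⟨by norm_num, (K_psu (by norm_num)).2 (by norm_num)⟩) (by decide) (by omega)
    · exfalso
      replace h4 : 14 * b = 12 * f := h4
      obtain ⟨h, rfl, rfl⟩ : ∃ h, f = 7 * h ∧ b = 6 * h := ⟨f - b, by omega, by omega⟩
      have hh : 0 < h := by omega
      exact H.k1 24 6 7 4 24 hh rfl rfl (by omega) (by omega) (by decide)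
        (Or.inl ⟨by norm_num, (K_psu (by norm_num)).2 (by norm_num)⟩) (by decide) (by omega)
    · exfalso
      replace h4 : 18 * b = 12 * f := h4
      obtain ⟨h, rfl, rfl⟩ : ∃ h, f = 3 * h ∧ b = 2 * h := ⟨f - b, by omega, by omega⟩
      have hh : 0 < h := by omega
      exact H.k1 20 2 3 10 20 hh rfl rfl (by omega) (by omega) (by decide)
        (Or.inl ⟨by norm_num, (K_psu (by norm_num)).2 (by norm_num)⟩) (by decide) (by omega)
  · -- PΩ⁺₈
    exfalso
    have h4 : 2 * (4 - 1) * b = 12 * f := ht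
    exact H.no8 h8 2 1 4 hf (by omega) (by omega) (by decide)
      (Or.inl ⟨by norm_num, (K_oplus (by norm_num) (by norm_num)).2 (by norm_num)⟩)
  · -- PΩ⁻
    exfalso
    have h4 : 2 * m * b = 12 * f := ht
    have hm2 : 4 ≤ m := H.S.cond.1
    rcases (show m = 4 ∨ m = 5 by omega) with rfl | rfl
    · obtain ⟨h, rfl, rfl⟩ : ∃ h, f = 2 * h ∧ b = 3 * h := ⟨b - f, by omega, by omega⟩
      have hh : 0 < h := by omega
      exact H.k1 18 3 2 6 9 hh rfl rfl (by omega) (by omega) (by decide)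
        (Or.inl ⟨by norm_num, (K_ominus (by norm_num) (by norm_num)).2 (by norm_num)⟩) (by decide) (by omega)
    · obtain ⟨h, rfl, rfl⟩ : ∃ h, f = 5 * h ∧ b = 6 * h := ⟨b - f, by omega, by omega⟩
      have hh : 0 < h := by omega
      exact H.k1 24 6 5 4 24 hh rfl rfl (by omega) (by omega) (by decide)
        (Or.inl ⟨by norm_num, (K_ominus (by norm_num) (by norm_num)).2 (by norm_num)⟩) (by decide) (by omega)
  · -- G₂
    right
    have h4 : 6 * b = 12 * f := ht
    obtain rfl : b = f * 2 := by omega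
    obtain rfl : u = p ^ (f * 2) := hu
    exact Or.inr (Or.inl rfl)
  · -- F₄
    exfalso
    have h4 : 12 * b = 12 * f := ht
    exact H.no8 h8 1 1 8 hf (by omega) (by omega) (by decide) K8
  · -- ²E₆
    exfalso
    have h4 : 18 * b = 12 * f := ht
    obtain ⟨h, rfl, rfl⟩ : ∃ h, f = 3 * h ∧ b = 2 * h := ⟨f - b, by omega, by omega⟩
    have hh : 0 < h := by omega
    exact H.k1 20 2 3 10 20 hh rfl rfl (by omega) (by omega) (by decide)
      (Or.inl ⟨by norm_num, Or.inr (Or.inl ⟨dvd_rfl, by decide⟩)⟩) (by decide) (by omega)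
  · -- ³D₄
    right
    have h4 : 12 * b = 12 * f := ht
    obtain rfl : b = f := by omega
    obtain rfl : u = p ^ b := hu
    exact Or.inr (Or.inr (Or.inl rfl))
  · -- Sz
    left
    have h4 : 4 * b = 12 * f := ht
    obtain rfl : b = f * 3 := by omega
    obtain rfl : u = p ^ (f * 3) := hu
    rw [hfac]; change f * 3 * 2 ≤ _; omega
  · -- Ree
    exfalso
    have h4 : 6 * b = 12 * f := ht
    have hp3 := three_of H.S.hp H.S.hf H.S.cond hu
    subst hp3
    obtain rfl : u = 3 ^ b := hu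
    have := ree_odd H.S.cond rfl
    omega
  · -- ²F₄
    right
    have h4 : 12 * b = 12 * f := ht
    obtain rfl : b = f := by omega
    obtain rfl : u = p ^ b := hu
    exact Or.inr (Or.inr (Or.inr rfl))

/-- **class 8, without class 12** -/
theorem name8 (H : TS p f b c cT g) (ht : top g * b = 8 * f) :
    c.factorization p ≤ 8 * f ∨ g = .psl 4 (p ^ (f * 2)) ∨ g = .ominus 4 (p ^ f) ∨ g = .psp 4 (p ^ f) ∨
      g = .oodd 4 (p ^ f) := by
  obtain ⟨hf, hb⟩ := H.pos
  have h2 := H.ex_le ht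
  have h3 : ex g ≤ 3 * top g := by omega
  have hu := H.S.hq
  have hfac := H.S.fac
  have hp2 := H.S.hp.two_le
  rcases list_C H.S.cond H.qne h3 with ⟨n, u, hn, rfl⟩ | ⟨m, u, hm, rfl⟩ | ⟨m, u, hm, rfl⟩ | ⟨n, u, rfl⟩ |
    ⟨m, u, hm, rfl⟩ | ⟨m, u, hm, rfl⟩ | ⟨u, rfl⟩ | ⟨u, rfl⟩ | ⟨u, rfl⟩ | ⟨u, rfl⟩ | ⟨u, rfl⟩ | ⟨u, rfl⟩ | ⟨u, rfl⟩ |
    ⟨u, rfl⟩
  · -- PSL
    have h4 : n * b = 8 * f := ht
    have hn2 : 2 ≤ n := H.S.cond.1
    rcases (show n = 2 ∨ n = 3 ∨ n = 4 ∨ n = 5 ∨ n = 6 ∨ n = 7 by omega) with rfl | rfl | rfl | rfl | rfl | rfl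
    · left
      rw [hfac]; change b * 1 ≤ _; omega
    · exfalso
      obtain ⟨h, rfl, rfl⟩ : ∃ h, f = 3 * h ∧ b = 8 * h := ⟨b - 2 * f - (f - (b - 2 * f)), by omega, by omega⟩
      have hh : 0 < h := by omega
      exact H.k1 16 8 3 2 16 hh rfl rfl (by omega) (by omega) (by decide)
        (.low (by exact id) (by norm_num) le_rfl) (by decide) (by omega)
    · right
      obtain rfl : b = f * 2 := by omega
      obtain rfl : u = p ^ (f * 2) := hu
      exact Or.inl rfl
    · exfalso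
      obtain ⟨h, rfl, rfl⟩ : ∃ h, f = 5 * h ∧ b = 8 * h := ⟨2 * f - b - (b - f - (2 * f - b)), by omega, by omega⟩
      have hh : 0 < h := by omega
      exact H.k1 32 8 5 4 32 hh rfl rfl (by omega) (by omega) (by decide)
        (Or.inl ⟨by norm_num, by change 4 ≤ 5; norm_num⟩) (by decide) (by omega)
    · exfalso
      obtain ⟨h, rfl, rfl⟩ : ∃ h, f = 3 * h ∧ b = 4 * h := ⟨b - f, by omega, by omega⟩
      have hh : 0 < h := by omega
      exact H.k1 20 4 3 5 20 hh rfl rfl (by omega) (by omega) (by decide)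
        (Or.inl ⟨by norm_num, by change 5 ≤ 6; norm_num⟩) (by decide) (by omega)
    · exfalso
      obtain ⟨h, rfl, rfl⟩ : ∃ h, f = 7 * h ∧ b = 8 * h := ⟨b - f, by omega, by omega⟩
      have hh : 0 < h := by omega
      exact H.k1 48 8 7 6 48 hh rfl rfl (by omega) (by omega) (by decide)
        (Or.inl ⟨by norm_num, by change 6 ≤ 7; norm_num⟩) (by decide) (by omega)
  · -- PSp
    have h4 : 2 * m * b = 8 * f := ht
    have hm2 : 2 ≤ m := H.S.cond.1
    rcases (show m = 2 ∨ m = 3 ∨ m = 4 ∨ m = 5 ∨ m = 6 by omega) with rfl | rfl | rfl | rfl | rfl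
    · left
      rw [hfac]; change b * 4 ≤ _; omega
    · exfalso
      obtain ⟨h, rfl, rfl⟩ : ∃ h, f = 3 * h ∧ b = 4 * h := ⟨b - f, by omega, by omega⟩
      have hh : 0 < h := by omega
      exact H.k1 16 4 3 4 16 hh rfl rfl (by omega) (by omega) (by decide)
        (Or.inl ⟨by norm_num, (K_psp (by norm_num)).2 (by norm_num)⟩) (by decide) (by omega)
    · right
      obtain rfl : b = f := by omega
      obtain rfl : u = p ^ b := hu
      exact Or.inr (Or.inr (Or.inl rfl))
    · exfalso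
      obtain ⟨h, rfl, rfl⟩ : ∃ h, f = 5 * h ∧ b = 4 * h := ⟨f - b, by omega, by omega⟩
      have hh : 0 < h := by omega
      exact H.k1 32 4 5 8 32 hh rfl rfl (by omega) (by omega) (by decide)
        (Or.inl ⟨by norm_num, (K_psp (by norm_num)).2 (by norm_num)⟩) (by decide) (by omega)
    · exfalso
      obtain ⟨h, rfl, rfl⟩ : ∃ h, f = 3 * h ∧ b = 2 * h := ⟨f - b, by omega, by omega⟩
      have hh : 0 < h := by omega
      exact H.k1 20 2 3 10 20 hh rfl rfl (by omega) (by omega) (by decide)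
        (Or.inl ⟨by norm_num, (K_psp (by norm_num)).2 (by norm_num)⟩) (by decide) (by omega)
  · -- PΩ odd
    have h4 : 2 * m * b = 8 * f := ht
    have hm2 : 3 ≤ m := H.S.cond.1
    rcases (show m = 3 ∨ m = 4 ∨ m = 5 ∨ m = 6 by omega) with rfl | rfl | rfl | rfl
    · exfalso
      obtain ⟨h, rfl, rfl⟩ : ∃ h, f = 3 * h ∧ b = 4 * h := ⟨b - f, by omega, by omega⟩
      have hh : 0 < h := by omega
      exact H.k1 16 4 3 4 16 hh rfl rfl (by omega) (by omega) (by decide)
        (Or.inl ⟨by norm_num, (K_oodd (by norm_num)).2 (by norm_num)⟩) (by decide) (by omega)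
    · right
      obtain rfl : b = f := by omega
      obtain rfl : u = p ^ b := hu
      exact Or.inr (Or.inr (Or.inr rfl))
    · exfalso
      obtain ⟨h, rfl, rfl⟩ : ∃ h, f = 5 * h ∧ b = 4 * h := ⟨f - b, by omega, by omega⟩
      have hh : 0 < h := by omega
      exact H.k1 32 4 5 8 32 hh rfl rfl (by omega) (by omega) (by decide)
        (Or.inl ⟨by norm_num, (K_oodd (by norm_num)).2 (by norm_num)⟩) (by decide) (by omega)
    · exfalso
      obtain ⟨h, rfl, rfl⟩ : ∃ h, f = 3 * h ∧ b = 2 * h := ⟨f - b, by omega, by omega⟩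
      have hh : 0 < h := by omega
      exact H.k1 20 2 3 10 20 hh rfl rfl (by omega) (by omega) (by decide)
        (Or.inl ⟨by norm_num, (K_oodd (by norm_num)).2 (by norm_num)⟩) (by decide) (by omega)
  · -- PSU
    have h4 : 2 * (n - (1 - n % 2)) * b = 8 * f := ht
    have hn2 : 3 ≤ n := H.S.cond.1
    by_cases hn3 : n = 3
    · subst hn3
      left
      replace h4 : 6 * b = 8 * f := h4
      rw [hfac]; change b * 3 ≤ _; omega
    · exfalso
      set n' := n - (1 - n % 2) with hn'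
      have hodd : n' % 2 = 1 := by omega
      have h5 : n' * b = 4 * f := by
        apply Nat.eq_of_mul_eq_mul_left (show 0 < 2 by norm_num)
        calc 2 * (n' * b) = 2 * n' * b := by ring
          _ = 8 * f := h4
          _ = _ := by ring
      have hc : Nat.Coprime 4 n' := by
        have h6 : Nat.Coprime 2 n' := by rw [Nat.coprime_two_left, Nat.odd_iff]; exact hodd
        exact Nat.Coprime.mul_left h6 h6
      obtain ⟨h, rfl⟩ := hc.dvd_of_dvd_mul_left (Dvd.intro _ h5.symm)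
      have hh : 0 < h := by omega
      have h6 : f = n' * h := by
        apply Nat.eq_of_mul_eq_mul_left (show 0 < 4 by norm_num)
        rw [← h5]; ring
      have hc16 : Nat.Coprime 16 n' := Nat.Coprime.mul_left hc hc
      exact H.k1 16 4 n' 4 16 hh h6 rfl (by omega) (by omega) (by decide)
        (Or.inl ⟨by norm_num, (K_psu (by norm_num)).2 (by right; left; exact ⟨by norm_num, by omega⟩)⟩)
        (by rw [hc16]) (by omega)
  · -- PΩ⁺
    exfalso
    have h4 : 2 * (m - 1) * b = 8 * f := ht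
    have hm2 : 4 ≤ m := H.S.cond.1
    rcases (show m = 4 ∨ m = 5 ∨ m = 6 by omega) with rfl | rfl | rfl
    · replace h4 : 6 * b = 8 * f := h4
      obtain ⟨h, rfl, rfl⟩ : ∃ h, f = 3 * h ∧ b = 4 * h := ⟨b - f, by omega, by omega⟩
      have hh : 0 < h := by omega
      exact H.k1 16 4 3 4 16 hh rfl rfl (by omega) (by omega) (by decide)
        (Or.inl ⟨by norm_num, (K_oplus (by norm_num) (by norm_num)).2 (by norm_num)⟩) (by decide) (by omega)
    · replace h4 : 8 * b = 8 * f := h4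
      exact H.k1 5 1 1 5 5 hf (by omega) (by omega) (by omega) (by omega) (by decide)
        (Or.inl ⟨by norm_num, (K_oplus (by norm_num) (by norm_num)).2 (by norm_num)⟩) (by decide) (by omega)
    · replace h4 : 10 * b = 8 * f := h4
      obtain ⟨h, rfl, rfl⟩ : ∃ h, f = 5 * h ∧ b = 4 * h := ⟨f - b, by omega, by omega⟩
      have hh : 0 < h := by omega
      exact H.k1 32 4 5 8 32 hh rfl rfl (by omega) (by omega) (by decide)
        (Or.inl ⟨by norm_num, (K_oplus (by norm_num) (by norm_num)).2 (by norm_num)⟩) (by decide) (by omega)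
  · -- PΩ⁻
    have h4 : 2 * m * b = 8 * f := ht
    have hm2 : 4 ≤ m := H.S.cond.1
    rcases (show m = 4 ∨ m = 5 ∨ m = 6 ∨ m = 7 by omega) with rfl | rfl | rfl | rfl
    · right
      obtain rfl : b = f := by omega
      obtain rfl : u = p ^ b := hu
      exact Or.inr (Or.inl rfl)
    · exfalso
      obtain ⟨h, rfl, rfl⟩ : ∃ h, f = 5 * h ∧ b = 4 * h := ⟨f - b, by omega, by omega⟩
      have hh : 0 < h := by omega
      exact H.k1 32 4 5 8 32 hh rfl rfl (by omega) (by omega) (by decide)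
        (Or.inl ⟨by norm_num, (K_ominus (by norm_num) (by norm_num)).2 (by norm_num)⟩) (by decide) (by omega)
    · exfalso
      obtain ⟨h, rfl, rfl⟩ : ∃ h, f = 3 * h ∧ b = 2 * h := ⟨f - b, by omega, by omega⟩
      have hh : 0 < h := by omega
      exact H.k1 20 2 3 10 20 hh rfl rfl (by omega) (by omega) (by decide)
        (Or.inl ⟨by norm_num, (K_ominus (by norm_num) (by norm_num)).2 (by norm_num)⟩) (by decide) (by omega)
    · exfalso
      obtain ⟨h, rfl, rfl⟩ : ∃ h, f = 7 * h ∧ b = 4 * h := ⟨2 * b - f, by omega, by omega⟩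
      have hh : 0 < h := by omega
      exact H.k1 48 4 7 12 48 hh rfl rfl (by omega) (by omega) (by decide)
        (Or.inl ⟨by norm_num, (K_ominus (by norm_num) (by norm_num)).2 (by norm_num)⟩) (by decide) (by omega)
  · -- G₂
    left
    have h4 : 6 * b = 8 * f := ht
    rw [hfac]; change b * 6 ≤ _; omega
  · -- F₄
    exfalso
    have h4 : 12 * b = 8 * f := ht
    obtain ⟨h, rfl, rfl⟩ : ∃ h, f = 3 * h ∧ b = 2 * h := ⟨f - b, by omega, by omega⟩
    have hh : 0 < h := by omega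
    exact H.k1 16 2 3 8 16 hh rfl rfl (by omega) (by omega) (by decide) K8 (by decide) (by omega)
  · -- E₆
    exfalso
    have h4 : 12 * b = 8 * f := ht
    obtain ⟨h, rfl, rfl⟩ : ∃ h, f = 3 * h ∧ b = 2 * h := ⟨f - b, by omega, by omega⟩
    have hh : 0 < h := by omega
    exact H.k1 10 2 3 5 10 hh rfl rfl (by omega) (by omega) (by decide)
      (Or.inl ⟨by norm_num, Or.inr (Or.inl dvd_rfl)⟩) (by decide) (by omega)
  · -- ²E₆
    exfalso
    have h4 : 18 * b = 8 * f := ht
    obtain ⟨h, rfl, rfl⟩ : ∃ h, f = 9 * h ∧ b = 4 * h := ⟨f - 2 * b, by omega, by omega⟩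
    have hh : 0 < h := by omega
    exact H.k1 32 4 9 8 32 hh rfl rfl (by omega) (by omega) (by decide)
      (Or.inl ⟨by norm_num, Or.inr (Or.inr (Or.inr (Or.inl dvd_rfl)))⟩) (by decide) (by omega)
  · -- ³D₄
    left
    have h4 : 12 * b = 8 * f := ht
    rw [hfac]; change b * 12 ≤ _; omega
  · -- Sz
    left
    have h4 : 4 * b = 8 * f := ht
    rw [hfac]; change b * 2 ≤ _; omega
  · -- Ree
    left
    have h4 : 6 * b = 8 * f := ht
    rw [hfac]; change b * 3 ≤ _; omega
  · -- ²F₄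
    left
    have h4 : 12 * b = 8 * f := ht
    rw [hfac]; change b * 12 ≤ _; omega

end Cfsg.Agent.SM.Ex.Id
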