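import Cfsg.Agent.SM.Ex.IdA
import Cfsg.Agent.SM.Ex.IdN
import Cfsg.Agent.SM.Ex.IdC
import Cfsg.Agent.H946.RgF4.Sec
import Cfsg.Agent.H946.KZ.SameF4
import Cfsg.Agent.H290.Wei.TopElt
import Cfsg.Agent.H130.F4Graph
import Cfsg.Agent.H437.Iso.Untw
import Cfsg.Agent.H73.Rg.PP

/-!
# S3570, `S = F₄(q)`: the names of the sections of the factors, `q ≥ 3` (helper93)

* `sct_F` : the section of a subgroup containing a prime of class 12 or 8;
* `nameX` : class 12 and a large `p`-part: `³D₄(q)` or `²F₄(q)`;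
* `nameY` : class 8: a small `p`-part, or `Ω₈⁻(q)`, `PSp₈(q)`, `Ω₉(q)`.
-/

set_option autoImplicit false

namespace Cfsg.Agent.SM.Ex.Id

open Cfsg Cfsg.Lie Cfsg.Agent.OrdDiv Cfsg.Agent.H436 Cfsg.Agent.H915.GN Cfsg.Agent.H264.FKS
open Cfsg.Agent.H902 Cfsg.Agent.H56.Exc Cfsg.Agent.H563.KG Cfsg.Agent.H946.Exc Cfsg.Agent.H325.Loc
open Cfsg.Agent.H425.PartP Cfsg.Agent.H425.Chr Cfsg.Agent.H946.KZ Cfsg.Agent.H946.RgF4

/-- the primes of the classes 12 and 8 dividing `n` -/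
def Bf (q n r m e : ℕ) : Prop := (e = 12 ∨ e = 8) ∧ Prim q e r ∧ r ∣ n ∧ m = Ph e q

theorem cls_of {c : ℕ} (hc : c = 12 ∨ c = 8) : Cls c := by
  unfold Cls
  omega

variable {p f : ℕ}

theorem two_le (hp : p.Prime) (hf : 1 ≤ f) : 2 ≤ p ^ f := hp.two_le.trans (Nat.le_self_pow (by omega) p)

theorem not_dvd_Ph (hp : p.Prime) (hf : 1 ≤ f) {c : ℕ} (hc : c = 12 ∨ c = 8) : ¬ p ∣ Ph c (p ^ f) := by
  have hq1 : 1 ≤ p ^ f := Nat.one_le_pow _ _ hp.pos
  intro h
  have h1 := h.trans (Ph_dvd (cls_of hc) hq1)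
  have h2 : p ∣ (p ^ f) ^ c := by
    rw [← pow_mul]
    exact dvd_pow_self p (by
      have : 0 < f * c := Nat.mul_pos hf (by omega)
      omega)
  have h3 : 1 ≤ (p ^ f) ^ c := Nat.one_le_pow _ _ hq1
  have h4 := Nat.dvd_sub h2 h1
  rw [Nat.sub_sub_self h3] at h4
  exact hp.one_lt.ne' (Nat.dvd_one.1 h4)

/-- a prime of class `e`, `3 ≤ e ≤ 6`, does not divide `c * Ph c q` -/
theorem not_dvd_cPh {q c e u : ℕ} (hq : 2 ≤ q) (hc : c = 12 ∨ c = 8) (he : 3 ≤ e) (he6 : e ≤ 6) (hu : Prim q e u) :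
    ¬ u ∣ c * Ph c q := by
  have h5 : e < u := H563.KG.lt_of_prim hq (by omega) hu
  have h1 : ¬ u ∣ 24 := by
    intro h
    have h2 : u ∣ 2 ^ 3 * 3 := h
    rcases hu.prime.dvd_mul.1 h2 with h3 | h3
    · have := Nat.le_of_dvd (by norm_num) (hu.prime.dvd_of_dvd_pow h3)
      omega
    · have := Nat.le_of_dvd (by norm_num) h3
      omega
  intro h
  rcases hu.prime.dvd_mul.1 h with h2 | h2
  · exact h1 (h2.trans (by rcases hc with rfl | rfl <;> norm_num))
  · rw [← ncl_mul c q] at h2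
    rcases hu.prime.dvd_mul.1 h2 with h3 | h3
    · have := hu.unique (prim_of_dvd (cls_of hc) (by omega) hu.prime h3)
      omega
    · exact h1 ((h3.trans (Nat.gcd_dvd_left _ _)).trans (by rcases hc with rfl | rfl <;> decide))

theorem not_dvd_Ph' {q c e u : ℕ} (hq : 2 ≤ q) (hc : c = 12 ∨ c = 8) (he : 3 ≤ e) (he6 : e ≤ 6) (hu : Prim q e u) :
    ¬ u ∣ Ph c q := fun h => not_dvd_cPh hq hc he he6 hu (h.mul_left _)

section

variable {F : Type} [Field F] [Fintype F] [CharP F p]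

theorem sct_F (hp : p.Prime) (hf : 1 ≤ f) (hq : Fintype.card F = p ^ f) (Z : Subgroup ↥(chevF4.group F)) {c r : ℕ}
    (hc : c = 12 ∨ c = 8) (hr : Prim (p ^ f) c r) (hrZ : r ∣ Nat.card Z) :
    (Nat.card Z).factorization p ≤ 3 ∨ ∃ (W : Type) (_ : Group W) (_ : Finite W) (π : Z →* W) (S : Subgroup W),
      Sct p (Bf (p ^ f) (Nat.card Z)) π S := by
  have := Fact.mk hp
  have hfin : Finite ↥(chevF4.group F) := inferInstance
  by_cases h4 : p ^ 4 ∣ Nat.card Z
  · right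
    have hpiso : PIso p r ↥(chevF4.group F) :=
      Cfsg.Agent.H325.IsoExc.piso_F4 (F := F) (d := c) (by omega) (by rw [hq]; exact hr)
    refine exists_sct hp ?_ ?_ (r₁ := r) (m₁ := Ph c (p ^ f)) (e₁ := c) ⟨hc, hr, hrZ, rfl⟩
      (BT.subgroup hpiso Z) ?_ h4 ?_
    · rintro r m e ⟨he, hr, -, rfl⟩
      exact (bigF4 hq he hr).subgroup Z
    · rintro r m e ⟨-, -, h, -⟩
      exact h
    · rintro r m e ⟨he, -, -, rfl⟩
      exact not_dvd_Ph hp hf he
    · rintro r m e ⟨he, -, -, -⟩ h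
      have h1 := Nat.le_of_dvd (by omega) h
      have h2 : 2 ^ 4 ≤ p ^ 4 := Nat.pow_le_pow_left hp.two_le 4
      omega
  · exact Or.inl (fac_le h4)

variable {Z : Subgroup ↥(chevF4.group F)} {W : Type} [Group W] [Finite W] {π : Z →* W} {S : Subgroup W}

omit [CharP F p] in
theorem Sct.fac (h : Sct p (Bf (p ^ f) (Nat.card Z)) π S) (hp : p.Prime) :
    (Nat.card Z).factorization p = (Nat.card S).factorization p + S.index.factorization p := by
  have hfin : Finite ↥(chevF4.group F) := inferInstance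
  have h1 : Nat.card S ≠ 0 := Nat.card_pos.ne'
  have h2 : S.index ≠ 0 := Subgroup.index_ne_zero_of_finite
  have h3 : Nat.card π.ker ≠ 0 := Nat.card_pos.ne'
  rw [h.card, fac_mul h1 (mul_ne_zero h2 h3), fac_mul h2 h3, Nat.factorization_eq_zero_of_not_dvd h.pk, add_zero]

omit [CharP F p] in
theorem Sct.fac_idx (h : Sct p (Bf (p ^ f) (Nat.card Z)) π S) (hp : p.Prime) (hf : 1 ≤ f) {c r : ℕ}
    (hc : c = 12 ∨ c = 8) (hr : Prim (p ^ f) c r) (hrZ : r ∣ Nat.card Z) : S.index.factorization p ≤ sc p c := by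
  have h1 := (h.idx (r := r) ⟨hc, hr, hrZ, rfl⟩).1
  refine le_sc hp hc ?_
  exact (Nat.Coprime.pow_left _ ((Nat.Prime.coprime_iff_not_dvd hp).2 (not_dvd_Ph hp hf hc))).dvd_of_dvd_mul_right
    ((Nat.ordProj_dvd _ p).trans h1)

omit [CharP F p] [Finite W] in
theorem Sct.dvd_num (h : Sct p (Bf (p ^ f) (Nat.card Z)) π S) (hq : Fintype.card F = p ^ f) :
    Nat.card S ∣ num (.f4 (p ^ f)) := by
  have hT := named_f4 (F := F) table
  rw [hq] at hT
  exact (h.card_dvd.trans (Subgroup.card_subgroup_dvd_card Z)).trans (by rw [← hT.eq]; exact Dvd.intro_left _ rfl)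

/-- a small `p`-part, or characteristic `p` -/
theorem Sct.named (h : Sct p (Bf (p ^ f) (Nat.card Z)) π S) (hcf : CF) (hp : p.Prime) (hf : 1 ≤ f)
    (hq : Fintype.card F = p ^ f) (h3 : 3 ≤ p ^ f) {c r : ℕ} (hc : c = 12 ∨ c = 8) (hr : Prim p (c * f) r)
    (hrZ : r ∣ Nat.card Z) :
    (Nat.card S).factorization p + sl p < 8 * f ∨ ∃ g b, IsNamed g S ∧ HasChar p g ∧
      TS p f b (Nat.card S) (Nat.card ↥(chevF4.group F)) g := by
  have hrq := prim_base hf hr
  have hB : Bf (p ^ f) (Nat.card Z) r (Ph c (p ^ f)) c := ⟨hc, hrq, hrZ, rfl⟩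
  have hrS := h.dvd _ _ _ hB
  have hd := h.dvd_num hq
  have key : (Nat.card S).factorization p + sl p < 8 * f ∨ ∃ g, IsNamed g S ∧ HasChar p g := by
    have hn := dvd_ncl (cls_of hc) (by omega) hrq
    by_cases h5 : 5 ≤ p ^ f
    · have := h.sim
      obtain ⟨g, hg⟩ := exists_named table (hcf S) fun h1 => h.na ⟨⟨h1⟩⟩
      have hcf1 : 8 ≤ c * f := by
        calc 8 = 8 * 1 := by norm_num
          _ ≤ c * f := Nat.mul_le_mul (by omega) hf
      rcases cross_small (ν := 0) hg hp hf h5 (by rw [pow_zero]; exact one_dvd _) hd hc (mod_pred hp (by omega) hr)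
        (by have := base_lt hp (by omega) hr; omega) ((h.big _ _ _ hB).subgroup S) hrS with h1 | h1
      · exact Or.inr ⟨g, hg, h1⟩
      · exact Or.inl (by omega)
    · rcases (show p ^ f = 3 ∨ p ^ f = 4 by omega) with h6 | h6
      · obtain ⟨rfl, rfl⟩ := (Nat.Prime.pow_eq_iff Nat.prime_three).1 h6
        rw [h6] at hn hd
        by_cases h7 : 3 ^ 7 ∣ Nat.card S
        · refine Or.inr (cross3 hcf h.sim h.na hd h7 ?_)
          rcases hc with rfl | rfl
          · left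
            rwa [(Nat.prime_dvd_prime_iff_eq hr.prime (by norm_num)).1 (show r ∣ 73 from hn)] at hrS
          · right
            rwa [(Nat.prime_dvd_prime_iff_eq hr.prime (by norm_num)).1 (show r ∣ 41 from hn)] at hrS
        · left
          have := fac_le h7
          show _ + 1 < _
          omega
      · obtain rfl : p = 2 := (Nat.prime_dvd_prime_iff_eq hp Nat.prime_two).1
          (hp.dvd_of_dvd_pow (n := 2) (show p ∣ 4 by rw [← h6]; exact dvd_pow_self p (by omega)))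
        obtain rfl : f = 2 := Nat.pow_right_injective le_rfl (show 2 ^ f = 2 ^ 2 from h6)
        rw [h6] at hn hd
        by_cases h7 : 2 ^ 11 ∣ Nat.card S
        · refine Or.inr (cross4 hcf h.sim h.na hd h7 ?_)
          rcases hc with rfl | rfl
          · left
            rwa [(Nat.prime_dvd_prime_iff_eq hr.prime (by norm_num)).1 (show r ∣ 241 from hn)] at hrS
          · right
            rwa [(Nat.prime_dvd_prime_iff_eq hr.prime (by norm_num)).1 (show r ∣ 257 from hn)] at hrS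
        · left
          have := fac_le h7
          show _ + 5 < _
          omega
  rcases key with h1 | ⟨g, hg, hch⟩
  · exact Or.inl h1
  · obtain ⟨b, hb⟩ := ts_of (F := F) table hp hf hq Z hg hch h.card
    exact Or.inr ⟨g, b, hg, hch, hb⟩

omit [CharP F p] in
/-- a section in characteristic `p` does not have both classes -/
theorem Sct.not_both (h : Sct p (Bf (p ^ f) (Nat.card Z)) π S) (hp : p.Prime) (hf : 1 ≤ f)
    (hq : Fintype.card F = p ^ f) (hZ : Z ≠ ⊤) {g : Grp} {b : ℕ} (hg : IsNamed g S) (hch : HasChar p g)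
    (H : TS p f b (Nat.card S) (Nat.card ↥(chevF4.group F)) g) {r s : ℕ} (hr : Prim p (12 * f) r)
    (hrS : r ∣ Nat.card S) (hs : Prim p (8 * f) s) (hsS : s ∣ Nat.card S) : False := by
  have hfin : Finite ↥(chevF4.group F) := inferInstance
  have hq2 := two_le hp hf
  rcases charp_f4z hp hf hg.cond hch hg.eq (h.dvd_num hq)
    (fun w hw => H.all (by omega) hs hsS (by rwa [mul_comm]))
    (fun w hw => H.all (by omega) hr hrS (by rwa [mul_comm])) with rfl | rfl
  · have hT := named_f4 (F := F) table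
    rw [hq] at hT
    have h2 := h.card_dvd
    rw [hg.ord, ← hT.ord] at h2
    exact hZ (Subgroup.eq_top_of_card_eq _ (Nat.dvd_antisymm (Subgroup.card_subgroup_dvd_card Z) h2))
  · have hrq := prim_base hf hr
    obtain ⟨u, hu⟩ := exists_prim (q := p ^ f) (e := 3) hq2 le_rfl (by omega)
    exact not_dvd_Ph' hq2 (Or.inl rfl) le_rfl (by norm_num) hu
      (H290.Wei.kill_psl hrq hu (by norm_num) ((h.big _ _ _ ⟨Or.inl rfl, hrq, hrS.trans h.card_dvd, rfl⟩).subgroup S) hg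
        (j := 12) (by ring) dvd_rfl (by norm_num) (a := 1) (b := 4) (by ring) (by norm_num) (by norm_num))

omit [CharP F p] [Finite W] in
/-- `G₂(q²)` is not a section of `F₄(q)`, `q ≥ 3` -/
theorem Sct.not_g2 {B : ℕ → ℕ → ℕ → Prop} (h : Sct p B π S) (hq : Fintype.card F = p ^ f) (h3 : 3 ≤ p ^ f)
    (hg : Real (.g2 (p ^ (f * 2))) S) : False := by
  have hfin : Finite ↥(chevF4.group F) := inferInstance
  obtain ⟨K, _, _, hK, ⟨e⟩⟩ := hg
  rw [pow_mul] at hK
  generalize p ^ f = q at *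
  obtain ⟨x, hx⟩ := H437.Iso.g2_order3 (F := K)
  rw [Nat.card_eq_fintype_card, hK] at hx
  obtain ⟨u, hu⟩ := exists_prim (q := q) (e := 3) (by omega) le_rfl (by omega)
  obtain ⟨w, hw⟩ := exists_prim (q := q) (e := 6) (by omega) (by norm_num) (by omega)
  have h1 : q ^ 6 - 1 = (q ^ 2 - 1) * ((q ^ 2) ^ 2 + q ^ 2 + 1) := by
    have h2 : 1 ≤ q ^ 2 := Nat.one_le_pow _ _ (by omega)
    obtain ⟨k, hk⟩ := Nat.exists_eq_add_of_le' h2
    have h4 : q ^ 6 = (q ^ 2) ^ 3 := by ring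
    rw [h4, hk, Nat.add_sub_cancel]
    apply Nat.sub_eq_of_eq_add
    ring
  have h2 : ∀ {e v : ℕ}, Prim q e v → e ∣ 6 → ¬ e ∣ 2 → v ∣ (q ^ 2) ^ 2 + q ^ 2 + 1 := fun hv h6 h2 =>
    (hv.prime.dvd_mul.1 (h1 ▸ hv.dvd h6)).resolve_left (hv.not_dvd_sub h2)
  obtain ⟨z, hz⟩ := h.elt (e.symm x) (n := u * w) (by
    rw [MulEquiv.orderOf_eq, hx]
    exact H290.Wei.mul_dvd hu hw (by norm_num) (h2 hu (by norm_num) (by norm_num)) (h2 hw dvd_rfl (by norm_num)))
  have ou := H73.Rg.orderOf_of_prim (by omega) hu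
  have ow := H73.Rg.orderOf_of_prim (by omega) hw
  have h4 := (H130.F4Graph.odd_iff (F := F) hu.prime hw.prime (H290.Wei.prim_ne hu hw (by norm_num))
    (H290.Wei.prim_ne_two hu (by norm_num)) (H290.Wei.prim_ne_two hw (by norm_num)) (by rw [hq]; exact hu.not_dvd)
    (by rw [hq]; exact hw.not_dvd) (by rw [hq, ou]; decide) (by rw [hq, ow]; decide)).1
    ⟨(z : ↥(chevF4.group F)), by rw [Subgroup.orderOf_coe, hz]⟩
  rw [hq, ou, ow] at h4
  revert h4
  decide

/-- **class 12** -/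
theorem Sct.nameX (h : Sct p (Bf (p ^ f) (Nat.card Z)) π S) (hcf : CF) (hp : p.Prime) (hf : 1 ≤ f)
    (hq : Fintype.card F = p ^ f) (h3 : 3 ≤ p ^ f) (hZ : Z ≠ ⊤) {r : ℕ} (hr : Prim p (12 * f) r)
    (hrZ : r ∣ Nat.card Z) (hv : 8 * f ≤ (Nat.card Z).factorization p) :
    IsNamed (.td4 (p ^ f)) S ∨ IsNamed (.tf4 (p ^ f)) S := by
  have hrq := prim_base hf hr
  have hB : Bf (p ^ f) (Nat.card Z) r (Ph 12 (p ^ f)) 12 := ⟨Or.inl rfl, hrq, hrZ, rfl⟩
  have hrS := h.dvd _ _ _ hB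
  have h1 := h.fac hp
  have h2 := h.fac_idx hp hf (Or.inl rfl) hrq hrZ
  have h4 := sc_le p
  rcases h.named hcf hp hf hq h3 (Or.inl rfl) hr hrZ with h5 | ⟨g, b, hg, hch, H⟩
  · omega
  have h8 : ¬ Kc g (8 * f / Nat.gcd (8 * f) b) := by
    intro h8
    obtain ⟨s, hs⟩ := exists_prim (q := p) (e := 8 * f) hp.two_le (by omega) (by omega)
    exact h.not_both hp hf hq hZ hg hch H hr hrS hs ((H.S.dvd_iff (by omega) hs).2 h8)
  rcases name12 H (H.top12 hr hrS) h8 with h5 | rfl | rfl | rfl | rfl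
  · exfalso
    have h6 : sc p 12 < 2 * f := by
      unfold sc
      by_cases hp2 : p = 2
      · subst hp2
        have : f ≠ 1 := by rintro rfl; omega
        simp only [if_true]
        omega
      · rw [if_neg hp2]
        split_ifs <;> omega
    omega
  · exfalso
    obtain ⟨u, hu⟩ := exists_prim (q := p ^ f) (e := 4) (by omega) (by norm_num) (by omega)
    exact not_dvd_Ph' (by omega) (Or.inl rfl) (by norm_num) (by norm_num) hu
      (H290.Wei.kill_psp hrq hu (by norm_num) (by norm_num) (by norm_num) ((h.big _ _ _ hB).subgroup S) hg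
        (by norm_num) (j := 6) (by ring) (by norm_num) (by norm_num) (by norm_num) (by norm_num))
  · exact (h.not_g2 hq h3 hg.real).elim
  · exact Or.inl hg
  · exact Or.inr hg

/-- **class 8** -/
theorem Sct.nameY (h : Sct p (Bf (p ^ f) (Nat.card Z)) π S) (hcf : CF) (hp : p.Prime) (hf : 1 ≤ f)
    (hq : Fintype.card F = p ^ f) (h3 : 3 ≤ p ^ f) (hZ : Z ≠ ⊤) {s : ℕ} (hs : Prim p (8 * f) s)
    (hsZ : s ∣ Nat.card Z) :
    (Nat.card S).factorization p ≤ 8 * f ∨ IsNamed (.ominus 4 (p ^ f)) S ∨ IsNamed (.psp 4 (p ^ f)) S ∨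
      IsNamed (.oodd 4 (p ^ f)) S := by
  have hsq := prim_base hf hs
  have hB : Bf (p ^ f) (Nat.card Z) s (Ph 8 (p ^ f)) 8 := ⟨Or.inr rfl, hsq, hsZ, rfl⟩
  have hsS := h.dvd _ _ _ hB
  rcases h.named hcf hp hf hq h3 (Or.inr rfl) hs hsZ with h5 | ⟨g, b, hg, hch, H⟩
  · left
    omega
  rcases name8 H (H.top8 hs hsS fun w hw hwS => h.not_both hp hf hq hZ hg hch H hw hwS hs hsS)
    with h5 | rfl | rfl | rfl | rfl
  · exact Or.inl h5
  · exfalso
    obtain ⟨u, hu⟩ := exists_prim (q := p ^ f) (e := 4) (by omega) (by norm_num) (by omega)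
    exact not_dvd_Ph' (by omega) (Or.inr rfl) (by norm_num) (by norm_num) hu
      (H290.Wei.kill_psl hsq hu (by norm_num) ((h.big _ _ _ hB).subgroup S) hg
        (j := 8) (by ring) dvd_rfl (by norm_num) (a := 1) (b := 2) (by ring) (by norm_num) (by norm_num))
  · exact Or.inr (Or.inl hg)
  · exact Or.inr (Or.inr (Or.inl hg))
  · exact Or.inr (Or.inr (Or.inr hg))

end

end Cfsg.Agent.SM.Ex.Id
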