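import Cfsg.Agent.SM.Ex.IdB
import Cfsg.Agent.SM.Ex.FDefs2
import Cfsg.Agent.H394.Wei.Congr
import Cfsg.Agent.H83.TorD4
import Cfsg.Agent.H357.EP.V27
import Cfsg.Agent.S4280

/-!
# S3570, `S = F₄(q)`: the indices and the kernels of the sections (helper93)

* `idx_td4`, `idx_sp8` : the index of `³D₄(q)` divides three, that of `Sp₈(q)`, `q` even, is one;
* `boxNrm : BoxNrm`;
* `Sct.ker12`, `Sct.ker8` : the kernel is trivial, or the subgroup centralises an involution.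
-/

set_option autoImplicit false

namespace Cfsg.Agent.SM.Ex.Id

open Cfsg Cfsg.Lie Cfsg.Agent.OrdDiv Cfsg.Agent.H436 Cfsg.Agent.H915.GN Cfsg.Agent.H264.FKS Subgroup
open Cfsg.Agent.H902 Cfsg.Agent.H56.Exc Cfsg.Agent.H563.KG Cfsg.Agent.H946.Exc Cfsg.Agent.H325.Loc
open Cfsg.Agent.H425.PartP Cfsg.Agent.H425.Chr Cfsg.Agent.H946.KZ Cfsg.Agent.H946.RgF4

theorem cast_sub {R : Type*} [Ring R] {q : ℕ} (hq : 1 ≤ q) (k : ℕ) : ((q ^ k - 1 : ℕ) : R) = (q : R) ^ k - 1 := by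
  rw [Nat.cast_sub (Nat.one_le_pow _ _ hq), Nat.cast_pow, Nat.cast_one]

theorem ph12_mul {q : ℕ} (hq : 1 ≤ q) : q ^ 8 + q ^ 4 + 1 = Ph 12 q * (q ^ 4 + q ^ 2 + 1) := by
  apply Nat.cast_injective (R := ℤ)
  push_cast
  rw [cast_Ph12 ℤ hq]
  ring

theorem ph12_mul' {q : ℕ} (hq : 1 ≤ q) : q ^ 6 + 1 = Ph 12 q * (q ^ 2 + 1) := by
  apply Nat.cast_injective (R := ℤ)
  push_cast
  rw [cast_Ph12 ℤ hq]
  ring

theorem ph8_mul {q : ℕ} (hq : 1 ≤ q) : q ^ 8 - 1 = Ph 8 q * (q ^ 4 - 1) := by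
  apply Nat.cast_injective (R := ℤ)
  rw [Nat.cast_mul, cast_sub hq, cast_sub hq, cast_Ph8 ℤ]
  ring

theorem card_td4 {S : Type*} [Group S] {q : ℕ} (hg : IsNamed (.td4 q) S) :
    Nat.card S = q ^ 12 * ((q ^ 2 - 1) * (q ^ 6 - 1) * (q ^ 8 + q ^ 4 + 1)) := (one_mul _).symm.trans hg.eq

theorem card_tf4 {S : Type*} [Group S] {q : ℕ} (hg : IsNamed (.tf4 q) S) :
    Nat.card S = q ^ 12 * ((q - 1) * (q ^ 3 + 1) * (q ^ 4 - 1) * (q ^ 6 + 1)) := (one_mul _).symm.trans hg.eq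

theorem card_psp {S : Type*} [Group S] {q : ℕ} (hg : IsNamed (.psp 4 q) S) : Nat.gcd 2 (q - 1) * Nat.card S =
    q ^ 16 * ((q ^ 2 - 1) * (q ^ 4 - 1) * (q ^ 6 - 1) * (q ^ 8 - 1)) := by
  rw [← prB_four]
  exact hg.eq

theorem card_oodd {S : Type*} [Group S] {q : ℕ} (hg : IsNamed (.oodd 4 q) S) : 2 * Nat.card S =
    q ^ 16 * ((q ^ 2 - 1) * (q ^ 4 - 1) * (q ^ 6 - 1) * (q ^ 8 - 1)) := by
  rw [← prB_four]
  exact hg.eq

theorem card_om {S : Type*} [Group S] {q : ℕ} (hg : IsNamed (.ominus 4 q) S) : Nat.gcd 4 (q ^ 4 + 1) * Nat.card S =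
    q ^ 12 * ((q ^ 4 + 1) * ((q ^ 2 - 1) * (q ^ 4 - 1) * (q ^ 6 - 1))) := by
  rw [← prB_three]
  exact hg.eq

theorem card_sp8 {S : Type*} [Group S] {q : ℕ} (hg : IsNamed (.psp 4 q) S) (hq : 1 ≤ q) (h2 : 2 ∣ q) : Nat.card S =
    q ^ 16 * ((q ^ 2 - 1) * (q ^ 4 - 1) * (q ^ 6 - 1) * (q ^ 8 - 1)) := by
  have h1 : Nat.gcd 2 (q - 1) = 1 := (Nat.coprime_two_left).2 (Nat.odd_iff.2 (by omega))
  rw [← card_psp hg, h1, one_mul]

theorem mod_of_cast {R r a : ℕ} (ha : a < r) (h : (R : ZMod r) = (a : ℕ)) : R % r = a := by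
  have h1 := (ZMod.natCast_eq_natCast_iff R a r).1 h
  unfold Nat.ModEq at h1
  rw [h1, Nat.mod_eq_of_lt ha]

section

variable {W : Type*} [Group W] [Finite W] {S : Subgroup W} {q r : ℕ}

/-- **The index of `³D₄(q)`.** -/
theorem idx_td4 [S.Normal] (hb : Big W r (Ph 12 q) 12) (hr : Prim q 12 r) (hg : IsNamed (.td4 q) S) :
    S.index ∣ 3 := by
  have hqp : IsPrimePow q := hg.cond
  have hq2 : 2 ≤ q := hqp.two_le
  have hq1 : 1 ≤ q := by omega
  obtain ⟨K, _, _, hK, ⟨e⟩⟩ := hg.real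
  obtain ⟨p, hp⟩ := CharP.exists K
  have := Fact.mk (CharP.char_is_prime K p)
  obtain ⟨x, hx, -⟩ := H83.TorD4.exists_x0 hqp hK p
  have h13 : 12 < r := H563.KG.lt_of_prim hq2 (by norm_num) hr
  have hd := dvd_Ph (cls_of (Or.inl rfl)) hq1 hr
  have h1 := idx_of_mod hb S (e.symm x) (by rw [MulEquiv.orderOf_eq, hx]; rfl) hd (by norm_num) h13
    (R := q ^ 12 * ((q ^ 2 - 1) * (q ^ 6 - 1) * (q ^ 4 + q ^ 2 + 1))) (a := 4)
    (by rw [card_td4 hg, ph12_mul hq1]; ring) (mod_of_cast (by omega) (by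
      have h := zmod_of_dvd _ hd
      rw [cast_Ph12 _ hq1] at h
      rw [Nat.cast_mul, Nat.cast_mul, Nat.cast_mul, cast_sub hq1, cast_sub hq1]
      push_cast
      generalize (q : ZMod r) = x at h
      have h6 : x ^ 6 = -1 := by linear_combination (x ^ 2 + 1) * h
      have h12 : x ^ 12 = 1 := by linear_combination (x ^ 6 - 1) * h6
      rw [h12, h6]
      linear_combination (-2) * h6))
  exact Nat.dvd_of_mul_dvd_mul_right (show 0 < 4 by norm_num) h1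

/-- **The index of `Sp₈(q)`, `q` even.** -/
theorem idx_sp8 [S.Normal] (hb : Big W r (Ph 8 q) 8) (hr : Prim q 8 r) (hg : IsNamed (.psp 4 q) S) (h2 : 2 ∣ q) :
    S.index = 1 := by
  have hqp : IsPrimePow q := hg.cond.2.2
  have hq2 : 2 ≤ q := hqp.two_le
  have hq1 : 1 ≤ q := by omega
  have ho : Odd (q ^ 4 + 1) := ((even_iff_two_dvd.2 h2).pow_of_ne_zero (by norm_num)).add_one
  obtain ⟨x, hx⟩ := H290.Wei.elt_psp hg (by norm_num) ho dvd_rfl
  have h9 : 8 < r := H563.KG.lt_of_prim hq2 (by norm_num) hr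
  have hd := dvd_Ph (cls_of (Or.inr rfl)) hq1 hr
  have h1 := idx_of_mod hb S x hx hd (by norm_num) h9
    (R := q ^ 16 * ((q ^ 2 - 1) * (q ^ 4 - 1) * (q ^ 6 - 1) * (q ^ 4 - 1))) (a := 8)
    (by rw [card_sp8 hg hq1 h2, ph8_mul hq1]; ring) (mod_of_cast h9 (by
      have h := zmod_of_dvd _ hd
      rw [cast_Ph8] at h
      rw [Nat.cast_mul, Nat.cast_mul, Nat.cast_mul, Nat.cast_mul, cast_sub hq1, cast_sub hq1, cast_sub hq1]
      push_cast
      generalize (q : ZMod r) = x at h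
      have h4 : x ^ 4 = -1 := by linear_combination h
      have h6 : x ^ 6 = -x ^ 2 := by linear_combination x ^ 2 * h
      have h16 : x ^ 16 = 1 := by linear_combination (x ^ 12 - x ^ 8 + x ^ 4 - 1) * h
      rw [h16, h6, h4]
      linear_combination (-4) * h4))
  exact Nat.dvd_one.1 (Nat.dvd_of_mul_dvd_mul_right (show 0 < 8 by norm_num) h1)

end

theorem named_td4 {S : Type*} [Group S] {q : ℕ} (hq : IsPrimePow q) (h : Real (.td4 q) S) : IsNamed (.td4 q) S := by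
  refine .mk' h hq ?_
  obtain ⟨K, _, _, hK, ⟨e⟩⟩ := h
  rw [Nat.card_congr e.toEquiv]
  change 1 * _ = _ ^ 12 * _
  rw [table.{0}.td4 K q hq hK]
  ring

/-- **The normaliser of `³D₄(q)` in `F₄(q)`.** -/
theorem boxNrm : BoxNrm := by
  intro F _ _ D hD
  have hfin : Finite ↥(chevF4.group F) := inferInstance
  have hq : IsPrimePow (Fintype.card F) := Fintype.isPrimePow_card_of_field
  obtain ⟨r, hr⟩ := exists_prim (q := Fintype.card F) (e := 12) hq.two_le (by norm_num) (by omega)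
  have e := subgroupOfEquivOfLe (le_normalizer : D ≤ normalizer (D : Set ↥(chevF4.group F)))
  have h1 := idx_td4 (S := D.subgroupOf (normalizer (D : Set ↥(chevF4.group F))))
    ((bigF4 rfl (Or.inl rfl) hr).subgroup _) hr (H394.Wei.named_congr (named_td4 hq hD) e)
  rw [← Subgroup.card_mul_index (D.subgroupOf (normalizer (D : Set ↥(chevF4.group F)))), Nat.card_congr e.toEquiv,
    mul_comm]
  exact Nat.mul_dvd_mul_right h1 _

section

variable {p f : ℕ} {F : Type} [Field F] [Fintype F] [CharP F p]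
variable {Z : Subgroup ↥(chevF4.group F)} {W : Type} [Group W] {π : Z →* W} {S : Subgroup W}

theorem chk41 : ∀ x ∈ l3, x.1 ≠ 2 → x.1 ≠ 3 → ∀ k ∈ List.range (x.2 + 1), 0 < k → ¬ 41 ∣ x.1 ^ k - 1 := by decide

/-- the kernel, or a prime of the torus which is not primitive -/
theorem Sct.ker_cases (h : Sct p (Bf (p ^ f) (Nat.card Z)) π S) (hp : p.Prime) (hf : 1 ≤ f)
    (hq : Fintype.card F = p ^ f) {c r : ℕ} (hc : c = 12 ∨ c = 8) (hr : Prim (p ^ f) c r)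
    (hn : ncl c (p ^ f) ∣ Nat.card Z) (hbig : 52 < ncl c (p ^ f) ∨ (p ^ f = 3 ∧ c = 8)) :
    π.ker = ⊥ ∨ (c = 8 ∧ Odd (p ^ f) ∧ ∃ A : Subgroup Z, A.Normal ∧ A ≤ π.ker ∧ A ≠ ⊥ ∧ (∀ a ∈ A, a ^ 2 = 1) ∧
      ∃ k, 0 < k ∧ Nat.card A = 2 ^ k) := by
  have hfin : Finite ↥(chevF4.group F) := inferInstance
  have hq2 := two_le hp hf
  have hq1 : 1 ≤ p ^ f := by omega
  have hrZ := (dvd_ncl (cls_of hc) hq1 hr).trans hn
  by_cases hne : π.ker = ⊥
  · exact Or.inl hne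
  right
  obtain ⟨t, ht, htk, A, hA, hAk, hA0, hAc, hAt, k, hk0, hk⟩ :=
    h.elem (r := r) ⟨hc, hr, hrZ, rfl⟩ ((bigF4 hq hc hr).subgroup Z) hne
  have htZ : t ∣ Nat.card Z := htk.trans (Subgroup.card_subgroup_dvd_card _)
  have htp : ¬ Prim (p ^ f) c t := fun h1 => h.rk t _ _ ⟨hc, h1, htZ, rfl⟩ htk
  by_cases htP : t ∣ Ph c (p ^ f)
  · have h1 := eq_cc (cls_of hc) hq1 ht htp htP
    rcases hc with rfl | rfl
    · exact absurd (Nat.dvd_one.1 h1) ht.one_lt.ne'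
    · obtain rfl : t = 2 := (Nat.prime_dvd_prime_iff_eq ht Nat.prime_two).1 h1
      refine ⟨rfl, ?_, A, hA, hAk, hA0, hAt, k, hk0, hk⟩
      by_contra h2
      have h3 : 2 ∣ (p ^ f) ^ 4 := (even_iff_two_dvd.1 (Nat.not_odd_iff_even.1 h2)).trans (dvd_pow_self _ (by norm_num))
      have h4 : 2 ∣ (p ^ f) ^ 4 + 1 := htP
      omega
  · exfalso
    have hord : Ord ↥(chevF4.group F) (p ^ f) c (Ph c (p ^ f)) := fun r hr x hx => (bigF4 hq hc hr).card x hx
    have hfree := (hord.sub Z).free (cls_of hc) hq1 ht htP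
    rcases hbig with hlt | ⟨h3, rfl⟩
    · obtain ⟨ρ, hρ⟩ := fth_F4 (F := F)
      exact hA0 (eq_bot_of_dvd (τ := ρ.comp Z.subtype) (hρ.comp Z.subtype_injective) hAc
        (fun h1 => h.pk (h1.trans (Subgroup.card_dvd_of_le hAk))) hn
        (fun x hx hxm a ha hc => hfree x hx hxm a (hAt a ha) hc) (by rwa [Fintype.card_fin]))
    · have hT := named_f4 (F := F) table
      rw [hq, h3] at hT
      rw [h3] at hn hfree htP
      obtain ⟨rfl, rfl⟩ := (Nat.Prime.pow_eq_iff Nat.prime_three).1 h3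
      have h41 : Nat.Prime 41 := by norm_num
      have := Fact.mk h41
      obtain ⟨x, hx⟩ := exists_prime_orderOf_dvd_card' 41 (show 41 ∣ Nat.card Z from hn)
      have h2 := dvd_card_sub_one (A := A) h41 hx fun a ha hc =>
        hfree x (by rw [hx]; exact h41) (by rw [hx]; decide) a (hAt a ha) hc
      rw [hk] at h2
      have h4 : t ^ k ∣ num (.f4 3) := by
        rw [← hT.eq, ← hk]
        exact ((Subgroup.card_subgroup_dvd_card A).trans (Subgroup.card_subgroup_dvd_card Z)).mul_left _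
      obtain ⟨j, hj, hkj⟩ := exists_pair v3 ht hk0 h4
      refine chk41 _ hj ?_ ?_ k (List.mem_range.2 (Nat.lt_succ_of_le hkj)) hk0 h2
      · rintro (rfl : t = 2)
        exact htP (by decide)
      · rintro (rfl : t = 3)
        exact h.pk htk

/-- **class 12** : the kernel is trivial -/
theorem Sct.ker12 (h : Sct p (Bf (p ^ f) (Nat.card Z)) π S) (hp : p.Prime) (hf : 1 ≤ f)
    (hq : Fintype.card F = p ^ f) (h3 : 3 ≤ p ^ f) {r : ℕ} (hr : Prim (p ^ f) 12 r)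
    (hn : Ph 12 (p ^ f) ∣ Nat.card Z) : π.ker = ⊥ := by
  rcases h.ker_cases hp hf hq (Or.inl rfl) hr (by rwa [ncl12_eq]) (Or.inl (ncl12_gt h3)) with h1 | ⟨h1, -⟩
  · exact h1
  · omega

theorem chk2 : ∀ k ∈ List.range 7, ∀ s ∈ List.range 64, 0 < k → 9 < s → s % 8 = 1 →
    (¬ 2 ^ k ≡ 1 [MOD s]) ∧ (2 ^ k ≡ 2 [MOD s] → k = 1) := by
  decide +kernel

/-- **class 8** : the kernel is trivial, or an involution is centralised -/
theorem Sct.ker8 (h : Sct p (Bf (p ^ f) (Nat.card Z)) π S) (hp : p.Prime) (hf : 1 ≤ f)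
    (hq : Fintype.card F = p ^ f) (h3 : 3 ≤ p ^ f) {s : ℕ} (hs : Prim (p ^ f) 8 s)
    (hn : ncl 8 (p ^ f) ∣ Nat.card Z) :
    π.ker = ⊥ ∨ (Odd (p ^ f) ∧ ∃ z : ↥(chevF4.group F), orderOf z = 2 ∧ Z ≤ centralizer {z}) := by
  have hfin : Finite ↥(chevF4.group F) := inferInstance
  have hq1 : 1 ≤ p ^ f := by omega
  have hbig : 52 < ncl 8 (p ^ f) ∨ (p ^ f = 3 ∧ 8 = 8) := by
    rcases eq_or_lt_of_le h3 with h4 | h4
    · exact Or.inr ⟨h4.symm, rfl⟩
    · left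
      apply ncl_gt (by decide)
      have : 4 ^ 4 ≤ (p ^ f) ^ 4 := Nat.pow_le_pow_left h4 4
      show 52 * 2 < (p ^ f) ^ 4 + 1
      omega
  rcases h.ker_cases hp hf hq (Or.inr rfl) hs hn hbig with h1 | ⟨-, ho, A, hA, -, hA0, hAt, k, hk0, hk⟩
  · exact Or.inl h1
  refine Or.inr ⟨ho, ?_⟩
  have := Fact.mk hs.prime
  have hb := (bigF4 hq (Or.inr rfl) hs).subgroup Z
  obtain ⟨x, hx⟩ := exists_prime_orderOf_dvd_card' s ((dvd_ncl (cls_of (Or.inr rfl)) hq1 hs).trans hn)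
  have h1 := card_mod A hs.prime hx
  have h64 : Nat.card A ≤ 64 := (H357.EP.inE6_f4 (F := F) (by rwa [hq]) (MulEquiv.refl _)).card_le_hom
    (fun a => Subtype.ext (by rw [← sq]; exact hAt a a.2)) (Z.subtype.comp A.subtype)
    (Z.subtype_injective.comp A.subtype_injective)
  have hk6 : k < 7 := by
    by_contra h5
    have : 2 ^ 7 ≤ 2 ^ k := Nat.pow_le_pow_right (by norm_num) (by omega)
    omega
  have h2 : Nat.card ↥(A ⊓ centralizer ({x} : Set Z)) = 1 ∨ Nat.card ↥(A ⊓ centralizer ({x} : Set Z)) = 2 := by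
    have h4 : Nat.card ↥(A ⊓ centralizer ({x} : Set Z)) ∣ 2 ^ k := hk ▸ Subgroup.card_dvd_of_le inf_le_left
    have h5 : Nat.card ↥(A ⊓ centralizer ({x} : Set Z)) ∣ Ph 8 (p ^ f) :=
      (Subgroup.card_dvd_of_le inf_le_right).trans (hb.card x hx)
    obtain ⟨j, -, hj⟩ := (Nat.dvd_prime_pow Nat.prime_two).1 h4
    have h6 := not_sq_dvd (cls_of (Or.inr rfl)) hq1 (by decide)
    rw [hj] at h5 ⊢
    rcases (show j = 0 ∨ j = 1 ∨ 2 ≤ j by omega) with rfl | rfl | h7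
    · exact Or.inl rfl
    · exact Or.inr rfl
    · exact absurd ((pow_dvd_pow 2 h7).trans h5) h6
  have h9 : 8 < s := H563.KG.lt_of_prim (by omega) (by norm_num) hs
  have h8 : s % 8 = 1 := by
    have := H563.KG.mod_of_prim (by omega) (by norm_num) hs
    omega
  have h10 : 9 < s := by
    have : s ≠ 9 := by
      rintro rfl
      exact absurd hs.prime (by norm_num)
    omega
  have hk1 : k = 1 := by
    rw [hk] at h1
    by_cases hs64 : s < 64
    · have h5 := chk2 k (List.mem_range.2 hk6) s (List.mem_range.2 hs64) hk0 h10 h8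
      rcases h2 with h2 | h2 <;> rw [h2] at h1
      · exact absurd h1 h5.1
      · exact h5.2 h1
    · have h5 : 2 ^ k ≤ 64 := hk ▸ h64
      have h6 : 2 ^ 1 ≤ 2 ^ k := Nat.pow_le_pow_right (by norm_num) hk0
      unfold Nat.ModEq at h1
      rw [Nat.mod_eq_of_lt (by omega)] at h1
      rcases h2 with h2 | h2 <;> rw [h2, Nat.mod_eq_of_lt (by omega)] at h1
      · omega
      · exact Nat.pow_right_injective le_rfl (show 2 ^ k = 2 ^ 1 from h1)
  rw [hk1, pow_one] at hk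
  obtain ⟨a, ha⟩ := exists_prime_orderOf_dvd_card' 2 (hk ▸ dvd_rfl : 2 ∣ Nat.card A)
  have ha1 : a ≠ 1 := by
    rintro rfl
    rw [orderOf_one] at ha
    omega
  refine ⟨((a : Z) : ↥(chevF4.group F)), by rw [Subgroup.orderOf_coe, Subgroup.orderOf_coe, ha], fun g hg => ?_⟩
  rw [mem_centralizer_singleton_iff]
  obtain ⟨y, -, hy⟩ := (Nat.card_eq_two_iff' (1 : A)).1 hk
  have h4 : (⟨⟨g, hg⟩ * (a : Z) * (⟨g, hg⟩ : Z)⁻¹, hA.conj_mem _ a.2 _⟩ : A) ≠ 1 := by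
    intro h5
    have h6 : (⟨g, hg⟩ : Z) * (a : Z) * (⟨g, hg⟩ : Z)⁻¹ = 1 := congrArg Subtype.val h5
    rw [mul_inv_eq_one, mul_eq_left] at h6
    exact ha1 (Subtype.ext h6)
  have h5 := (hy _ h4).trans (hy _ ha1).symm
  have h6 : (⟨g, hg⟩ : Z) * (a : Z) * (⟨g, hg⟩ : Z)⁻¹ = a := congrArg Subtype.val h5
  rw [mul_inv_eq_iff_eq_mul] at h6
  exact congrArg Subtype.val h6

omit [CharP F p] in
/-- an involution centralised by an element of class 8 -/
theorem card_cent (ho : Odd (Fintype.card F)) {z : ↥(chevF4.group F)} (hz : orderOf z = 2) {s : ℕ}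
    (hs : Prim (Fintype.card F) 8 s) (hd : s ∣ Nat.card ↥(centralizer ({z} : Set ↥(chevF4.group F)))) :
    Nat.card ↥(centralizer ({z} : Set ↥(chevF4.group F))) = Fintype.card F ^ 16 * (Fintype.card F ^ 2 - 1) *
      (Fintype.card F ^ 4 - 1) * (Fintype.card F ^ 6 - 1) * (Fintype.card F ^ 8 - 1) := by
  obtain ⟨a, b, -, -, -, h4, h5, h6⟩ := Cfsg.Agent.S4280.result ho
  have key : ∀ {u v : ↥(chevF4.group F)}, IsConj u v → Nat.card ↥(centralizer ({u} : Set ↥(chevF4.group F))) =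
      Nat.card ↥(centralizer ({v} : Set ↥(chevF4.group F))) := by
    intro u v huv
    obtain ⟨c, hc⟩ := isConj_iff.1 huv
    refine Nat.card_congr ⟨fun y => ⟨c * y.1 * c⁻¹, ?_⟩, fun y => ⟨c⁻¹ * y.1 * c, ?_⟩, fun y => Subtype.ext (by
      show c⁻¹ * (c * y.1 * c⁻¹) * c = y.1
      group), fun y => Subtype.ext (by
      show c * (c⁻¹ * y.1 * c) * c⁻¹ = y.1
      group)⟩
    · have h1 := mem_centralizer_singleton_iff.1 y.2
      rw [mem_centralizer_singleton_iff, ← hc]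
      calc c * y.1 * c⁻¹ * (c * u * c⁻¹) = c * (y.1 * u) * c⁻¹ := by group
        _ = c * (u * y.1) * c⁻¹ := by rw [h1]
        _ = _ := by group
    · have h1 := mem_centralizer_singleton_iff.1 y.2
      rw [mem_centralizer_singleton_iff]
      calc c⁻¹ * y.1 * c * u = c⁻¹ * (y.1 * (c * u * c⁻¹)) * c := by group
        _ = c⁻¹ * (c * u * c⁻¹ * y.1) * c := by rw [hc, h1]
        _ = _ := by group
  rcases h4 z hz with h7 | h7
  · rw [key h7, h5]
  · exfalso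
    rw [key h7, h6] at hd
    have hp := hs.prime
    rcases hp.dvd_mul.1 hd with h8 | h8
    · rcases hp.dvd_mul.1 h8 with h9 | h9
      · rcases hp.dvd_mul.1 h9 with h10 | h10
        · exact hs.not_dvd_pow _ h10
        · exact hs.not_dvd_sub (by norm_num) (hp.dvd_of_dvd_pow h10)
      · exact hs.not_dvd_sub (by norm_num) h9
    · exact hs.not_dvd_sub (by norm_num) h8

end

end Cfsg.Agent.SM.Ex.Id
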