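import Cfsg.Agent.SM.Ex.IdD
import Cfsg.Agent.SM.Ex.KH4
import Cfsg.Agent.SM.Ex.NoFac

/-!
# S3570, `S = F₄(q)`: the factorisations, `q ≥ 3` (helper93)

* `kboth` : half of the classes 8 and 12 generate;
* `factX`, `factY` : the factors;
* `core3` : the row.
-/

set_option autoImplicit false

namespace Cfsg.Agent.SM.Ex.Id

open Cfsg Cfsg.Lie Cfsg.Agent.OrdDiv Cfsg.Agent.H436 Cfsg.Agent.H915.GN Cfsg.Agent.H264.FKS Subgroup
open Cfsg.Agent.H902 Cfsg.Agent.H56.Exc Cfsg.Agent.H563.KG Cfsg.Agent.H946.Exc Cfsg.Agent.H325.Loc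
open Cfsg.Agent.H425.PartP Cfsg.Agent.H425.Chr Cfsg.Agent.H946.KZ Cfsg.Agent.H946.RgF4 Cfsg.Agent.SM.Ex78

theorem small_cls : ∀ q ∈ [2, 3, 4], ∀ c ∈ [12, 8], (ncl c q).Prime ∧ ¬ ncl c q * ncl c q ∣ num (.f4 q) := by
  decide +kernel

theorem cancel {u x B : ℕ} (hx : 0 < x) (hux : u ∣ x) (h : x * x ∣ B * x) (hB : ¬ u ∣ B) : False :=
  hB (hux.trans (Nat.dvd_of_mul_dvd_mul_right hx h))

theorem not_dvd_add' {q e u m : ℕ} (hu : Prim q e u) (he : 2 ≤ e) (hq : 1 ≤ q) (hm : e ∣ m) : ¬ u ∣ q ^ m + 1 := by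
  intro h
  have h1 := Nat.dvd_sub h (hu.dvd hm)
  have h2 : 1 ≤ q ^ m := Nat.one_le_pow _ _ hq
  rw [show q ^ m + 1 - (q ^ m - 1) = 2 by omega] at h1
  exact H290.Wei.prim_ne_two hu he ((Nat.prime_dvd_prime_iff_eq hu.prime Nat.prime_two).1 h1)

theorem sub_pos {q k : ℕ} (hq : 2 ≤ q) (hk : k ≠ 0) : 0 < q ^ k - 1 := Nat.sub_pos_of_lt (Nat.one_lt_pow hk hq)

theorem sub_dvd (q : ℕ) {k l : ℕ} (h : k ∣ l) : q ^ k - 1 ∣ q ^ l - 1 := by
  obtain ⟨m, rfl⟩ := h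
  rw [pow_mul]
  exact Nat.sub_one_dvd_pow_sub_one _ _

/-- the class 3 is missing -/
theorem kill3 {q cD n cK n' d A : ℕ} (hq : 2 ≤ q) (h : num (.f4 q) ∣ cD * n * (cK * n'))
    (hD : cD = q ^ 12 * ((q - 1) * (q ^ 3 + 1) * (q ^ 4 - 1) * (q ^ 6 + 1))) (hn : n ∣ 12 * Ph 12 q)
    (hn' : n' ∣ 8 * Ph 8 q) (hK : d * cK = A * (q ^ 6 - 1)) (hA : ∀ u, Prim q 3 u → ¬ u ∣ A) : False := by
  obtain ⟨u, hu⟩ := exists_prim (q := q) (e := 3) hq le_rfl (by omega)
  have hp := hu.prime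
  refine cancel (x := q ^ 6 - 1) (B := cD * n * n' * A) (sub_pos hq (by norm_num)) (hu.dvd (by norm_num)) ?_ ?_
  · have h1 : (q ^ 6 - 1) * (q ^ 6 - 1) ∣ num (.f4 q) := by
      show _ ∣ q ^ 24 * ((q ^ 2 - 1) * (q ^ 6 - 1) * (q ^ 8 - 1) * (q ^ 12 - 1))
      exact (Nat.mul_dvd_mul ((Dvd.intro_left _ rfl).mul_right _) (sub_dvd q (by norm_num))).mul_left _
    refine (h1.trans h).trans ⟨d, ?_⟩
    rw [mul_assoc (cD * n * n'), ← hK]
    ring
  · refine hp.not_dvd_mul (hp.not_dvd_mul (hp.not_dvd_mul ?_ fun h1 =>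
      not_dvd_cPh hq (Or.inl rfl) le_rfl (by norm_num) hu (h1.trans hn)) fun h1 =>
      not_dvd_cPh hq (Or.inr rfl) le_rfl (by norm_num) hu (h1.trans hn')) (hA u hu)
    rw [hD]
    refine hp.not_dvd_mul (hu.not_dvd_pow _) (hp.not_dvd_mul (hp.not_dvd_mul (hp.not_dvd_mul ?_
      (not_dvd_add' hu (by norm_num) (by omega) dvd_rfl)) (hu.not_dvd_sub (by norm_num)))
      (not_dvd_add' hu (by norm_num) (by omega) (by norm_num)))
    have := hu.not_dvd_sub (m := 1) (by norm_num)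
    rwa [pow_one] at this

/-- the class 4 is missing -/
theorem kill4 {q cD n cK n' d : ℕ} (hq : 2 ≤ q) (h : num (.f4 q) ∣ cD * n * (cK * n'))
    (hD : cD = q ^ 12 * ((q ^ 2 - 1) * (q ^ 6 - 1) * (q ^ 8 + q ^ 4 + 1))) (hn : n ∣ 12 * Ph 12 q)
    (hn' : n' ∣ 8 * Ph 8 q) (hK : d * cK = q ^ 12 * ((q ^ 4 + 1) * ((q ^ 2 - 1) * (q ^ 4 - 1) * (q ^ 6 - 1)))) :
    False := by
  obtain ⟨u, hu⟩ := exists_prim (q := q) (e := 4) hq (by norm_num) (by omega)
  have hp := hu.prime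
  have h2 := hu.not_dvd_sub (m := 2) (by norm_num)
  have h6 := hu.not_dvd_sub (m := 6) (by norm_num)
  refine cancel (x := q ^ 4 - 1) (B := cD * n * n' * (q ^ 12 * ((q ^ 4 + 1) * ((q ^ 2 - 1) * (q ^ 6 - 1)))))
    (sub_pos hq (by norm_num)) (hu.dvd dvd_rfl) ?_ ?_
  · have h1 : (q ^ 4 - 1) * (q ^ 4 - 1) ∣ num (.f4 q) := by
      show _ ∣ q ^ 24 * ((q ^ 2 - 1) * (q ^ 6 - 1) * (q ^ 8 - 1) * (q ^ 12 - 1))
      exact (Nat.mul_dvd_mul ((sub_dvd q (by norm_num)).mul_left _) (sub_dvd q (by norm_num))).mul_left _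
    refine (h1.trans h).trans ⟨d, ?_⟩
    calc cD * n * n' * (q ^ 12 * ((q ^ 4 + 1) * ((q ^ 2 - 1) * (q ^ 6 - 1)))) * (q ^ 4 - 1)
        = cD * n * n' * (q ^ 12 * ((q ^ 4 + 1) * ((q ^ 2 - 1) * (q ^ 4 - 1) * (q ^ 6 - 1)))) := by ring
      _ = _ := by rw [← hK]; ring
  · refine hp.not_dvd_mul (hp.not_dvd_mul (hp.not_dvd_mul ?_ fun h1 =>
      not_dvd_cPh hq (Or.inl rfl) (by norm_num) (by norm_num) hu (h1.trans hn)) fun h1 =>
      not_dvd_cPh hq (Or.inr rfl) (by norm_num) (by norm_num) hu (h1.trans hn'))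
      (hp.not_dvd_mul (hu.not_dvd_pow _) (hp.not_dvd_mul (not_dvd_add' hu (by norm_num) (by omega) dvd_rfl)
        (hp.not_dvd_mul h2 h6)))
    rw [hD, ph12_mul (by omega)]
    refine hp.not_dvd_mul (hu.not_dvd_pow _) (hp.not_dvd_mul (hp.not_dvd_mul h2 h6) (hp.not_dvd_mul
      (not_dvd_Ph' hq (Or.inl rfl) (by norm_num) (by norm_num) hu) fun h1 => h6 (h1.trans ⟨q ^ 2 - 1, ?_⟩)))
    apply Nat.cast_injective (R := ℤ)
    rw [Nat.cast_mul, cast_sub (by omega), cast_sub (by omega)]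
    push_cast
    ring

theorem fac_named {S : Type*} [Group S] [Finite S] {g : Grp} {p f : ℕ} (hp : p.Prime) (hf : 1 ≤ f) (hg : IsNamed g S)
    (hq : qOf g = p ^ f) : (Nat.card S).factorization p = f * ex g :=
  Dt.fac ⟨hp, by omega, Nat.card_pos.ne', hg.cond, hq, hg.eq⟩

/-- a normal subgroup of a simple subgroup -/
theorem eq_of_simple {G : Type*} [Group G] {D X : Subgroup G} (hs : IsSimpleGroup X) (h1 : D ≤ X)
    (h2 : X ≤ normalizer (D : Set G)) (h3 : D ≠ ⊥) : D = X := by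
  have hn : (D.subgroupOf X).Normal := (normal_subgroupOf_iff_le_normalizer h1).2 h2
  rcases hs.eq_bot_or_eq_top_of_normal _ hn with h4 | h4
  · rw [subgroupOf_eq_bot, disjoint_iff, inf_eq_left.2 h1] at h4
    exact absurd h4 h3
  · exact le_antisymm h1 (subgroupOf_eq_top.1 h4)

section

variable {F : Type} [Field F] [Fintype F] {p f : ℕ}

theorem card_F4 : Nat.card ↥(chevF4.group F) = num (.f4 (Fintype.card F)) :=
  (one_mul _).symm.trans (named_f4 (F := F) table).eq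

theorem top_small (hcf : CF) (h4 : Fintype.card F ≤ 4) (B : Subgroup ↥(chevF4.group F))
    (h12 : ∃ r, Prim (Fintype.card F) 12 r ∧ r ∣ Nat.card B) (h8 : ∃ r, Prim (Fintype.card F) 8 r ∧ r ∣ Nat.card B) :
    B = ⊤ := by
  have h2 : 2 ≤ Fintype.card F := Fintype.one_lt_card
  have hm : Fintype.card F ∈ [2, 3, 4] := by
    simp only [List.mem_cons, List.not_mem_nil, or_false]
    omega
  refine K_F4 table cycFixSolv hcf B fun c hc r hr hd => ?_
  have hc' : c = 12 ∨ c = 8 := by simpa using hc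
  obtain ⟨h5, h6⟩ := small_cls _ hm c hc
  have h7 : ∀ r, Prim (Fintype.card F) c r → r = ncl c (Fintype.card F) := fun r hr =>
    (Nat.prime_dvd_prime_iff_eq hr.prime h5).1 (dvd_ncl (cls_of hc') (by omega) hr)
  obtain ⟨r', hr', hd'⟩ : ∃ r, Prim (Fintype.card F) c r ∧ r ∣ Nat.card B := by
    rcases hc' with rfl | rfl
    · exact h12
    · exact h8
  rw [h7 r hr] at hd
  rw [h7 r' hr'] at hd'
  apply h6
  rw [← card_F4, ← B.card_mul_index]
  exact Nat.mul_dvd_mul hd' hd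

/-- half of both classes -/
theorem kboth (hcf : CF) (hp : p.Prime) (hf : 1 ≤ f) (hq : Fintype.card F = p ^ f) (B : Subgroup ↥(chevF4.group F))
    (h8 : Rg.HAt p f 8 B) (h12 : Rg.HAt p f 12 B) : B = ⊤ := by
  by_cases h5 : 5 ≤ p ^ f
  · exact Rg.k812 table cycFixSolv hcf hp hf hq h5 B (hoff2 h8 h12)
  · obtain ⟨r, hr, hrB⟩ := h12.exists_prim hp.two_le hf (by norm_num) (by norm_num)
    obtain ⟨s, hs, hsB⟩ := h8.exists_prim hp.two_le hf (by norm_num) (by norm_num)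
    exact top_small hcf (by omega) B ⟨r, by rw [hq]; exact H813.Rg.prim_of_prim hf hr, hrB⟩
      ⟨s, by rw [hq]; exact H813.Rg.prim_of_prim hf hs, hsB⟩

theorem fac_ge (hp : p.Prime) (hf : 1 ≤ f) (hq : Fintype.card F = p ^ f) {X Y : Subgroup ↥(chevF4.group F)}
    (hd : Pd X Y) : 24 * f ≤ (Nat.card X).factorization p + (Nat.card Y).factorization p := by
  have hfin : Finite ↥(chevF4.group F) := inferInstance
  have h1 := fac_named hp hf (named_f4 (F := F) table) hq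
  have h2 : Nat.card X ≠ 0 := Nat.card_pos.ne'
  have h3 : Nat.card Y ≠ 0 := Nat.card_pos.ne'
  have h4 := (Nat.factorization_le_iff_dvd Nat.card_pos.ne' (mul_ne_zero h2 h3)).2 hd.card_dvd p
  rw [fac_mul h2 h3, h1] at h4
  have h5 : ex (.f4 (Fintype.card F)) = 24 := rfl
  rw [h5] at h4
  omega

variable [CharP F p]

/-- **The factor of class 12.** -/
theorem factX (hcf : CF) (hp : p.Prime) (hf : 1 ≤ f) (hq : Fintype.card F = p ^ f) (h3 : 3 ≤ p ^ f)
    {X : Subgroup ↥(chevF4.group F)} (hX : X ≠ ⊤) {r : ℕ} (hr : Prim p (12 * f) r) (hrX : r ∣ Nat.card X)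
    (hv : 8 * f ≤ (Nat.card X).factorization p) :
    (Nat.card X).factorization p ≤ 12 * f + sc p 12 ∧ ∃ D ≤ X, X ≤ normalizer (D : Set ↥(chevF4.group F)) ∧ ∃ n,
      Nat.card X = Nat.card D * n ∧ n ∣ 12 * Ph 12 (p ^ f) ∧
        ((IsNamed (.td4 (p ^ f)) D ∧ n ∣ 3) ∨ IsNamed (.tf4 (p ^ f)) D) := by
  have hrq := prim_base hf hr
  have hq1 : 1 ≤ p ^ f := by omega
  rcases sct_F hp hf hq X (Or.inl rfl) hrq hrX with h | ⟨W, _, _, π, S, h⟩
  · omega
  have hB : Bf (p ^ f) (Nat.card X) r (Ph 12 (p ^ f)) 12 := ⟨Or.inl rfl, hrq, hrX, rfl⟩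
  have hn := h.nameX hcf hp hf hq h3 hX hr hrX hv
  have h1 := h.fac hp
  have h2 := h.fac_idx hp hf (Or.inl rfl) hrq hrX
  have h4 : (Nat.card S).factorization p = f * 12 := by
    rcases hn with hg | hg
    · exact fac_named hp hf hg rfl
    · exact fac_named hp hf hg rfl
  have h5 : Ph 12 (p ^ f) ∣ Nat.card S := by
    rcases hn with hg | hg
    · rw [card_td4 hg, ph12_mul hq1]
      exact ((Dvd.intro _ rfl).mul_left _).mul_left _
    · rw [card_tf4 hg, ph12_mul' hq1]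
      exact ((Dvd.intro _ rfl).mul_left _).mul_left _
  obtain ⟨D, hD1, hD2, ⟨e⟩, hD3⟩ := h.lift (h.ker12 hp hf hq h3 hrq (h5.trans h.card_dvd))
  refine ⟨by omega, D, hD1, hD2, S.index, hD3, (h.idx hB).1, ?_⟩
  have := h.nor
  rcases hn with hg | hg
  · exact Or.inl ⟨H394.Wei.named_congr hg e, idx_td4 (h.big _ _ _ hB) hrq hg⟩
  · exact Or.inr (H394.Wei.named_congr hg e)

/-- **The factor of class 8.** -/
theorem factY (hcf : CF) (hp : p.Prime) (hf : 1 ≤ f) (hq : Fintype.card F = p ^ f) (h3 : 3 ≤ p ^ f)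
    {Y : Subgroup ↥(chevF4.group F)} (hY : Y ≠ ⊤) {s : ℕ} (hs : Prim p (8 * f) s) (hsY : s ∣ Nat.card Y) :
    (Nat.card Y).factorization p ≤ 8 * f + sc p 8 ∨ ((Nat.card Y).factorization p ≤ 16 * f ∧
      ((Odd (p ^ f) ∧ ¬ IsSimpleGroup Y ∧ ∃ z : ↥(chevF4.group F), orderOf z = 2 ∧ Y ≤ centralizer {z}) ∨
        ∃ K ≤ Y, ∃ n, Nat.card Y = Nat.card K * n ∧ n ∣ 8 * Ph 8 (p ^ f) ∧ (IsNamed (.ominus 4 (p ^ f)) K ∨
          (IsNamed (.psp 4 (p ^ f)) K ∧ (2 ∣ p ^ f → n = 1)) ∨ IsNamed (.oodd 4 (p ^ f)) K))) := by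
  have hsq := prim_base hf hs
  have hq1 : 1 ≤ p ^ f := by omega
  rcases sct_F hp hf hq Y (Or.inr rfl) hsq hsY with h | ⟨W, _, _, π, S, h⟩
  · left
    omega
  have hB : Bf (p ^ f) (Nat.card Y) s (Ph 8 (p ^ f)) 8 := ⟨Or.inr rfl, hsq, hsY, rfl⟩
  have h1 := h.fac hp
  have h2 := h.fac_idx hp hf (Or.inr rfl) hsq hsY
  have := h.nor
  rcases h.nameY hcf hp hf hq h3 hY hs hsY with h4 | hn
  · left
    omega
  right
  have hodd : ¬ 2 ∣ p ^ f → sc p 8 = 0 := by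
    intro h5
    have h6 : p ≠ 2 := by
      rintro rfl
      exact h5 (dvd_pow_self 2 (by omega))
    unfold sc
    rw [if_neg h6]
    split_ifs <;> omega
  have hle : sc p 8 ≤ 3 := by
    unfold sc
    split_ifs <;> omega
  have hv : (Nat.card Y).factorization p ≤ 16 * f := by
    rcases hn with hg | hg | hg
    · have h5 : (Nat.card S).factorization p = f * 12 := fac_named hp hf hg rfl
      omega
    · have h5 : (Nat.card S).factorization p = f * 16 := fac_named hp hf hg rfl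
      by_cases h6 : 2 ∣ p ^ f
      · rw [idx_sp8 (h.big _ _ _ hB) hsq hg h6, Nat.factorization_one, Finsupp.zero_apply] at h1
        omega
      · have := hodd h6
        omega
    · have h5 : (Nat.card S).factorization p = f * 16 := fac_named hp hf hg rfl
      have := hodd fun h6 => (Nat.not_even_iff_odd.2 hg.cond.2.1) (even_iff_two_dvd.2 h6)
      omega
  refine ⟨hv, ?_⟩
  have h5 : ncl 8 (p ^ f) ∣ Nat.card S := by
    have h6 : Nat.Coprime (ncl 8 (p ^ f)) 2 :=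
      ((Nat.Prime.coprime_iff_not_dvd Nat.prime_two).2 (not_dvd_ncl (cls_of (Or.inr rfl)) hq1 (by decide))).symm
    have key : ∀ d, d ∣ 2 ^ 2 → Ph 8 (p ^ f) ∣ d * Nat.card S → ncl 8 (p ^ f) ∣ Nat.card S := fun d hd h7 =>
      ((h6.pow_right 2).coprime_dvd_right hd).dvd_of_dvd_mul_left ((ncl_dvd_Ph _ _).trans h7)
    rcases hn with hg | hg | hg
    · refine key _ (Nat.gcd_dvd_left 4 ((p ^ f) ^ 4 + 1)) ?_
      rw [card_om hg]
      exact (Dvd.intro _ rfl).mul_left _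
    · refine key _ ((Nat.gcd_dvd_left 2 (p ^ f - 1)).trans (by norm_num)) ?_
      rw [card_psp hg, ph8_mul hq1]
      exact ((Dvd.intro _ rfl).mul_left _).mul_left _
    · refine key 2 (by norm_num) ?_
      rw [card_oodd hg, ph8_mul hq1]
      exact ((Dvd.intro _ rfl).mul_left _).mul_left _
  by_cases hk : π.ker = ⊥
  · right
    obtain ⟨K, hK1, -, ⟨e⟩, hK3⟩ := h.lift hk
    refine ⟨K, hK1, S.index, hK3, (h.idx hB).1, ?_⟩
    rcases hn with hg | hg | hg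
    · exact Or.inl (H394.Wei.named_congr hg e)
    · exact Or.inr (Or.inl ⟨H394.Wei.named_congr hg e, idx_sp8 (h.big _ _ _ hB) hsq hg⟩)
    · exact Or.inr (Or.inr (H394.Wei.named_congr hg e))
  · left
    obtain ⟨ho, hz⟩ := (h.ker8 hp hf hq h3 hsq (h5.trans h.card_dvd)).resolve_left hk
    refine ⟨ho, fun hsim => ?_, hz⟩
    rcases hsim.eq_bot_or_eq_top_of_normal π.ker inferInstance with h6 | h6
    · exact hk h6
    · apply h.rk _ _ _ hB
      rwa [h6, Subgroup.card_top]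

/-- **The factorisations, `q ≥ 3`.** -/
theorem core3 (hcf : CF) (hRk : BoxRk) (hOd : BoxOd) (hp : p.Prime) (hf : 1 ≤ f) (hq : Fintype.card F = p ^ f)
    (h3 : 3 ≤ p ^ f) {X Y : Subgroup ↥(chevF4.group F)} (hX : X ≠ ⊤) (hY : Y ≠ ⊤) (hd : Pd X Y) {r s : ℕ}
    (hr : Prim p (12 * f) r) (hrX : r ∣ Nat.card X) (hs : Prim p (8 * f) s) (hsY : s ∣ Nat.card Y)
    (hsim : IsSimpleGroup X ∨ IsSimpleGroup Y) : Row (Fintype.card F) X Y := by
  have hfin : Finite ↥(chevF4.group F) := inferInstance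
  have hq2 : 2 ≤ p ^ f := by omega
  have h1 := fac_ge hp hf hq hd
  have hle : sc p 8 ≤ 3 := by
    unfold sc
    split_ifs <;> omega
  have hsl : sc p 12 + sc p 8 < 4 * f := by
    rw [sc_add]
    unfold sl
    by_cases hp2 : p = 2
    · subst hp2
      have : f ≠ 1 := by rintro rfl; omega
      simp only [if_true]
      omega
    · rw [if_neg hp2]
      split_ifs <;> omega
  have hY' := factY hcf hp hf hq h3 hY hs hsY
  obtain ⟨h2, D, hD1, hD2, n, hD3, hn, hD⟩ := factX hcf hp hf hq h3 hX hr hrX (by rcases hY' with h | ⟨h, -⟩ <;> omega)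
  have hdv := hd.card_dvd
  rw [card_F4, hq, hD3] at hdv
  rcases hY' with h | ⟨-, ⟨ho, hns, z, hz, hYz⟩ | ⟨K, hK1, n', hK3, hn', hK⟩⟩
  · omega
  · exfalso
    rcases hD with ⟨hD, -⟩ | hD
    · have h4 : D = X := eq_of_simple (hsim.resolve_right hns) hD1 hD2 (by
        rintro rfl
        have h5 := fac_named hp hf hD rfl
        rw [Subgroup.card_bot, Nat.factorization_one, Finsupp.zero_apply] at h5
        have h6 : ex (.td4 (p ^ f)) = 12 := rfl
        rw [h6] at h5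
        omega)
      subst h4
      refine hOd F (by rwa [hq]) D z (by rw [hq]; exact hD.real) hz (card_cent (by rwa [hq]) hz (s := s)
        (by rw [hq]; exact prim_base hf hs) (hsY.trans (Subgroup.card_dvd_of_le hYz))) (hd.mono le_rfl hYz)
    · obtain ⟨m, -, hm⟩ := hD.cond
      rw [hm] at ho
      exact (Nat.not_even_iff_odd.2 ho) (even_two.pow_of_ne_zero (by omega))
  rw [hK3] at hdv
  rcases hK with hK | ⟨hK, hn1⟩ | hK
  · exfalso
    rcases hD with ⟨hD, -⟩ | hD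
    · exact kill4 hq2 hdv (card_td4 hD) hn hn' (card_om hK)
    · refine kill3 hq2 hdv (card_tf4 hD) hn hn' (d := Nat.gcd 4 ((p ^ f) ^ 4 + 1))
        (A := (p ^ f) ^ 12 * (((p ^ f) ^ 4 + 1) * (((p ^ f) ^ 2 - 1) * ((p ^ f) ^ 4 - 1))))
        (by rw [card_om hK]; ring) fun u hu => ?_
      exact hu.prime.not_dvd_mul (hu.not_dvd_pow _) (hu.prime.not_dvd_mul (hu.not_dvd_add (by norm_num))
        (hu.prime.not_dvd_mul (hu.not_dvd_sub (by norm_num)) (hu.not_dvd_sub (by norm_num))))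
  · by_cases he : 2 ∣ p ^ f
    · rcases hD with ⟨hD, hn3⟩ | hD
      · obtain rfl : p = 2 := ((Nat.prime_dvd_prime_iff_eq Nat.prime_two hp).1 (Nat.prime_two.dvd_of_dvd_pow he)).symm
        rw [hn1 he, mul_one] at hK3
        obtain rfl : K = Y := Subgroup.eq_of_le_of_card_ge hK1 hK3.le
        rw [hq]
        refine ⟨⟨f, hf, rfl⟩, ⟨D, hD1, hD2, hD.real, ?_⟩, hK.real⟩
        rcases (Nat.dvd_prime Nat.prime_three).1 hn3 with rfl | rfl
        · exact Or.inl (by rw [hD3, mul_one])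
        · exact Or.inr (by rw [hD3, mul_comm])
      · exfalso
        refine kill3 hq2 hdv (card_tf4 hD) hn hn' (d := Nat.gcd 2 (p ^ f - 1))
          (A := (p ^ f) ^ 16 * (((p ^ f) ^ 2 - 1) * ((p ^ f) ^ 4 - 1) * ((p ^ f) ^ 8 - 1)))
          (by rw [card_psp hK]; ring) fun u hu => ?_
        exact hu.prime.not_dvd_mul (hu.not_dvd_pow _) (hu.prime.not_dvd_mul (hu.prime.not_dvd_mul
          (hu.not_dvd_sub (by norm_num)) (hu.not_dvd_sub (by norm_num))) (hu.not_dvd_sub (by norm_num)))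
    · exact absurd (by rw [hq]; exact hK.real)
        (hRk F (by rw [hq]; exact Nat.odd_iff.2 (by omega)) K).1
  · exact absurd (by rw [hq]; exact hK.real) (hRk F (by rw [hq]; exact hK.cond.2.1) K).2

end

end Cfsg.Agent.SM.Ex.Id
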