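import Cfsg.Agent.SM.Ex.IdE

/-!
# S3570, `S = F₄(q)`: the factorisations of `F₄(2)` and the box `BoxId` (helper93)
-/

set_option autoImplicit false

namespace Cfsg.Agent.SM.Ex.Id

open Cfsg Cfsg.Lie Cfsg.Agent.OrdDiv Cfsg.Agent.H436 Cfsg.Agent.H915.GN Cfsg.Agent.H264.FKS Subgroup
open Cfsg.Agent.H902 Cfsg.Agent.H56.Exc Cfsg.Agent.H563.KG Cfsg.Agent.H946.Exc Cfsg.Agent.H325.Loc
open Cfsg.Agent.H425.PartP Cfsg.Agent.H425.Chr Cfsg.Agent.H946.KZ Cfsg.Agent.H946.RgF4 Cfsg.Agent.SM.Ex78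

theorem eq13 {r : ℕ} (h : Prim (2 ^ 1) 12 r) : r = 13 :=
  (Nat.prime_dvd_prime_iff_eq h.prime (by norm_num)).1 (dvd_Ph (cls_of (Or.inl rfl)) (by norm_num) h)

theorem eq17 {r : ℕ} (h : Prim (2 ^ 1) 8 r) : r = 17 :=
  (Nat.prime_dvd_prime_iff_eq h.prime (by norm_num)).1 (dvd_Ph (cls_of (Or.inr rfl)) (by norm_num) h)

theorem prim13 : Prim (2 ^ 1) 12 13 := by
  obtain ⟨r, hr⟩ := exists_prim (q := 2 ^ 1) (e := 12) (by norm_num) (by norm_num) (by norm_num)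
  exact eq13 hr ▸ hr

theorem prim17 : Prim (2 ^ 1) 8 17 := by
  obtain ⟨r, hr⟩ := exists_prim (q := 2 ^ 1) (e := 8) (by norm_num) (by norm_num) (by norm_num)
  exact eq17 hr ▸ hr

theorem chk17 : ∀ x ∈ l2, x.1 ≠ 2 → ∀ k ∈ List.range (x.2 + 1), 0 < k → ¬ 17 ∣ x.1 ^ k - 1 := by decide

theorem chk13 : ∀ x ∈ l2, x.1 ≠ 2 → ∀ k ∈ List.range (x.2 + 1), 0 < k → 13 ∣ x.1 ^ k - 1 →
    x.1 = 3 ∧ (k = 3 ∨ k = 6) := by decide

/-- the Sylow condition -/
theorem Sct.syl {p : ℕ} {B : ℕ → ℕ → ℕ → Prop} {Z W : Type} [Group Z] [Group W] [Finite W] {π : Z →* W}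
    {S : Subgroup W} (h : Sct p B π S) {r e : ℕ} (hB : B r r e) (he : 0 < e) :
    S.index ∈ List.range (e + 1) ∧ Syl r e (Nat.card S) S.index := by
  have hb := h.big _ _ _ hB
  have := Fact.mk hb.prime
  have := h.nor
  obtain ⟨y, hy⟩ := exists_prime_orderOf_dvd_card' r (h.dvd _ _ _ hB)
  obtain ⟨N, k, h1, h2, h3, h4⟩ := idx_syl hb S y (by rw [hy])
  rw [hy] at h4
  obtain ⟨j, rfl⟩ := h4
  have h5 : S.index * j ∣ e := by
    apply Nat.dvd_of_mul_dvd_mul_right hb.prime.pos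
    calc S.index * j * r = S.index * (r * j) := by ring
      _ ∣ e * r := h1
  have h6 : 0 < r * j := Nat.pos_of_mul_pos_right (h2 ▸ Nat.card_pos : 0 < r * j * k)
  refine ⟨List.mem_range.2 (Nat.lt_succ_of_le (Nat.le_of_dvd he ((Dvd.intro _ rfl).trans h5))), j,
    List.mem_range.2 (Nat.lt_succ_of_le (Nat.le_of_dvd he ((Dvd.intro_left _ rfl).trans h5))), h5,
    Dvd.intro _ h2.symm, ?_⟩
  rw [h2, Nat.mul_div_cancel_left _ h6, h3]

theorem four_le {n k : ℕ} (hn : n ≠ 0) (hk : 4 ≤ k) (h : 2 ^ k ∣ n) : ¬ n.factorization 2 ≤ 3 := by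
  have := (Nat.prime_two.pow_dvd_iff_le_factorization hn).1 h
  omega

section

variable {F : Type} [Field F] [Fintype F] [CharP F 2]
variable {Z : Subgroup ↥(chevF4.group F)} {W : Type} [Group W] [Finite W] {π : Z →* W} {S : Subgroup W}

omit [CharP F 2] in
theorem dvd_two (hq : Fintype.card F = 2 ^ 1) (Z : Subgroup ↥(chevF4.group F)) : Nat.card Z ∣ num (.f4 2) := by
  have h1 := Subgroup.card_subgroup_dvd_card Z
  rwa [card_F4, hq] at h1

omit [CharP F 2] [Finite W] in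
/-- a nontrivial kernel, `q = 2` -/
theorem Sct.elem2 (h : Sct 2 (Bf (2 ^ 1) (Nat.card Z)) π S) (hq : Fintype.card F = 2 ^ 1) {c r : ℕ}
    (hc : c = 12 ∨ c = 8) (hr : Prim (2 ^ 1) c r) (hrZ : r ∣ Nat.card Z) (hP : Ph c (2 ^ 1) = r) (hne : π.ker ≠ ⊥) :
    ∃ (A : Subgroup Z) (x : ℕ × ℕ) (k : ℕ), A.Normal ∧ A ≤ π.ker ∧ x ∈ l2 ∧ x.1 ≠ 2 ∧ k ∈ List.range (x.2 + 1) ∧ 0 < k ∧
      Nat.card A = x.1 ^ k ∧ r ∣ x.1 ^ k - 1 := by
  have hfin : Finite ↥(chevF4.group F) := inferInstance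
  have hb := (bigF4 hq hc hr).subgroup Z
  obtain ⟨t, ht, htk, A, hA, hAk, -, -, hAt, k, hk0, hk⟩ := h.elem (r := r) ⟨hc, hr, hrZ, rfl⟩ hb hne
  have := Fact.mk hr.prime
  obtain ⟨x, hx⟩ := exists_prime_orderOf_dvd_card' r hrZ
  have h2 := dvd_card_sub_one (A := A) hr.prime hx fun a ha hc' => by
    have h3 : a ∈ centralizer ({x} : Set Z) := mem_centralizer_singleton_iff.2 hc'.symm
    have h4 := (Subgroup.orderOf_dvd_natCard _ h3).trans (hb.card x hx)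
    rw [hP] at h4
    rcases (Nat.dvd_prime hr.prime).1 h4 with h5 | h5
    · exact orderOf_eq_one_iff.1 h5
    · exfalso
      apply h.rk r _ _ ⟨hc, hr, hrZ, rfl⟩
      rw [← h5]
      exact Subgroup.orderOf_dvd_natCard _ (hAk ha)
  rw [hk] at h2
  obtain ⟨j, hj, hkj⟩ := exists_pair v2 ht hk0
    (hk ▸ (Subgroup.card_subgroup_dvd_card A).trans (dvd_two hq Z))
  refine ⟨A, (t, j), k, hA, hAk, hj, ?_, List.mem_range.2 (Nat.lt_succ_of_le hkj), hk0, hk, h2⟩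
  rintro (rfl : t = 2)
  exact h.pk htk

/-- **The factor of class 8, `q = 2`.** -/
theorem factY2 (hcf : CF) (hq : Fintype.card F = 2 ^ 1) {Y : Subgroup ↥(chevF4.group F)} (h17 : 17 ∣ Nat.card Y)
    (h13 : ¬ 13 ∣ Nat.card Y) (h4 : 2 ^ 4 ∣ Nat.card Y) : ¬ 2 ^ 17 ∣ Nat.card Y ∧ ¬ 49 ∣ Nat.card Y ∧
      (2 ^ 12 ∣ Nat.card Y → 25 ∣ Nat.card Y → Real (.psp 4 2) Y) := by
  have hfin : Finite ↥(chevF4.group F) := inferInstance
  rcases sct_F Nat.prime_two le_rfl hq Y (Or.inr rfl) prim17 h17 with h | ⟨W, _, _, π, S, h⟩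
  · exact absurd h (four_le Nat.card_pos.ne' le_rfl h4)
  have hB : Bf (2 ^ 1) (Nat.card Y) 17 17 8 := ⟨Or.inr rfl, prim17, h17, rfl⟩
  have hk : π.ker = ⊥ := by
    by_contra hne
    obtain ⟨A, x, k, -, -, h1, h2, h3, h5, -, h6⟩ := h.elem2 hq (Or.inr rfl) prim17 h17 rfl hne
    exact chk17 x h1 h2 k h3 h5 h6
  obtain ⟨K, hK1, -, ⟨e⟩, hK3⟩ := h.lift hk
  obtain ⟨g, hg, hr, ho⟩ := good_of hcf h.sim h.na v2 (h.card_dvd.trans (dvd_two hq Y))
  obtain ⟨h5, h6⟩ := h.syl hB (by norm_num)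
  have h7 := h.dvd _ _ _ hB
  have h8 : ¬ 13 ∣ Nat.card S := fun h9 => h13 (h9.trans h.card_dvd)
  rw [ho] at h6 h7 h8
  have h9 := c28 g hg h7 h8 _ h5 h6
  have h10 : Nat.card Y = ordN g * S.index := by rw [hK3, Nat.card_congr e.toEquiv, ho]
  rw [← h10] at h9
  refine ⟨h9.1, h9.2.1, fun h11 h12 => ?_⟩
  obtain ⟨rfl, h14⟩ := h9.2.2 h11 h12
  rw [h14, mul_one] at hK3
  obtain rfl : K = Y := Subgroup.eq_of_le_of_card_ge hK1 hK3.le
  exact H394.Wei.real_congr hr e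

/-- **The factor of class 12, `q = 2`.** -/
theorem factX2 (hcf : CF) (hG : BoxG) (hq : Fintype.card F = 2 ^ 1) {X : Subgroup ↥(chevF4.group F)}
    (h13 : 13 ∣ Nat.card X) (h17 : ¬ 17 ∣ Nat.card X) : ¬ 2 ^ 14 ∣ Nat.card X ∧
      (2 ^ 8 ∣ Nat.card X → 7 ∣ Nat.card X → ∃ D ≤ X, X ≤ normalizer (D : Set ↥(chevF4.group F)) ∧ Real (.td4 2) D ∧
        Nat.card D = ordN (.td4 2) ∧ (Nat.card X = Nat.card D ∨ Nat.card X = 3 * Nat.card D)) := by
  have hfin : Finite ↥(chevF4.group F) := inferInstance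
  rcases sct_F Nat.prime_two le_rfl hq X (Or.inl rfl) prim13 h13 with h | ⟨W, _, _, π, S, h⟩
  · exact ⟨fun h1 => four_le Nat.card_pos.ne' (by norm_num) h1 h,
      fun h1 => absurd h (four_le Nat.card_pos.ne' (by norm_num) h1)⟩
  have hB : Bf (2 ^ 1) (Nat.card X) 13 13 12 := ⟨Or.inl rfl, prim13, h13, rfl⟩
  have hb : Big X 13 13 12 := (bigF4 hq (Or.inl rfl) prim13).subgroup X
  obtain ⟨g, hg, hr, ho⟩ := good_of hcf h.sim h.na v2 (h.card_dvd.trans (dvd_two hq X))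
  obtain ⟨h5, h6⟩ := h.syl hB (by norm_num)
  have h7 := h.dvd _ _ _ hB
  have h8 : ¬ 17 ∣ Nat.card S := fun h9 => h17 (h9.trans h.card_dvd)
  rw [ho] at h6 h7 h8
  have h9 := c212 g hg h7 h8 _ h5 h6
  have h10 : Nat.card X = ordN g * S.index * Nat.card π.ker := by rw [h.card, ho, mul_assoc]
  have hcop : ∀ k, 2 ^ k ∣ Nat.card X → 2 ^ k ∣ ordN g * S.index := fun k hk =>
    (Nat.Coprime.pow_left k ((Nat.Prime.coprime_iff_not_dvd Nat.prime_two).2 h.pk)).dvd_of_dvd_mul_right (h10 ▸ hk)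
  refine ⟨fun h11 => h9.1 (hcop _ h11), fun h11 h12 => ?_⟩
  have p7 : Nat.Prime 7 := by norm_num
  have h7k : ¬ 7 ∣ Nat.card π.ker := by
    refine (bt_of_big hb p7 (by norm_num) fun k hk0 hk h14 => ?_).not_dvd_card p7 hb.prime h13 π.ker (h.rk _ _ _ hB)
    obtain ⟨j, hj, hkj⟩ := exists_pair v2 p7 hk0 (hk.trans (dvd_two hq X))
    have := (chk13 _ hj (by norm_num) k (List.mem_range.2 (Nat.lt_succ_of_le hkj)) hk0 h14).1
    omega
  have h14 := h9.2 (hcop _ h11) ((p7.dvd_mul.1 (h10 ▸ h12)).resolve_right h7k)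
  have hk : π.ker = ⊥ := by
    by_contra hne
    obtain ⟨A, x, k, hA, hAk, h1, h2, h3, h4, hc, h15⟩ := h.elem2 hq (Or.inl rfl) prim13 h13 rfl hne
    obtain ⟨h16, h18⟩ := chk13 x h1 h2 k h3 h4 h15
    rw [h16] at hc
    rcases h18 with rfl | rfl
    · have := Fact.mk p7
      have := Fact.mk hb.prime
      obtain ⟨y, hy⟩ := exists_prime_orderOf_dvd_card' 7 h12
      have h19 := card_mod A p7 hy
      have h20 : Nat.card ↥(A ⊓ centralizer ({y} : Set X)) ∣ 3 ^ 3 := hc ▸ Subgroup.card_dvd_of_le inf_le_left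
      obtain ⟨j, hj3, hj⟩ := (Nat.dvd_prime_pow Nat.prime_three).1 h20
      rw [hc, hj] at h19
      have h21 : j = 3 := by
        interval_cases j
        · exact absurd h19 (by decide)
        · exact absurd h19 (by decide)
        · exact absurd h19 (by decide)
        · rfl
      have h22 : A ⊓ centralizer ({y} : Set X) = A :=
        Subgroup.eq_of_le_of_card_ge inf_le_left (by rw [hc, hj, h21])
      have h23 : y ∈ centralizer (A : Set X) := by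
        rw [mem_centralizer_iff]
        intro a ha
        exact mem_centralizer_singleton_iff.1 ((inf_eq_left.1 h22) ha)
      have h24 : centralizer (A : Set X) ≤ π.ker := by
        refine h.core _ inferInstance ?_
        rintro r m e ⟨rfl | rfl, hr, hrX, -⟩ hd
        · obtain rfl := eq13 hr
          obtain ⟨z, hz⟩ := exists_prime_orderOf_dvd_card' 13 hd
          have h25 : A ≤ centralizer ({(z : X)} : Set X) := fun a ha =>
            mem_centralizer_singleton_iff.2 (mem_centralizer_iff.1 z.2 a ha)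
          have h26 := (Subgroup.card_dvd_of_le h25).trans (hb.card z (by rw [Subgroup.orderOf_coe, hz]))
          rw [hc] at h26
          revert h26
          decide
        · obtain rfl := eq17 hr
          exact h17 hrX
      exact h7k (hy ▸ Subgroup.orderOf_dvd_natCard _ (h24 h23))
    · have h19 : 3 ^ 6 ∣ Nat.card π.ker := hc ▸ Subgroup.card_dvd_of_le hAk
      have h20 : 3 ∣ ordN g := by
        rcases h14 with rfl | ⟨rfl, -⟩ <;> decide +kernel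
      have h21 : 3 * 3 ^ 6 ∣ num (.f4 2) :=
        (Nat.mul_dvd_mul (h20.mul_right _) h19).trans (h10 ▸ dvd_two hq X)
      revert h21
      decide +kernel
  obtain ⟨D, hD1, hD2, ⟨e⟩, hD3⟩ := h.lift hk
  rcases h14 with rfl | ⟨rfl, h15⟩
  · exact absurd (H394.Wei.real_congr hr e) (hG F hq D)
  · refine ⟨D, hD1, hD2, H394.Wei.real_congr hr e, by rw [Nat.card_congr e.toEquiv, ho], ?_⟩
    rcases h15 with h15 | h15
    · exact Or.inl (by rw [hD3, h15, mul_one])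
    · exact Or.inr (by rw [hD3, h15, mul_comm])

theorem pow_split {p a b x y : ℕ} (hp : p.Prime) (h : p ^ (a + b) ∣ x * y) (hx : ¬ p ^ (a + 1) ∣ x) : p ^ b ∣ y := by
  by_cases hy : y = 0
  · rw [hy]
    exact dvd_zero _
  have hx0 : x ≠ 0 := by
    rintro rfl
    exact hx (dvd_zero _)
  rw [hp.pow_dvd_iff_le_factorization (mul_ne_zero hx0 hy), fac_mul hx0 hy] at h
  rw [hp.pow_dvd_iff_le_factorization hx0] at hx
  rw [hp.pow_dvd_iff_le_factorization hy]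
  omega

/-- **The factorisations of `F₄(2)`.** -/
theorem core2 (hcf : CF) (hG : BoxG) (hq : Fintype.card F = 2 ^ 1) {X Y : Subgroup ↥(chevF4.group F)} (hX : X ≠ ⊤)
    (hY : Y ≠ ⊤) (hd : Pd X Y) (h13 : 13 ∣ Nat.card X) (h17 : 17 ∣ Nat.card Y) : Row (Fintype.card F) X Y := by
  have hX17 : ¬ 17 ∣ Nat.card X := fun h => hX (top_small hcf (by omega) X ⟨13, hq ▸ prim13, h13⟩ ⟨17, hq ▸ prim17, h⟩)
  have hY13 : ¬ 13 ∣ Nat.card Y := fun h => hY (top_small hcf (by omega) Y ⟨13, hq ▸ prim13, h⟩ ⟨17, hq ▸ prim17, h17⟩)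
  have hdv := hd.card_dvd
  rw [card_F4, hq] at hdv
  have hdv' : num (.f4 (2 ^ 1)) ∣ Nat.card Y * Nat.card X := by rwa [mul_comm]
  obtain ⟨hX1, hX2⟩ := factX2 hcf hG hq h13 hX17
  have h1 : 2 ^ 11 ∣ Nat.card Y :=
    pow_split (a := 13) Nat.prime_two ((by decide +kernel : 2 ^ (13 + 11) ∣ num (.f4 (2 ^ 1))).trans hdv) hX1
  obtain ⟨hY1, hY2, hY3⟩ := factY2 hcf hq h17 hY13 ((pow_dvd_pow 2 (by norm_num)).trans h1)
  obtain ⟨D, hD1, hD2, hD3, hD4, hD5⟩ := hX2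
    (pow_split (a := 16) Nat.prime_two ((by decide +kernel : 2 ^ (16 + 8) ∣ num (.f4 (2 ^ 1))).trans hdv') hY1)
    (pow_split (a := 1) (b := 1) (by norm_num : Nat.Prime 7)
      ((by decide +kernel : 7 ^ (1 + 1) ∣ num (.f4 (2 ^ 1))).trans hdv') hY2)
  have h2 : Nat.card X ∣ 3 * ordN (.td4 2) := by
    rcases hD5 with h | h <;> rw [h, hD4]
    exact Dvd.intro_left _ rfl
  rw [hq]
  refine ⟨⟨1, le_rfl, rfl⟩, ⟨D, hD1, hD2, hD3, hD5⟩, hY3 ?_ ?_⟩
  · refine pow_split (a := 12) Nat.prime_two ((by decide +kernel : 2 ^ (12 + 12) ∣ num (.f4 (2 ^ 1))).trans hdv)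
      fun h => absurd (h.trans h2) (by decide +kernel)
  · refine pow_split (a := 0) (b := 2) Nat.prime_five
      ((by decide +kernel : 5 ^ (0 + 2) ∣ num (.f4 (2 ^ 1))).trans hdv) fun h => absurd (h.trans h2) (by decide +kernel)

end

/-- **The factorisations of `F₄(q)` with a simple factor.** -/
theorem boxId (hcf : Cf) (hRk : BoxRk) (hOd : BoxOd) (hG : BoxG) : BoxId := by
  intro F _ _ T Y hs hT hY hd
  obtain ⟨p, f, _, hp, hf, hq⟩ := exists_pf F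
  have hcl : ∀ c, c = 12 ∨ c = 8 → H73.Rg.PP p (f * c) ∣ Nat.card ↥(chevF4.group F) := by
    intro c hc
    rw [card_F4, hq]
    show _ ∣ (p ^ f) ^ 24 * (((p ^ f) ^ 2 - 1) * ((p ^ f) ^ 6 - 1) * ((p ^ f) ^ 8 - 1) * ((p ^ f) ^ 12 - 1))
    rcases hc with rfl | rfl
    · exact ((H813.Rg.PP_dvd_pow hp hf (by norm_num) dvd_rfl).mul_left _).mul_left _
    · exact (((H813.Rg.PP_dvd_pow hp hf (by norm_num) dvd_rfl).mul_left _).mul_right _).mul_left _
  have key : ∀ X Y : Subgroup ↥(chevF4.group F), X ≠ ⊤ → Y ≠ ⊤ → Pd X Y → Rg.HAt p f 12 X → Rg.HAt p f 8 Y →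
      IsSimpleGroup X ∨ IsSimpleGroup Y → Row (Fintype.card F) X Y := by
    intro X Y hX hY hd h12 h8 hsim
    obtain ⟨r, hr, hrX⟩ := h12.exists_prim hp.two_le hf (by norm_num) (by norm_num)
    obtain ⟨s, hs, hsY⟩ := h8.exists_prim hp.two_le hf (by norm_num) (by norm_num)
    by_cases h3 : 3 ≤ p ^ f
    · exact core3 hcf hRk hOd hp hf hq h3 hX hY hd (by rwa [mul_comm]) hrX (by rwa [mul_comm]) hsY hsim
    · have h2 : p ^ f = 2 := by have := two_le hp hf; omega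
      obtain ⟨rfl, rfl⟩ := (Nat.Prime.pow_eq_iff Nat.prime_two).1 h2
      exact core2 hcf hG hq hX hY hd (eq13 hr ▸ hrX) (eq17 hs ▸ hsY)
  have hdv : Dv T Y := hd.card_dvd
  rcases hdv.half hp hf (by norm_num) (hcl 12 (Or.inl rfl)) with h12 | h12 <;>
  rcases hdv.half hp hf (by norm_num) (hcl 8 (Or.inr rfl)) with h8 | h8
  · exact absurd (kboth hcf hp hf hq T h8 h12) hT
  · exact Or.inl (key T Y hT hY hd h12 h8 (Or.inl hs))
  · exact Or.inr (key Y T hY hT hd.symm h12 h8 (Or.inr hs))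
  · exact absurd (kboth hcf hp hf hq Y h8 h12) hY

end Cfsg.Agent.SM.Ex.Id
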