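import Cfsg.Agent.H73.Rg.KH8
import Cfsg.Agent.SM.Ex.HMain

/-!
# S3570, exceptional `S`: half classes without exactness (helper93)

The proofs of `H73/Rg/KH8`, with the hypothesis `HAt` reduced to the field `half`.
-/

set_option autoImplicit false

set_option exponentiation.threshold 7000

namespace Cfsg.Agent.SM.Ex.Rg

open Cfsg.Agent.H73.Rg

open Cfsg Cfsg.Agent.OrdDiv Cfsg.Agent.H436 Cfsg.Agent.H902 Cfsg.Agent.H290.ElReg Cfsg.Agent.H290.ElTab
  Cfsg.Agent.H56.Exc Cfsg.Agent.H325.Loc Cfsg.Agent.H915.GN Cfsg.Agent.H264.FKS Cfsg.Agent.H325.IsoExc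

open Cfsg.Agent.H563.KG hiding Ph cc ncl Cls cast_Ph20 cast_Ph24 Ph_pos not_sq_dvd cc_prime ncl_mul ncl_dvd_Ph ncl_pos
  not_dvd_ncl Ph_le prim_of_dvd Ph_dvd good_one

open Cfsg.Agent.H290.Cov30

open Cfsg.Agent.H325.Same (sub_pos' cancel_prime pos_of_dvd)

section

variable {F : Type} [Field F] [Fintype F] {p f : ℕ}

/-- the common part -/
theorem main8 (tb : OrderTable.{0}) (hcyc : CycFixSolv.{0}) (hcf : CF) [CharP F p] (hp : p.Prime) (hf : 1 ≤ f)
    (hq : Fintype.card F = p ^ f) {D : TD} (hY : D.Y = .E8) (hq0 : D.q₀ = 2) (hxs : D.exs = [])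
    (ht : TblH 248 D [] D.e D.e') (hc : D.e = 20 ∨ D.e = 24) (hc' : D.e' = 24 ∨ D.e' = 30) (hne : D.e ≠ D.e')
    (B : Subgroup ↥(Lie.chevE8.group F)) (h1 : HAt p f D.e B) (h2 : HAt p f D.e' B) :
    ∃ S : Subgroup B, ConH p f (fun c => Ph c (p ^ f)) (fun c => c) D.e D.e' S ∧ ∃ g, IsNamed g S ∧ HasChar p g := by
  have := Fact.mk hp
  have hfin : Finite ↥(Lie.chevE8.group F) := inferInstance
  have hT := named_e8 (F := F) tb
  rw [hq] at hT
  have hq2 : 2 ≤ p ^ f := hp.two_le.trans (Nat.le_self_pow (by omega) p)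
  have hq1 : 1 ≤ p ^ f := by omega
  have hOL : num (.e8 (p ^ f)) = OL .E8 (p ^ f) := rfl
  have hdT : Nat.card ↥(Lie.chevE8.group F) ∣ OL .E8 (p ^ f) := by
    rw [← hOL, ← hT.eq]
    exact Dvd.intro_left _ rfl
  have hmem : ∀ c ∈ [D.e, D.e'], c = 20 ∨ c = 24 ∨ c = 30 := by
    intro c hc
    simp only [List.mem_cons, List.not_mem_nil, or_false] at hc
    omega
  have hbig : ∀ c ∈ [D.e, D.e'], ∀ r, Prim (p ^ f) c r → Big ↥(Lie.chevE8.group F) r (Ph c (p ^ f)) c :=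
    fun c hc r hr => big8 hq hq1 (hmem c hc) hr
  have hord : ∀ c ∈ [D.e, D.e'], Ord ↥(Lie.chevE8.group F) (p ^ f) c (Ph c (p ^ f)) :=
    fun c hc r hr x hx => (hbig c hc r hr).card x hx
  have me : D.e ∈ [D.e, D.e'] := by simp
  have me' : D.e' ∈ [D.e, D.e'] := by simp
  refine mainH tb hcyc hcf altAut (M := fun c => Ph c (p ^ f)) (E := fun c => c) ht hp hf (by rw [hq0]; exact hq2)
    (F := F) fth_E8 (by rw [hY]; exact hdT) hbig h1 h2 ?_ (by simp [hxs]) me (fun r hr => ?_) (fun t ht htp htc htc' _ => ?_)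
    (by simp)
  · exact sepH hp hf (M := fun c => Ph c (p ^ f)) (E := fun c => c) (by omega) (by omega) h1 h2
      (fun c hc => Ph_dvd (show Cls c from hmem c hc) hq1) (fun c hc s hs hd => le_seven'' hs (hmem c hc) hd)
      (fun h => by have := Nat.le_of_dvd (by omega) h; omega) (fun h => by
        rcases hc with hc | hc <;> rcases hc' with hc' | hc' <;> rw [hc, hc'] at h <;> omega)
  · exact piso_E8 (F := F) hc (by rw [hq]; exact hr)
  · exact good8 hp hf (hmem _ me) (hmem _ me') hne ((hord _ me).sub B) ((hord _ me').sub B)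
      ((Subgroup.card_subgroup_dvd_card B).trans hdT) h1.half h2.half ht htc htc'

/-- **`E₈(q)`, the classes 24, 30.** -/
theorem KH8a (tb : OrderTable.{0}) (hcyc : CycFixSolv.{0}) (hcf : CF) [CharP F p] (hp : p.Prime) (hf : 1 ≤ f)
    (hq : Fintype.card F = p ^ f) (B : Subgroup ↥(Lie.chevE8.group F)) (hoff : HOff p f [24, 30] B) : B = ⊤ := by
  have := Fact.mk hp
  have hT := named_e8 (F := F) tb
  rw [hq] at hT
  obtain ⟨S, hS, g, hg, hch⟩ := main8 tb hcyc hcf hp hf hq (D := D8a) rfl rfl rfl tblH_8a (Or.inr rfl) (Or.inr rfl)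
    (by decide) B (hoff 24 (by decide)) (hoff 30 (by decide))
  have := hS.nor
  have hdS : Nat.card S ∣ num (.e8 (p ^ f)) := IsNamed.card_dvd hT S
  obtain ⟨r, hr, hrS⟩ := hS.h1 24 (by decide)
  have hr' := prim_q hf hr
  have hpiso : PIso p r S :=
    ((piso_E8 (F := F) (Or.inr rfl) (by rw [hq]; exact hr') : PIso p r ↥(Lie.chevE8.group F)).sub B).sub S
  rcases Cfsg.Agent.H72.Same.charp_e8_2430 hp hf hg.cond hch hg.eq hdS (hS.h1 24 (by decide)) (hS.h1 30 (by decide)) with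
    rfl | rfl | rfl | rfl | rfl | rfl
  · exact (kill_psl5 hp hg hr' hrS hpiso).elim
  · have h6 : Nat.gcd 2 (p ^ (f * 3) - 1) * Nat.card S = (p ^ (f * 3)) ^ (5 ^ 2) * prB (p ^ (f * 3)) 5 := hg.eq
    exact (kill_q3 hp hf (Nat.gcd_pos_of_pos_left _ (by norm_num))
      ((Nat.gcd_le_left _ (by norm_num)).trans (by norm_num)) h6 hdS).elim
  · have h6 : 2 * Nat.card S = (p ^ (f * 3)) ^ (5 ^ 2) * prB (p ^ (f * 3)) 5 := hg.eq
    exact (kill_q3 hp hf (by norm_num) (by norm_num) h6 hdS).elim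
  · have h6 : Nat.gcd 4 ((p ^ (f * 3)) ^ 6 - 1) * Nat.card S =
        (p ^ (f * 3)) ^ (6 * (6 - 1)) * (((p ^ (f * 3)) ^ 6 - 1) * prB (p ^ (f * 3)) (6 - 1)) := hg.eq
    rw [← mul_assoc] at h6
    exact (kill_q3 hp hf (Nat.gcd_pos_of_pos_left _ (by norm_num))
      (Nat.gcd_le_left _ (by norm_num)) h6 hdS).elim
  · exact (kill_ominus5 hp hg hr' hrS hpiso).elim
  · exact eq_top_of_name hT hg

/-- **`E₈(q)`, the classes 20, 30.** -/
theorem KH8b (tb : OrderTable.{0}) (hcyc : CycFixSolv.{0}) (hcf : CF) [CharP F p] (hp : p.Prime) (hf : 1 ≤ f)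
    (hq : Fintype.card F = p ^ f) (B : Subgroup ↥(Lie.chevE8.group F)) (hoff : HOff p f [20, 30] B) : B = ⊤ := by
  have := Fact.mk hp
  have hT := named_e8 (F := F) tb
  rw [hq] at hT
  obtain ⟨S, hS, g, hg, hch⟩ := main8 tb hcyc hcf hp hf hq (D := D8b) rfl rfl rfl tblH_8b (Or.inl rfl) (Or.inr rfl)
    (by decide) B (hoff 20 (by decide)) (hoff 30 (by decide))
  have := hS.nor
  have hdS : Nat.card S ∣ num (.e8 (p ^ f)) := IsNamed.card_dvd hT S
  obtain ⟨r, hr, hrS⟩ := hS.h1 20 (by decide)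
  have hr' := prim_q hf hr
  have hpiso : PIso p r S :=
    ((piso_E8 (F := F) (Or.inl rfl) (by rw [hq]; exact hr') : PIso p r ↥(Lie.chevE8.group F)).sub B).sub S
  rcases Cfsg.Agent.H72.Same.charp_e8_2030 hp hf hg.cond hch hg.eq hdS (hS.h1 20 (by decide)) (hS.h1 30 (by decide)) with
    rfl | rfl | rfl | rfl | rfl | ⟨k, hk, rfl⟩ | rfl
  · exact (kill_psl3' hp hg hr' hrS hpiso).elim
  · have h6 : Nat.gcd 2 (p ^ (f * 5) - 1) * Nat.card S = (p ^ (f * 5)) ^ (3 ^ 2) * prB (p ^ (f * 5)) 3 := hg.eq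
    exact (kill_q5 hp hf (Nat.gcd_pos_of_pos_left _ (by norm_num))
      ((Nat.gcd_le_left _ (by norm_num)).trans (by norm_num)) h6 hdS).elim
  · have h6 : 2 * Nat.card S = (p ^ (f * 5)) ^ (3 ^ 2) * prB (p ^ (f * 5)) 3 := hg.eq
    exact (kill_q5 hp hf (by norm_num) (by norm_num) h6 hdS).elim
  · exact (kill_psu4q5 hp hf hg.eq hdS).elim
  · have h6 : Nat.gcd 4 ((p ^ (f * 5)) ^ 4 - 1) * Nat.card S =
        (p ^ (f * 5)) ^ (4 * (4 - 1)) * (((p ^ (f * 5)) ^ 4 - 1) * prB (p ^ (f * 5)) (4 - 1)) := hg.eq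
    rw [← mul_assoc] at h6
    exact (kill_q5 hp hf (Nat.gcd_pos_of_pos_left _ (by norm_num))
      (Nat.gcd_le_left _ (by norm_num)) h6 hdS).elim
  · exact (kill_f4q5 hp hf hk hg.eq hdS).elim
  · exact eq_top_of_name hT hg

/-- **`E₈(q)`, the classes 20, 24.** -/
theorem KH8c (tb : OrderTable.{0}) (hcyc : CycFixSolv.{0}) (hcf : CF) [CharP F p] (hp : p.Prime) (hf : 1 ≤ f)
    (hq : Fintype.card F = p ^ f) (B : Subgroup ↥(Lie.chevE8.group F)) (hoff : HOff p f [20, 24] B) : B = ⊤ := by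
  have := Fact.mk hp
  have hT := named_e8 (F := F) tb
  rw [hq] at hT
  obtain ⟨S, hS, g, hg, hch⟩ := main8 tb hcyc hcf hp hf hq (D := D8c) rfl rfl rfl tblH_8c (Or.inl rfl) (Or.inl rfl)
    (by decide) B (hoff 20 (by decide)) (hoff 24 (by decide))
  have := hS.nor
  have hdS : Nat.card S ∣ num (.e8 (p ^ f)) := IsNamed.card_dvd hT S
  obtain rfl := Cfsg.Agent.H72.Same.charp_e8_2024 hp hf hg.cond hch hg.eq hdS (hS.h1 20 (by decide)) (hS.h1 24 (by decide))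
  exact eq_top_of_name hT hg

end

end Cfsg.Agent.SM.Ex.Rg
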