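import Mathlib
import Cfsg.Prelude.Def_Classical

/-!
# S3570, box `BoxRk`: an elementary abelian group of order `64` in `PSp₈(q)`, `q` odd (helper44)

* `Has64 T` : `T` contains an elementary abelian 2-group of order `64`;
* `six` : an extraspecial group of order `2 ^ 7` modulo the centre;
* `has64_psp` : the image of `Q₈ ⊗ D₈ ⊗ D₈`.
-/

set_option autoImplicit false

namespace Cfsg.Agent.SM.Ex.Rk

open Cfsg Matrix Subgroup

/-- `T` contains an elementary abelian 2-group of order `64` -/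
def Has64 (T : Type*) [Group T] : Prop :=
  ∃ (A : Type) (_ : Group A) (_ : Finite A) (f : A →* T), Function.Injective f ∧ (∀ x : A, x * x = 1) ∧
    Nat.card A = 64

/-- the cyclic group of order two -/
abbrev C2 : Type := Multiplicative (ZMod 2)

/-- the homomorphism from `C₂` -/
def invHom {G : Type*} [Group G] (a : G) (ha : a * a = 1) : C2 →* G :=
  MonoidHom.mk' (fun x => if x = 1 then 1 else a) (by
    intro x y
    have h : ∀ x : C2, x = 1 ∨ x = Multiplicative.ofAdd 1 := by decide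
    have h1 : (Multiplicative.ofAdd 1 : C2) ≠ 1 := by decide
    have h2 : (Multiplicative.ofAdd 1 : C2) * Multiplicative.ofAdd 1 = 1 := by decide
    rcases h x with rfl | rfl <;> rcases h y with rfl | rfl
    · simp
    · simp
    · simp
    · rw [h2, if_pos rfl, if_neg h1, ha])

theorem invHom_apply {G : Type*} [Group G] (a : G) (ha : a * a = 1) (x : C2) :
    invHom a ha x = if x = 1 then 1 else a := rfl

/-- one more involution -/
theorem exists_ext {G : Type*} [Group G] {A : Type} [Group A] [Finite A] (hA : ∀ x : A, x * x = 1) (f : A →* G)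
    (hf : Function.Injective f) {t : G} (ht : t * t = 1) (hc : ∀ x, f x * t = t * f x) (hn : ∀ x, f x ≠ t) :
    ∃ g : A × C2 →* G, Function.Injective g ∧ (∀ x : A × C2, x * x = 1) ∧ Nat.card (A × C2) = Nat.card A * 2 ∧
      ∀ x, g x = f x.1 ∨ g x = f x.1 * t := by
  have hcomm : ∀ (m : A) (n : C2), Commute (f m) (invHom t ht n) := by
    intro m n
    rw [invHom_apply]
    split_ifs
    · exact Commute.one_right _
    · exact hc m
  refine ⟨MonoidHom.noncommCoprod f (invHom t ht) hcomm, ?_, ?_, ?_, ?_⟩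
  · rw [injective_iff_map_eq_one]
    rintro ⟨x, y⟩ hxy
    rw [MonoidHom.noncommCoprod_apply, invHom_apply] at hxy
    dsimp only at hxy
    split_ifs at hxy with hy
    · rw [mul_one] at hxy
      exact Prod.ext ((injective_iff_map_eq_one f).1 hf _ hxy) hy
    · exfalso
      apply hn x
      calc f x = f x * (t * t) := by rw [ht, mul_one]
        _ = t := by rw [← mul_assoc, hxy, one_mul]
  · intro x
    refine Prod.ext (hA _) ?_
    have : ∀ y : C2, y * y = 1 := by decide
    exact this _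
  · rw [Nat.card_prod, Nat.card_congr Multiplicative.toAdd, Nat.card_zmod]
  · intro x
    rw [MonoidHom.noncommCoprod_apply, invHom_apply]
    split_ifs
    · exact Or.inl (mul_one _)
    · exact Or.inr rfl

section six

variable {K : Type*} [Group K]

/-- an elementary abelian 2-group of order `n` in the group generated by the image of `S` -/
def Good (n : ℕ) (S : List K) : Prop :=
  ∃ (A : Type) (_ : Group A) (_ : Finite A) (f : A →* K ⧸ center K), Function.Injective f ∧ (∀ x : A, x * x = 1) ∧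
    Nat.card A = n ∧ ∀ H : Subgroup (K ⧸ center K), (∀ s ∈ S, QuotientGroup.mk' (center K) s ∈ H) → ∀ x, f x ∈ H

theorem good_nil : Good 1 ([] : List K) :=
  ⟨PUnit, inferInstance, inferInstance, 1, fun _ _ _ => rfl, fun _ => rfl, by simp, fun H _ _ => H.one_mem⟩

theorem Good.step {n : ℕ} {S : List K} (h : Good n S) {z t d : K} (hz : z ∈ center K) (hz1 : z ≠ 1)
    (ht : t * t = 1 ∨ t * t = z) (hc : ∀ s ∈ S, s * t = t * s ∨ s * t = z * (t * s)) (hd : ∀ s ∈ S, s * d = d * s)
    (htd : t * d = z * (d * t) ∨ d * t = z * (t * d)) : Good (n * 2) (t :: S) := by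
  obtain ⟨A, i1, i2, f, h1, h2, h3, h4⟩ := h
  have hz' : QuotientGroup.mk' (center K) z = 1 := (QuotientGroup.eq_one_iff z).2 hz
  obtain ⟨g, g1, g2, g3, g4⟩ := exists_ext h2 f h1 (t := QuotientGroup.mk' (center K) t)
    (by
      rw [← map_mul]
      rcases ht with ht | ht
      · rw [ht, map_one]
      · rw [ht, hz'])
    (fun x => by
      have h5 := h4 (centralizer {QuotientGroup.mk' (center K) t}) (fun s hs => by
        rw [mem_centralizer_singleton_iff, ← map_mul, ← map_mul]
        rcases hc s hs with h | h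
        · rw [h]
        · rw [h, map_mul, hz', one_mul]) x
      exact mem_centralizer_singleton_iff.1 h5)
    (fun x hx => by
      have h5 := h4 ((centralizer {d}).map (QuotientGroup.mk' (center K))) (fun s hs =>
        ⟨s, mem_centralizer_singleton_iff.2 (hd s hs), rfl⟩) x
      rw [hx] at h5
      obtain ⟨c, hc1, hc2⟩ := h5
      obtain ⟨w, hw, hw'⟩ := (QuotientGroup.mk'_eq_mk' _).1 hc2
      have h6 : c * d = d * c := mem_centralizer_singleton_iff.1 hc1
      have h7 : t * d = d * t := by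
        rw [← hw', mul_assoc, ← mem_center_iff.1 hw d, ← mul_assoc, h6, mul_assoc]
      apply hz1
      rcases htd with h | h
      · rw [h7] at h
        exact (right_eq_mul.1 h)
      · rw [h7] at h
        exact (right_eq_mul.1 h))
  refine ⟨A × C2, inferInstance, inferInstance, g, g1, g2, by rw [g3, h3], fun H hH x => ?_⟩
  have h5 : ∀ y, f y ∈ H := h4 H fun s hs => hH s (List.mem_cons_of_mem _ hs)
  rcases g4 x with h | h <;> rw [h]
  · exact h5 _
  · exact H.mul_mem (h5 _) (hH t List.mem_cons_self)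

/-- **an extraspecial group of order `2 ^ 7`** -/
theorem six {z a b c d e f : K} (hz : z ∈ center K) (hz1 : z ≠ 1) (ha : a * a = z) (hb : b * b = z) (hc : c * c = 1)
    (hd : d * d = 1) (he : e * e = 1) (hf : f * f = 1) (ab : a * b = z * (b * a)) (cd : c * d = z * (d * c))
    (ef : e * f = z * (f * e)) (ac : a * c = c * a) (ad : a * d = d * a) (ae : a * e = e * a) (af : a * f = f * a)
    (bc : b * c = c * b) (bd : b * d = d * b) (be : b * e = e * b) (bf : b * f = f * b) (ce : c * e = e * c)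
    (cf : c * f = f * c) (de : d * e = e * d) (df : d * f = f * d) : Has64 (K ⧸ center K) := by
  have h1 := (good_nil (K := K)).step (t := a) (d := b) hz hz1 (.inr ha) (by simp) (by simp) (.inl ab)
  have h2 := h1.step (t := b) (d := a) hz hz1 (.inr hb) (by simp [ab]) (by simp) (.inr ab)
  have h3 := h2.step (t := c) (d := d) hz hz1 (.inl hc) (by simp [ac, bc]) (by simp [ad, bd]) (.inl cd)
  have h4 := h3.step (t := d) (d := c) hz hz1 (.inl hd) (by simp [ad, bd, cd]) (by simp [ac, bc]) (.inr cd)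
  have h5 := h4.step (t := e) (d := f) hz hz1 (.inl he) (by simp [ae, be, ce, de]) (by simp [af, bf, cf, df]) (.inl ef)
  have h6 := h5.step (t := f) (d := e) hz hz1 (.inl hf) (by simp [af, bf, cf, df, ef]) (by simp [ae, be, ce, de])
    (.inr ef)
  obtain ⟨A, i1, i2, g, g1, g2, g3, -⟩ := h6
  exact ⟨A, i1, i2, g, g1, g2, g3⟩

end six

section sp

variable {F : Type*} [Field F]

/-- integral matrices -/
abbrev MZ : Type := Matrix (Fin 4) (Fin 4) ℤ

/-- the image of an integral matrix -/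
def im (F : Type*) [Field F] : MZ →+* Matrix (Fin 4) (Fin 4) F := (Int.castRingHom F).mapMatrix

/-- the tensor product -/
def tn (g : Matrix (Fin 2) (Fin 2) F) (h : MZ) : Matrix (Fin 4 ⊕ Fin 4) (Fin 4 ⊕ Fin 4) F :=
  fromBlocks (g 0 0 • im F h) (g 0 1 • im F h) (g 1 0 • im F h) (g 1 1 • im F h)

theorem tn_mul (g g' : Matrix (Fin 2) (Fin 2) F) (h h' : MZ) : tn g h * tn g' h' = tn (g * g') (h * h') := by
  unfold tn
  rw [fromBlocks_multiply]
  simp only [Matrix.smul_mul, Matrix.mul_smul, smul_smul, ← add_smul, map_mul, Matrix.mul_apply, Fin.sum_univ_two,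
    mul_comm]

theorem tn_neg (g : Matrix (Fin 2) (Fin 2) F) (h : MZ) : tn g (-h) = tn (-g) h := by
  unfold tn
  simp only [map_neg, smul_neg, Matrix.neg_apply, neg_smul]

theorem tn_one : tn (1 : Matrix (Fin 2) (Fin 2) F) 1 = 1 := by
  unfold tn
  simp

theorem tn_negone : tn (-1 : Matrix (Fin 2) (Fin 2) F) 1 = -1 := by
  unfold tn
  rw [← fromBlocks_one, fromBlocks_neg]
  simp

theorem tn_tr (g : Matrix (Fin 2) (Fin 2) F) (h : MZ) : (tn g h)ᵀ = tn gᵀ hᵀ := by
  unfold tn
  rw [fromBlocks_transpose]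
  rfl

theorem tn_J : J (Fin 4) F = tn !![0, -1; 1, 0] 1 := by
  unfold tn J
  simp

theorem tn_mem {g : Matrix (Fin 2) (Fin 2) F} (hg : g.det = 1) {h : MZ} (hh : h * hᵀ = 1) :
    tn g h ∈ symplecticGroup (Fin 4) F := by
  rw [SymplecticGroup.mem_iff, tn_J, tn_tr, tn_mul, tn_mul, mul_one, hh]
  congr 1
  rw [det_fin_two] at hg
  ext i j
  fin_cases i <;> fin_cases j <;> simp [Matrix.mul_apply, Fin.sum_univ_two]
  · ring
  · linear_combination -hg
  · linear_combination hg
  · ring

/-- the element of the symplectic group -/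
def el (g : Matrix (Fin 2) (Fin 2) F) (hg : g.det = 1) (h : MZ) (hh : h * hᵀ = 1) : symplecticGroup (Fin 4) F :=
  ⟨tn g h, tn_mem hg hh⟩

/-- the central involution -/
def zz (F : Type*) [Field F] : symplecticGroup (Fin 4) F := el (-1) (by simp [det_fin_two]) 1 (by simp)

theorem zz_center : zz F ∈ center (symplecticGroup (Fin 4) F) := by
  rw [mem_center_iff]
  intro g
  apply Subtype.ext
  show (g : Matrix _ _ F) * tn (-1) 1 = tn (-1) 1 * (g : Matrix _ _ F)
  rw [tn_negone, mul_neg, neg_mul, mul_one, one_mul]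

theorem zz_ne (h2 : (2 : F) ≠ 0) : zz F ≠ 1 := by
  intro h
  have h1 : tn (-1 : Matrix (Fin 2) (Fin 2) F) 1 = 1 := congrArg Subtype.val h
  rw [tn_negone] at h1
  have h3 := congrFun (congrFun h1 (.inl 0)) (.inl 0)
  rw [Matrix.neg_apply, Matrix.one_apply_eq] at h3
  apply h2
  linear_combination -h3

variable {g g' : Matrix (Fin 2) (Fin 2) F} {hg : g.det = 1} {hg' : g'.det = 1} {h h' : MZ} {hh : h * hᵀ = 1}
  {hh' : h' * h'ᵀ = 1}

theorem el_comm (h1 : g * g' = g' * g) (h2 : h * h' = h' * h) :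
    el g hg h hh * el g' hg' h' hh' = el g' hg' h' hh' * el g hg h hh := by
  apply Subtype.ext
  show tn g h * tn g' h' = tn g' h' * tn g h
  rw [tn_mul, tn_mul, h1, h2]

theorem el_anti (h1 : g * g' = -(g' * g)) (h2 : h * h' = h' * h) :
    el g hg h hh * el g' hg' h' hh' = zz F * (el g' hg' h' hh' * el g hg h hh) := by
  apply Subtype.ext
  show tn g h * tn g' h' = tn (-1) 1 * (tn g' h' * tn g h)
  rw [tn_mul, tn_mul, tn_mul, h1, h2, neg_mul, one_mul, one_mul]

theorem el_anti' (h1 : g * g' = g' * g) (h2 : h * h' = -(h' * h)) :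
    el g hg h hh * el g' hg' h' hh' = zz F * (el g' hg' h' hh' * el g hg h hh) := by
  apply Subtype.ext
  show tn g h * tn g' h' = tn (-1) 1 * (tn g' h' * tn g h)
  rw [tn_mul, tn_mul, tn_mul, h1, h2, tn_neg, neg_mul, one_mul, one_mul]

theorem el_sq (h1 : g * g = 1) (h2 : h * h = 1) : el g hg h hh * el g hg h hh = 1 := by
  apply Subtype.ext
  show tn g h * tn g h = 1
  rw [tn_mul, h1, h2, tn_one]

theorem el_sq' (h1 : g * g = -1) (h2 : h * h = 1) : el g hg h hh * el g hg h hh = zz F := by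
  apply Subtype.ext
  show tn g h * tn g h = tn (-1) 1
  rw [tn_mul, h1, h2]

/-- signs -/
def d1 : MZ := !![1, 0, 0, 0; 0, 1, 0, 0; 0, 0, -1, 0; 0, 0, 0, -1]
/-- signs -/
def d2 : MZ := !![1, 0, 0, 0; 0, -1, 0, 0; 0, 0, 1, 0; 0, 0, 0, -1]
/-- a permutation -/
def p1 : MZ := !![0, 0, 1, 0; 0, 0, 0, 1; 1, 0, 0, 0; 0, 1, 0, 0]
/-- a permutation -/
def p2 : MZ := !![0, 1, 0, 0; 1, 0, 0, 0; 0, 0, 0, 1; 0, 0, 1, 0]

theorem tab : (d1 * d1ᵀ = 1 ∧ p1 * p1ᵀ = 1 ∧ d2 * d2ᵀ = 1 ∧ p2 * p2ᵀ = 1) ∧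
    (d1 * d1 = 1 ∧ p1 * p1 = 1 ∧ d2 * d2 = 1 ∧ p2 * p2 = 1) ∧ (d1 * p1 = -(p1 * d1) ∧ d2 * p2 = -(p2 * d2)) ∧
    (d1 * d2 = d2 * d1 ∧ d1 * p2 = p2 * d1 ∧ p1 * d2 = d2 * p1 ∧ p1 * p2 = p2 * p1) := by
  decide +kernel

/-- **an elementary abelian group of order `64` in `PSp₈(q)`, `q` odd** -/
theorem has64_psp [Fintype F] (h2 : (2 : F) ≠ 0) : Has64 (PSp 4 F) := by
  obtain ⟨a, b, hab⟩ : ∃ a b : F, a ^ 2 + b ^ 2 = -1 := by
    have := ringChar.charP F
    have : NeZero (ringChar F) := ⟨CharP.char_ne_zero_of_finite F _⟩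
    obtain ⟨a, b, h⟩ := CharP.sq_add_sq F (ringChar F) (-1)
    exact ⟨a, b, by simpa using h⟩
  obtain ⟨⟨t1, t2, t3, t4⟩, ⟨s1, s2, s3, s4⟩, ⟨a1, a2⟩, c1, c2, c3, c4⟩ := tab
  have hi : (!![0, -1; 1, 0] : Matrix (Fin 2) (Fin 2) F).det = 1 := by simp [det_fin_two]
  have hj : (!![a, b; b, -a] : Matrix (Fin 2) (Fin 2) F).det = 1 := by
    simp only [det_fin_two_of]
    linear_combination -hab
  have h11 : (1 : MZ) * (1 : MZ)ᵀ = 1 := by simp
  refine six (z := zz F) (a := el _ hi 1 h11) (b := el _ hj 1 h11) (c := el 1 det_one d1 t1) (d := el 1 det_one p1 t2)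
    (e := el 1 det_one d2 t3) (f := el 1 det_one p2 t4) zz_center (zz_ne h2) (el_sq' ?_ (one_mul _))
    (el_sq' ?_ (one_mul _)) (el_sq (one_mul _) s1) (el_sq (one_mul _) s2) (el_sq (one_mul _) s3)
    (el_sq (one_mul _) s4) (el_anti ?_ rfl) (el_anti' rfl a1) (el_anti' rfl a2)
    (el_comm (by simp) (by simp)) (el_comm (by simp) (by simp)) (el_comm (by simp) (by simp))
    (el_comm (by simp) (by simp)) (el_comm (by simp) (by simp)) (el_comm (by simp) (by simp))
    (el_comm (by simp) (by simp)) (el_comm (by simp) (by simp)) (el_comm rfl c1) (el_comm rfl c2) (el_comm rfl c3)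
    (el_comm rfl c4)
  · ext i j
    fin_cases i <;> fin_cases j <;> simp [Matrix.mul_apply, Fin.sum_univ_two]
  · ext i j
    fin_cases i <;> fin_cases j <;> simp [Matrix.mul_apply, Fin.sum_univ_two]
    · linear_combination hab
    · ring
    · ring
    · linear_combination hab
  · ext i j
    fin_cases i <;> fin_cases j <;> simp [Matrix.mul_apply, Fin.sum_univ_two]

end sp

end Cfsg.Agent.SM.Ex.Rk
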